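import Cfsg.Agent.H127.UnitRoots

/-!
# The element orders of `PSU₃(q)`, `q` odd: upper bound (helper127)
-/

set_option autoImplicit false

namespace Cfsg.Agent.H127.PSUThree

open Matrix Polynomial Cfsg.Agent.H127.UnitRoots

section three

variable {K : Type*} [Field K]

/-- the characteristic polynomial of a 3 × 3 matrix over an algebraically closed field -/
theorem exists_roots [IsAlgClosed K] (N : Matrix (Fin 3) (Fin 3) K) :
    ∃ a b c : K, N.charpoly = (X - C a) * (X - C b) * (X - C c) := by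
  have h1 : N.charpoly.Splits := IsAlgClosed.splits _
  have h2 : N.charpoly.natDegree = 3 := by rw [Matrix.charpoly_natDegree_eq_dim, Fintype.card_fin]
  have h3 : Multiset.card N.charpoly.roots = 3 := by
    have h := splits_iff_card_roots.1 h1
    rw [h2] at h
    exact h
  obtain ⟨a, b, c, h4⟩ := Multiset.card_eq_three.1 h3
  refine ⟨a, b, c, ?_⟩
  have h5 := h1.eq_prod_roots_of_monic (Matrix.charpoly_monic N)
  rw [h5, h4]
  simp [mul_assoc]

theorem det_eq {N : Matrix (Fin 3) (Fin 3) K} {a b c : K} (h : N.charpoly = (X - C a) * (X - C b) * (X - C c)) :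
    N.det = a * b * c := by
  have h1 := congrArg (eval 0) h
  rw [Matrix.eval_charpoly, map_zero, zero_sub, Matrix.det_neg, Fintype.card_fin] at h1
  simp only [eval_mul, eval_sub, eval_X, eval_C, zero_sub] at h1
  have : N.det = -((-1) ^ 3 * N.det) := by ring
  rw [this, h1]
  ring

/-- if the `k`-th powers of the eigenvalues coincide, then the `kp`-th power is scalar -/
theorem pow_scalar_of_eq (p : ℕ) [Fact p.Prime] [CharP K p] (hp : p ≠ 2) {N : Matrix (Fin 3) (Fin 3) K} {a b c : K}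
    (h : N.charpoly = (X - C a) * (X - C b) * (X - C c)) {k : ℕ} (h1 : a ^ k = b ^ k) (h2 : b ^ k = c ^ k) :
    N ^ (k * p) = ((c ^ k) ^ p) • (1 : Matrix (Fin 3) (Fin 3) K) := by
  have hdvd : ∀ x : K, x ^ k = c ^ k → (X - C x) ∣ (X ^ k - C (c ^ k) : K[X]) := by
    intro x hx
    rw [dvd_iff_isRoot, IsRoot.def, eval_sub, eval_pow, eval_X, eval_C, hx, sub_self]
  have h3 : N.charpoly ∣ (X ^ k - C (c ^ k)) * (X ^ k - C (c ^ k)) * (X ^ k - C (c ^ k)) := by
    rw [h]
    exact mul_dvd_mul (mul_dvd_mul (hdvd a (h1.trans h2)) (hdvd b h2)) (hdvd c rfl)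
  obtain ⟨g, hg⟩ := h3
  have h4 : (N ^ k - (c ^ k) • 1) ^ 3 = 0 := by
    have h5 : aeval N ((X ^ k - C (c ^ k)) * (X ^ k - C (c ^ k)) * (X ^ k - C (c ^ k)) : K[X]) = 0 := by
      rw [hg, map_mul, Matrix.aeval_self_charpoly, zero_mul]
    rw [map_mul, map_mul, map_sub, map_pow, aeval_X, aeval_C, Algebra.algebraMap_eq_smul_one] at h5
    rw [pow_succ, pow_two]
    exact h5
  have hp3 : 3 ≤ p := by
    have := (Fact.out : p.Prime).two_le
    omega
  have h6 : (N ^ k - (c ^ k) • 1) ^ p = 0 := pow_eq_zero_of_le hp3 h4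
  have hcomm : Commute (N ^ k) ((c ^ k) • (1 : Matrix (Fin 3) (Fin 3) K)) := by
    rw [Commute, SemiconjBy, Matrix.mul_smul, Matrix.smul_mul, mul_one, one_mul]
  have : CharP (Matrix (Fin 3) (Fin 3) K) p := Matrix.charP p
  rw [sub_pow_char_of_commute p hcomm, sub_eq_zero, _root_.smul_pow, one_pow, ← pow_mul] at h6
  exact h6

/-- if the eigenvalues are distinct with equal `k`-th powers, then the `k`-th power is scalar -/
theorem pow_scalar_of_distinct {N : Matrix (Fin 3) (Fin 3) K} {a b c : K}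
    (h : N.charpoly = (X - C a) * (X - C b) * (X - C c)) (hab : a ≠ b) (hbc : b ≠ c) (hac : a ≠ c) {k : ℕ}
    (h1 : a ^ k = b ^ k) (h2 : b ^ k = c ^ k) : N ^ k = (c ^ k) • (1 : Matrix (Fin 3) (Fin 3) K) := by
  have hdvd : ∀ x : K, x ^ k = c ^ k → (X - C x) ∣ (X ^ k - C (c ^ k) : K[X]) := by
    intro x hx
    rw [dvd_iff_isRoot, IsRoot.def, eval_sub, eval_pow, eval_X, eval_C, hx, sub_self]
  have hcop : ∀ x y : K, x ≠ y → IsCoprime (X - C x) (X - C y) := fun x y hxy =>
    isCoprime_X_sub_C_of_isUnit_sub (sub_ne_zero.2 hxy).isUnit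
  have h3 : N.charpoly ∣ (X ^ k - C (c ^ k)) := by
    rw [h]
    refine IsCoprime.mul_dvd ?_ (IsCoprime.mul_dvd (hcop a b hab) (hdvd a (h1.trans h2)) (hdvd b h2)) (hdvd c rfl)
    exact IsCoprime.mul_left (hcop a c hac) (hcop b c hbc)
  obtain ⟨g, hg⟩ := h3
  have h5 : aeval N (X ^ k - C (c ^ k) : K[X]) = 0 := by
    rw [hg, map_mul, Matrix.aeval_self_charpoly, zero_mul]
  rw [map_sub, map_pow, aeval_X, aeval_C, Algebra.algebraMap_eq_smul_one, sub_eq_zero] at h5
  exact h5

end three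

section arith

variable {K : Type*} [Field K]

theorem inv_pow_eq {a : K} {q k : ℕ} (h : a ^ (k * (q + 1)) = 1) : ((a ^ q)⁻¹) ^ k = a ^ k := by
  rw [inv_pow, ← pow_mul]
  symm
  apply eq_inv_of_mul_eq_one_left
  rw [← pow_add, show k + q * k = k * (q + 1) by ring, h]

/-- the transposition case -/
theorem case_transp {q d k : ℕ} {a b c : K} (ha : a ≠ 0) (hq : 2 ≤ q) (hk : d * k = q ^ 2 - 1) (hd1 : d ∣ q + 1)
    (hd2 : d ∣ q - 2) (habc : a * b * c = 1) (h1 : a ^ q * b = 1) (h2 : b ^ q * a = 1) :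
    a ^ k = b ^ k ∧ b ^ k = c ^ k := by
  have hb : b = (a ^ q)⁻¹ := (inv_eq_of_mul_eq_one_right h1).symm
  have haq : a ^ (q ^ 2 - 1) = 1 := by
    have h3 : a ^ (q ^ 2) = a := by
      rw [hb, inv_pow, ← pow_mul, ← pow_two, inv_mul_eq_one₀ (pow_ne_zero _ ha)] at h2
      exact h2
    have h4 : a ^ (q ^ 2 - 1) * a = 1 * a := by
      rw [one_mul, ← pow_succ, Nat.sub_add_cancel (Nat.one_le_pow _ _ (by omega)), h3]
    exact mul_right_cancel₀ ha h4
  obtain ⟨s, hs⟩ := hd1
  obtain ⟨t, ht⟩ := hd2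
  have h5 : a ^ (k * (q + 1)) = 1 := by
    rw [hs, show k * (d * s) = d * k * s by ring, hk, pow_mul, haq, one_pow]
  have h6 : a ^ (k * (q - 2)) = 1 := by
    rw [ht, show k * (d * t) = d * k * t by ring, hk, pow_mul, haq, one_pow]
  have h7 : b ^ k = a ^ k := by
    rw [hb]
    exact inv_pow_eq h5
  have h8 : c = a ^ (q - 1) := by
    have h10 : a * c = a * a ^ (q - 1) := by
      rw [← pow_succ', Nat.sub_add_cancel (by omega)]
      calc a * c = (a ^ q * b) * (a * c) := by rw [h1, one_mul]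
        _ = a ^ q * (a * b * c) := by ring
        _ = a ^ q := by rw [habc, mul_one]
    exact mul_left_cancel₀ ha h10
  have h9 : c ^ k = a ^ k := by
    rw [h8, ← pow_mul]
    have : (q - 1) * k = k * (q - 2) + k := by
      obtain ⟨r, rfl⟩ : ∃ r, q = r + 2 := ⟨q - 2, by omega⟩
      simp only [Nat.add_sub_cancel]
      rw [show r + 2 - 1 = r + 1 by omega]
      ring
    rw [this, pow_add, h6, one_mul]
  exact ⟨h7.symm, h7.trans h9.symm⟩

/-- the 3-cycle case -/
theorem case_cycle {q d k : ℕ} {a b c : K} (ha : a ≠ 0) (hq : 2 ≤ q) (hk : d * k = q ^ 2 - q + 1) (hd1 : d ∣ q + 1)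
    (habc : a * b * c = 1) (h1 : a ^ q * b = 1) (h2 : b ^ q * c = 1) :
    a ^ k = b ^ k ∧ b ^ k = c ^ k := by
  have hb : b = (a ^ q)⁻¹ := (inv_eq_of_mul_eq_one_right h1).symm
  have hb0 : b ≠ 0 := by rw [hb]; exact inv_ne_zero (pow_ne_zero _ ha)
  have hc : c = a ^ (q ^ 2) := by
    have : c = (b ^ q)⁻¹ := (inv_eq_of_mul_eq_one_right h2).symm
    rw [this, hb, inv_pow, inv_inv, ← pow_mul, ← pow_two]
  have haq : a ^ (q ^ 2 - q + 1) = 1 := by
    have h3 : a ^ (q ^ 2) * a = a ^ q := by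
      have h4 : a ^ q * (a * b * c) = a ^ q := by rw [habc, mul_one]
      rw [← h4, ← hc]
      have h5 : a ^ q * (a * b * c) = (a ^ q * b) * (a * c) := by ring
      rw [h5, h1, one_mul, mul_comm]
    have h6 : a ^ (q ^ 2 - q + 1) * a ^ q = 1 * a ^ q := by
      rw [one_mul, ← pow_add]
      have h7 : q ≤ q ^ 2 := by nlinarith
      rw [show q ^ 2 - q + 1 + q = q ^ 2 + 1 by omega, pow_succ, h3]
    exact mul_right_cancel₀ (pow_ne_zero _ ha) h6
  obtain ⟨s, hs⟩ := hd1
  have h5 : a ^ (k * (q + 1)) = 1 := by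
    rw [hs, show k * (d * s) = d * k * s by ring, hk, pow_mul, haq, one_pow]
  have h7 : b ^ k = a ^ k := by
    rw [hb]
    exact inv_pow_eq h5
  have h8 : c ^ k = b ^ k := by
    have h9 : b ^ (k * (q + 1)) = 1 := by
      rw [pow_mul, h7, ← pow_mul, h5]
    have h10 : c = (b ^ q)⁻¹ := (inv_eq_of_mul_eq_one_right h2).symm
    rw [h10]
    exact inv_pow_eq h9
  exact ⟨h7.symm, h8.symm⟩

/-- the case of a repeated eigenvalue -/
theorem case_repeated {q k s : ℕ} {a c : K} (σ : K →+* K) (hσ : ∀ x, σ x = x ^ q) (ha : a ≠ 0)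
    (hk : 3 * k = (q + 1) * s) (hac : a * a * c = 1) (h1 : a ^ q * a = 1 ∨ a ^ q * c = 1)
    (h2 : c ^ q * a = 1 ∨ c ^ q * c = 1) : a ^ k = c ^ k := by
  have hc : c = (a * a)⁻¹ := (inv_eq_of_mul_eq_one_right hac).symm
  have hc0 : c ≠ 0 := by rw [hc]; exact inv_ne_zero (mul_ne_zero ha ha)
  rcases h1 with h1 | h1
  · have h3 : a ^ (3 * k) = 1 := by
      rw [hk, pow_mul, pow_succ, h1, one_pow]
    rw [hc, inv_pow]
    apply eq_inv_of_mul_eq_one_left
    rw [mul_pow, ← pow_add, ← pow_add, show k + (k + k) = 3 * k by ring, h3]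
  · have h4 : a ^ q = a * a := by
      have : a ^ q = c⁻¹ := eq_inv_of_mul_eq_one_left h1
      rw [this, hc, inv_inv]
    rcases h2 with h2 | h2
    · -- `c = a`
      have h5 : c ^ q = (a ^ q * a ^ q)⁻¹ := by rw [hc, inv_pow, mul_pow]
      rw [h5, h4] at h2
      have h6 : a = a * a * (a * a) := by
        rw [inv_mul_eq_one₀ (mul_ne_zero (mul_ne_zero ha ha) (mul_ne_zero ha ha))] at h2
        exact h2.symm
      have h7 : a * a * a = 1 := by
        have h8 : a * (a * a * a) = a * 1 := by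
          rw [mul_one]
          calc a * (a * a * a) = a * a * (a * a) := by ring
            _ = a := h6.symm
        exact mul_left_cancel₀ ha h8
      have h8 : c = a := by
        rw [hc]
        exact inv_eq_of_mul_eq_one_right h7
      rw [h8]
    · have h5 : σ a = σ c := by
        rw [hσ, hσ]
        have e1 : a ^ q = c⁻¹ := eq_inv_of_mul_eq_one_left h1
        have e2 : c ^ q = c⁻¹ := eq_inv_of_mul_eq_one_left h2
        rw [e1, e2]
      rw [σ.injective h5]

end arith

/-- **upper bound for the element orders of `PSU₃(q)`, `q` odd** -/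
theorem order_dvd {F : Type*} [Field F] [Fintype F] (p : ℕ) [Fact p.Prime] [CharP F p] (hp : p ≠ 2) (q : ℕ)
    (hF : Fintype.card F = q ^ 2) (g : Cfsg.SU 3 F q) :
    orderOf (QuotientGroup.mk g : Cfsg.PSU 3 F q) ∣ q + 1 ∨
      orderOf (QuotientGroup.mk g : Cfsg.PSU 3 F q) ∣ p * (q + 1) / Nat.gcd 3 (q + 1) ∨
      orderOf (QuotientGroup.mk g : Cfsg.PSU 3 F q) ∣ (q ^ 2 - 1) / Nat.gcd 3 (q + 1) ∨
      orderOf (QuotientGroup.mk g : Cfsg.PSU 3 F q) ∣ (q ^ 2 - q + 1) / Nat.gcd 3 (q + 1) := by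
  classical
  have hq2 : 2 ≤ q := Cfsg.Agent.ClassicalGeometry.GUBasic.two_le hF
  let K := AlgebraicClosure F
  have : CharP K p := charP_of_injective_algebraMap (algebraMap F K).injective p
  obtain ⟨σ, hσ⟩ := exists_pow_hom hF K
  set d := Nat.gcd 3 (q + 1) with hd
  have hd0 : 0 < d := Nat.gcd_pos_of_pos_left _ (by norm_num)
  have hd1 : d ∣ q + 1 := Nat.gcd_dvd_right _ _
  have hd3 : d ∣ 3 := Nat.gcd_dvd_left _ _
  have hd2 : d ∣ q - 2 := by
    have h1 : q + 1 = (q - 2) + 3 := by omega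
    rw [h1] at hd1
    exact (Nat.dvd_add_left hd3).1 hd1
  have hdk1 : d * ((q ^ 2 - 1) / d) = q ^ 2 - 1 := by
    apply Nat.mul_div_cancel'
    have h1 : q ^ 2 - 1 = (q + 1) * (q - 1) := by
      have := Nat.sq_sub_sq q 1
      simpa using this
    rw [h1]
    exact Dvd.dvd.mul_right hd1 _
  have hdk2 : d * ((q ^ 2 - q + 1) / d) = q ^ 2 - q + 1 := by
    apply Nat.mul_div_cancel'
    have h1 : q ^ 2 - q + 1 = (q + 1) * (q - 2) + 3 := by
      obtain ⟨r, rfl⟩ : ∃ r, q = r + 2 := ⟨q - 2, by omega⟩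
      simp only [Nat.add_sub_cancel]
      have h2 : (r + 2) ^ 2 = (r + 2) + (r + 2) * (r + 1) := by ring
      rw [h2, Nat.add_sub_cancel_left]
      ring
    rw [h1]
    exact (Nat.dvd_add_right (Dvd.dvd.mul_right hd1 _)).2 hd3
  obtain ⟨s, hs⟩ := hd3
  have hdk3 : 3 * ((q + 1) / d) = (q + 1) * s := by
    conv_lhs => rw [hs]
    rw [show d * s * ((q + 1) / d) = (d * ((q + 1) / d)) * s by ring, Nat.mul_div_cancel' hd1]
  have hpd : p * (q + 1) / d = ((q + 1) / d) * p := by
    rw [Nat.mul_div_assoc _ hd1, mul_comm]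
  set N := (mat g).map (algebraMap F K) with hN
  obtain ⟨a, b, c, hchar⟩ := exists_roots N
  have hdet : a * b * c = 1 := by
    rw [← det_eq hchar, hN]
    have h1 : ((mat g).map (algebraMap F K)).det = algebraMap F K (mat g).det := by
      rw [← RingHom.mapMatrix_apply, ← RingHom.map_det]
    rw [h1, mat_det, map_one]
  have hroot : ∀ x, N.charpoly.eval x = 0 ↔ x = a ∨ x = b ∨ x = c := by
    intro x
    rw [hchar]
    simp only [eval_mul, eval_sub, eval_X, eval_C, mul_eq_zero, sub_eq_zero]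
    tauto
  have hinv : ∀ x, (x = a ∨ x = b ∨ x = c) → x ≠ 0 ∧ (x ^ q * a = 1 ∨ x ^ q * b = 1 ∨ x ^ q * c = 1) := by
    intro x hx
    obtain ⟨h1, h2⟩ := root_inv hF (mat_unit g (by omega)) ((hroot x).2 hx)
    refine ⟨h1, ?_⟩
    have h3 : ∀ y, (x ^ q)⁻¹ = y → x ^ q * y = 1 := by
      rintro y rfl
      exact mul_inv_cancel₀ (pow_ne_zero _ h1)
    rcases (hroot _).1 h2 with h | h | h
    · exact Or.inl (h3 _ h)
    · exact Or.inr (Or.inl (h3 _ h))
    · exact Or.inr (Or.inr (h3 _ h))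
  obtain ⟨ha0, ha⟩ := hinv a (Or.inl rfl)
  obtain ⟨hb0, hb⟩ := hinv b (Or.inr (Or.inl rfl))
  obtain ⟨hc0, hc⟩ := hinv c (Or.inr (Or.inr rfl))
  -- descent
  have hfin : ∀ (k : ℕ) (e : K), N ^ k = e • 1 → orderOf (QuotientGroup.mk g : Cfsg.PSU 3 F q) ∣ k := by
    intro k e he
    apply orderOf_dvd_of_pow_eq_one
    apply psu_pow_eq_one
    apply scalar_descend (K := K) (e := e)
    rw [← he, hN, ← RingHom.mapMatrix_apply, ← RingHom.mapMatrix_apply, map_pow]
  -- injectivity of the power map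
  have hinj : ∀ {x y z : K}, x ^ q * z = 1 → y ^ q * z = 1 → x = y := by
    intro x y z h1 h2
    apply σ.injective
    rw [hσ, hσ, eq_inv_of_mul_eq_one_left h1, eq_inv_of_mul_eq_one_left h2]
  have hchar2 : N.charpoly = (X - C b) * (X - C c) * (X - C a) := by rw [hchar]; ring
  have hchar3 : N.charpoly = (X - C a) * (X - C c) * (X - C b) := by rw [hchar]; ring
  by_cases hab : a = b
  · subst hab
    right; left
    rw [hpd]
    have h1 := case_repeated σ hσ ha0 hdk3 hdet (by tauto) (by tauto)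
    exact hfin _ _ (pow_scalar_of_eq p hp hchar rfl h1)
  by_cases hbc : b = c
  · subst hbc
    right; left
    rw [hpd]
    have h1 := case_repeated (a := b) (c := a) σ hσ hb0 hdk3 (by rw [← hdet]; ring) (by tauto) (by tauto)
    exact hfin _ _ (pow_scalar_of_eq p hp hchar2 rfl h1)
  by_cases hac : a = c
  · subst hac
    right; left
    rw [hpd]
    have h1 := case_repeated (a := a) (c := b) σ hσ ha0 hdk3 (by rw [← hdet]; ring) (by tauto) (by tauto)
    exact hfin _ _ (pow_scalar_of_eq p hp hchar3 rfl h1)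
  -- distinct eigenvalues
  have hD := fun k h1 h2 => pow_scalar_of_distinct (k := k) hchar hab hbc hac h1 h2
  rcases ha with ha | ha | ha
  · rcases hb with hb | hb | hb
    · exact absurd (hinj ha hb) hab
    · rcases hc with hc | hc | hc
      · exact absurd (hinj ha hc) hac
      · exact absurd (hinj hb hc) hbc
      · -- all of norm one
        left
        apply hfin _ (c ^ (q + 1))
        apply hD
        · rw [pow_succ, ha, pow_succ, hb]
        · rw [pow_succ, hb, pow_succ, hc]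
    · rcases hc with hc | hc | hc
      · exact absurd (hinj ha hc) hac
      · -- `(b c)`
        right; right; left
        obtain ⟨h1, h2⟩ := case_transp (a := b) (b := c) (c := a) hb0 hq2 hdk1 hd1 hd2 (by rw [← hdet]; ring) hb hc
        exact hfin _ _ (hD _ (h1.trans h2).symm h1)
      · exact absurd (hinj hb hc) hbc
  · rcases hb with hb | hb | hb
    · rcases hc with hc | hc | hc
      · exact absurd (hinj hb hc) hbc
      · exact absurd (hinj ha hc) hac
      · -- `(a b)`
        right; right; left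
        obtain ⟨h1, h2⟩ := case_transp (a := a) (b := b) (c := c) ha0 hq2 hdk1 hd1 hd2 hdet ha hb
        exact hfin _ _ (hD _ h1 h2)
    · exact absurd (hinj ha hb) hab
    · rcases hc with hc | hc | hc
      · -- `a → b → c → a`
        right; right; right
        obtain ⟨h1, h2⟩ := case_cycle (a := a) (b := b) (c := c) ha0 hq2 hdk2 hd1 hdet ha hb
        exact hfin _ _ (hD _ h1 h2)
      · exact absurd (hinj ha hc) hac
      · exact absurd (hinj hb hc) hbc
  · rcases hb with hb | hb | hb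
    · rcases hc with hc | hc | hc
      · exact absurd (hinj hb hc) hbc
      · -- `a → c → b → a`
        right; right; right
        obtain ⟨h1, h2⟩ := case_cycle (a := a) (b := c) (c := b) ha0 hq2 hdk2 hd1 (by rw [← hdet]; ring) ha hc
        exact hfin _ _ (hD _ (h1.trans h2) h2.symm)
      · exact absurd (hinj ha hc) hac
    · rcases hc with hc | hc | hc
      · -- `(a c)`
        right; right; left
        obtain ⟨h1, h2⟩ := case_transp (a := a) (b := c) (c := b) ha0 hq2 hdk1 hd1 hd2 (by rw [← hdet]; ring) ha hc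
        exact hfin _ _ (hD _ (h1.trans h2) h2.symm)
      · exact absurd (hinj hb hc) hbc
      · exact absurd (hinj ha hc) hac
    · exact absurd (hinj ha hb) hab

end Cfsg.Agent.H127.PSUThree
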