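import Cfsg.Agent.H127.UnitSinger

/-!
# The element orders of `PSU₃(q)`, `q` odd: existence (helper127)
-/

set_option autoImplicit false

namespace Cfsg.Agent.H127.PSUThreeEx

open Matrix Cfsg.Agent.H127.UnitRoots Cfsg.Agent.H186 Cfsg.Agent.H127.UnitSinger

section num

/-- `n ∣ m k` implies `n / gcd(m, n) ∣ k` -/
theorem div_gcd_dvd {n m k : ℕ} (hn : 0 < n) (h : n ∣ m * k) : n / Nat.gcd m n ∣ k := by
  have hg : 0 < Nat.gcd m n := Nat.gcd_pos_of_pos_right _ hn
  obtain ⟨n', hn'⟩ := Nat.gcd_dvd_right m n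
  obtain ⟨m', hm'⟩ := Nat.gcd_dvd_left m n
  have hcop : Nat.Coprime (n / Nat.gcd m n) (m / Nat.gcd m n) :=
    (Nat.coprime_div_gcd_div_gcd hg).symm
  apply hcop.dvd_of_dvd_mul_left
  have h1 : n / Nat.gcd m n = n' := Nat.div_eq_of_eq_mul_right hg hn'
  have h2 : m / Nat.gcd m n = m' := Nat.div_eq_of_eq_mul_right hg hm'
  rw [h1, h2]
  have h3 : Nat.gcd m n * n' ∣ Nat.gcd m n * (m' * k) := by
    rw [← hn', ← mul_assoc, ← hm']
    exact h
  exact Nat.dvd_of_mul_dvd_mul_left hg h3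

end num

variable {F : Type*} [Field F] [Fintype F] {q : ℕ}

theorem exists_unit_order (hF : Fintype.card F = q ^ 2) {N : ℕ} (hN : N ∣ q ^ 2 - 1) : ∃ a : Fˣ, orderOf a = N := by
  have hcard : Nat.card Fˣ = q ^ 2 - 1 := by rw [Nat.card_units, Nat.card_eq_fintype_card, hF]
  obtain ⟨g, hg⟩ := IsCyclic.exists_generator (α := Fˣ)
  have h1 : orderOf g = q ^ 2 - 1 := by rw [orderOf_eq_card_of_forall_mem_zpowers hg, hcard]
  have h2 : orderOf g ≠ 0 := (orderOf_pos g).ne'
  exact ⟨g ^ (orderOf g / N), orderOf_pow_orderOf_div h2 (h1 ▸ hN)⟩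

theorem succ_dvd (q : ℕ) : q + 1 ∣ q ^ 2 - 1 := by
  have h1 : q ^ 2 - 1 = (q + 1) * (q - 1) := by
    have := Nat.sq_sub_sq q 1
    simpa using this
  rw [h1]
  exact dvd_mul_right _ _

theorem dvd_of_unit {a : Fˣ} {k : ℕ} (h : (a : F) ^ k = 1) : orderOf a ∣ k := by
  apply orderOf_dvd_of_pow_eq_one
  apply Units.ext
  rw [Units.val_pow_eq_pow_val, h, Units.val_one]

/-- the torus of order `(q + 1)²` -/
theorem ex_one (hF : Fintype.card F = q ^ 2) : ∀ s, s ∣ q + 1 → ∃ z : Cfsg.PSU 3 F q, orderOf z = s := by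
  obtain ⟨a, ha⟩ := exists_unit_order hF (succ_dvd q)
  have ha1 : (a : F) ^ q * a = 1 := by
    rw [← pow_succ, ← ha, ← Units.val_pow_eq_pow_val, pow_orderOf_eq_one, Units.val_one]
  have ha0 : (a : F) ≠ 0 := a.ne_zero
  refine exists_order hF (by norm_num) (Matrix.diagonal ![(a : F), (a : F)⁻¹, 1]) 1 isUnit_one ?_ ?_ ?_
  · rw [Matrix.det_diagonal, Fin.prod_univ_three]
    simp [ha0]
  · rw [mul_one]
    have h1 : st q (Matrix.diagonal ![(a : F), (a : F)⁻¹, 1]) =
        Matrix.diagonal (fun i => (![(a : F), (a : F)⁻¹, 1] i) ^ q) := by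
      ext i j
      rw [st_apply, Matrix.diagonal_apply, Matrix.diagonal_apply]
      have hq : q ≠ 0 := by
        have := Cfsg.Agent.ClassicalGeometry.GUBasic.two_le hF
        omega
      by_cases hij : i = j
      · subst hij; simp
      · rw [if_neg hij, if_neg (Ne.symm hij), zero_pow hq]
    rw [h1, Matrix.diagonal_mul_diagonal, ← Matrix.diagonal_one]
    congr 1
    funext i
    fin_cases i
    · simpa using ha1
    · show ((a : F)⁻¹) ^ q * (a : F)⁻¹ = 1
      rw [inv_pow, ← mul_inv, ha1, inv_one]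
    · simp
  · intro k c h
    rw [Matrix.diagonal_pow, Matrix.smul_one_eq_diagonal, Matrix.diagonal_eq_diagonal_iff] at h
    have h0 := h 0
    have h2 := h 2
    simp only [Pi.pow_apply, Matrix.cons_val_zero] at h0
    have h2' : (1 : F) ^ k = c := h2
    rw [one_pow] at h2'
    rw [← ha]
    apply dvd_of_unit
    rw [h0, h2']

/-- the torus of order `q² - 1` -/
theorem ex_three (hF : Fintype.card F = q ^ 2) :
    ∀ s, s ∣ (q ^ 2 - 1) / Nat.gcd 3 (q + 1) → ∃ z : Cfsg.PSU 3 F q, orderOf z = s := by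
  have hq2 := Cfsg.Agent.ClassicalGeometry.GUBasic.two_le hF
  obtain ⟨a, ha⟩ := exists_unit_order hF (dvd_refl (q ^ 2 - 1))
  have ha0 : (a : F) ≠ 0 := a.ne_zero
  have haq : ((a : F) ^ q) ^ q = a := by rw [← pow_mul, ← pow_two, ← hF, FiniteField.pow_card]
  have ha1 : (a : F) * (a : F) ^ (q - 1) = (a : F) ^ q := by
    rw [← pow_succ', Nat.sub_add_cancel (by omega)]
  refine exists_order hF (by norm_num) (Matrix.diagonal ![(a : F), ((a : F) ^ q)⁻¹, (a : F) ^ (q - 1)])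
    !![0, 1, 0; 1, 0, 0; 0, 0, 1] ?_ ?_ ?_ ?_
  · rw [Matrix.isUnit_iff_isUnit_det, Matrix.det_fin_three]
    simp
  · rw [Matrix.det_diagonal, Fin.prod_univ_three]
    show (a : F) * ((a : F) ^ q)⁻¹ * (a : F) ^ (q - 1) = 1
    calc (a : F) * ((a : F) ^ q)⁻¹ * (a : F) ^ (q - 1) = ((a : F) * (a : F) ^ (q - 1)) * ((a : F) ^ q)⁻¹ := by ring
      _ = 1 := by rw [ha1, mul_inv_cancel₀ (pow_ne_zero _ ha0)]
  · have h1 : st q (Matrix.diagonal ![(a : F), ((a : F) ^ q)⁻¹, (a : F) ^ (q - 1)]) =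
        Matrix.diagonal ![(a : F) ^ q, (a : F)⁻¹, ((a : F) ^ (q - 1)) ^ q] := by
      ext i j
      rw [st_apply, Matrix.diagonal_apply, Matrix.diagonal_apply]
      by_cases hij : i = j
      · subst hij
        rw [if_pos rfl, if_pos rfl]
        fin_cases i
        · rfl
        · show (((a : F) ^ q)⁻¹) ^ q = (a : F)⁻¹
          rw [inv_pow, haq]
        · rfl
      · rw [if_neg hij, if_neg (Ne.symm hij), zero_pow (by omega)]
    have h3 : ((a : F) ^ (q - 1)) ^ q * (a : F) ^ (q - 1) = 1 := by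
      have h4 : (((a : F) ^ (q - 1)) ^ q * (a : F) ^ (q - 1)) * ((a : F) ^ q * a) = ((a : F) ^ q * a) := by
        calc (((a : F) ^ (q - 1)) ^ q * (a : F) ^ (q - 1)) * ((a : F) ^ q * a)
            = ((a : F) * (a : F) ^ (q - 1)) ^ q * ((a : F) * (a : F) ^ (q - 1)) := by ring
          _ = _ := by rw [ha1, haq, mul_comm]
      exact mul_left_eq_self₀.1 h4 |>.resolve_right (mul_ne_zero (pow_ne_zero _ ha0) ha0)
    rw [h1]
    ext i j
    rw [Matrix.mul_diagonal, Matrix.diagonal_mul]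
    fin_cases i <;> fin_cases j <;> simp [h3, mul_inv_cancel₀ (pow_ne_zero q ha0), ha0]
  · intro k c h
    rw [Matrix.diagonal_pow, Matrix.smul_one_eq_diagonal, Matrix.diagonal_eq_diagonal_iff] at h
    have h0 : (a : F) ^ k = c := h 0
    have h1 : (((a : F) ^ q)⁻¹) ^ k = c := h 1
    have h2 : ((a : F) ^ (q - 1)) ^ k = c := h 2
    have k1 : q ^ 2 - 1 ∣ (q + 1) * k := by
      rw [← ha]
      apply dvd_of_unit
      rw [← h0, inv_pow, ← pow_mul] at h1
      have h3 : (a : F) ^ (q * k) * (a : F) ^ k = 1 := by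
        rw [← h1]; exact mul_inv_cancel₀ (pow_ne_zero _ ha0)
      rw [add_mul, one_mul, pow_add, h3]
    have k2 : q ^ 2 - 1 ∣ (q - 2) * k := by
      rw [← ha]
      apply dvd_of_unit
      rw [← h0, ← pow_mul] at h2
      have h3 : (q - 1) * k = (q - 2) * k + k := by
        obtain ⟨r, rfl⟩ : ∃ r, q = r + 2 := ⟨q - 2, by omega⟩
        rw [show r + 2 - 1 = r + 1 by omega, Nat.add_sub_cancel]
        ring
      rw [h3, pow_add] at h2
      exact (mul_eq_right₀ (pow_ne_zero _ ha0)).1 h2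
    have k3 : q ^ 2 - 1 ∣ 3 * k := by
      have h3 : (q + 1) * k = 3 * k + (q - 2) * k := by
        obtain ⟨r, rfl⟩ : ∃ r, q = r + 2 := ⟨q - 2, by omega⟩
        rw [Nat.add_sub_cancel]; ring
      rw [h3] at k1
      exact (Nat.dvd_add_left k2).1 k1
    have k4 : q ^ 2 - 1 ∣ Nat.gcd 3 (q + 1) * k := by
      rw [← Nat.gcd_mul_right]
      exact Nat.dvd_gcd k3 k1
    have k5 : Nat.gcd 3 (q + 1) ∣ q ^ 2 - 1 := (Nat.gcd_dvd_right _ _).trans (succ_dvd q)
    exact (Nat.div_dvd_iff_dvd_mul k5 (Nat.gcd_pos_of_pos_left _ (by norm_num))).2 k4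

/-- the elements of order `p (q + 1) / d` -/
theorem ex_two (p : ℕ) [Fact p.Prime] [CharP F p] (hF : Fintype.card F = q ^ 2) :
    ∀ s, s ∣ p * (q + 1) / Nat.gcd 3 (q + 1) → ∃ z : Cfsg.PSU 3 F q, orderOf z = s := by
  have hq2 := Cfsg.Agent.ClassicalGeometry.GUBasic.two_le hF
  obtain ⟨a, ha⟩ := exists_unit_order hF (succ_dvd q)
  have ha1 : (a : F) ^ q * a = 1 := by
    rw [← pow_succ, ← ha, ← Units.val_pow_eq_pow_val, pow_orderOf_eq_one, Units.val_one]
  have ha0 : (a : F) ≠ 0 := a.ne_zero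
  set ν : F := ((a : F) ^ 2)⁻¹ with hν
  have hν1 : ν ^ q * ν = 1 := by
    rw [hν, inv_pow, ← mul_inv, ← pow_mul, mul_comm 2 q, pow_mul, ← mul_pow, ha1, one_pow, inv_one]
  have hν2 : (a : F) * a * ν = 1 := by rw [hν, ← pow_two, mul_inv_cancel₀ (pow_ne_zero _ ha0)]
  have hpow : ∀ k : ℕ, (!![(a : F), a, 0; 0, a, 0; 0, 0, ν]) ^ k =
      !![(a : F) ^ k, (k : F) * (a : F) ^ k, 0; 0, (a : F) ^ k, 0; 0, 0, ν ^ k] := by
    intro k
    induction k with
    | zero =>
      rw [pow_zero]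
      ext i j
      fin_cases i <;> fin_cases j <;> simp
    | succ k ih =>
      rw [pow_succ, ih]
      ext i j
      fin_cases i <;> fin_cases j <;> simp [Matrix.mul_apply, Fin.sum_univ_three, pow_succ]
      ring
  refine exists_order hF (by norm_num) !![(a : F), a, 0; 0, a, 0; 0, 0, ν]
    !![0, 1, 0; -1, 0, 0; 0, 0, 1] ?_ ?_ ?_ ?_
  · rw [Matrix.isUnit_iff_isUnit_det, Matrix.det_fin_three]
    simp
  · rw [Matrix.det_fin_three]
    simp [hν2]
  · have h1 : st q (!![(a : F), a, 0; 0, a, 0; 0, 0, ν]) =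
        !![(a : F) ^ q, 0, 0; (a : F) ^ q, (a : F) ^ q, 0; 0, 0, ν ^ q] := by
      have hq : q ≠ 0 := by omega
      ext i j
      rw [st_apply]
      fin_cases i <;> fin_cases j <;> simp [hq]
    rw [h1]
    ext i j
    fin_cases i <;> fin_cases j <;> simp [Matrix.mul_apply, Fin.sum_univ_three, ha1, hν1]
  · intro k c h
    rw [hpow] at h
    have h01 : (k : F) * (a : F) ^ k = 0 := by
      have := congrFun (congrFun h 0) 1
      simpa using this
    have h11 : (a : F) ^ k = c := by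
      have := congrFun (congrFun h 1) 1
      simpa using this
    have h22 : ν ^ k = c := by
      have := congrFun (congrFun h 2) 2
      simpa using this
    have k1 : p ∣ k := by
      rcases mul_eq_zero.1 h01 with h2 | h2
      · exact (CharP.cast_eq_zero_iff F p k).1 h2
      · exact absurd h2 (pow_ne_zero _ ha0)
    have k2 : q + 1 ∣ 3 * k := by
      rw [← ha]
      apply dvd_of_unit
      rw [hν, inv_pow, ← h11, ← pow_mul] at h22
      have h3 : (a : F) ^ (2 * k) * (a : F) ^ k = 1 := by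
        rw [← h22]; exact mul_inv_cancel₀ (pow_ne_zero _ ha0)
      rw [show 3 * k = 2 * k + k by ring, pow_add, h3]
    have k3 : (q + 1) / Nat.gcd 3 (q + 1) ∣ k := div_gcd_dvd (by omega) k2
    have hd1 : Nat.gcd 3 (q + 1) ∣ q + 1 := Nat.gcd_dvd_right _ _
    rw [Nat.mul_div_assoc _ hd1]
    obtain ⟨j, hj, hj1⟩ := exists_eq_pow hF p
    have hcop : Nat.Coprime p ((q + 1) / Nat.gcd 3 (q + 1)) := by
      have h1 : Nat.Coprime p (q + 1) := by
        rw [Nat.Prime.coprime_iff_not_dvd Fact.out]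
        intro h2
        have h3 : p ∣ q := by rw [hj]; exact dvd_pow_self p (by omega)
        have h4 : p ∣ 1 := (Nat.dvd_add_right h3).1 h2
        exact (Fact.out : p.Prime).one_lt.ne' (Nat.dvd_one.1 h4)
      exact h1.coprime_dvd_right (Nat.div_dvd_of_dvd hd1)
    exact hcop.mul_dvd_of_dvd_of_dvd k1 k3

/-- the torus of order `q² - q + 1` -/
theorem ex_four (p : ℕ) [Fact p.Prime] [CharP F p] (hF : Fintype.card F = q ^ 2) :
    ∀ s, s ∣ (q ^ 2 - q + 1) / Nat.gcd 3 (q + 1) → ∃ z : Cfsg.PSU 3 F q, orderOf z = s := by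
  classical
  have hq2 := Cfsg.Agent.ClassicalGeometry.GUBasic.two_le hF
  let E := FiniteField.Extension F p 3
  have hE : Nat.card E = (q ^ 2) ^ 3 := by
    rw [FiniteField.natCard_extension F p 3, Nat.card_eq_fintype_card, hF]
  let b : Module.Basis (Fin 3) F E := Module.finBasisOfFinrankEq F E (FiniteField.finrank_extension F p 3)
  set n := q ^ 2 - q + 1 with hn
  obtain ⟨r, hr⟩ : ∃ r, q = r + 2 := ⟨q - 2, by omega⟩
  have hn' : n + q = q ^ 2 + 1 := by
    have h7 : q ≤ q ^ 2 := by nlinarith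
    omega
  have hn3 : n * (q + 1) = q ^ 3 + 1 := by
    have h1 : (n + q) * (q + 1) = (q ^ 2 + 1) * (q + 1) := by rw [hn']
    have h2 : (q ^ 2 + 1) * (q + 1) = (q ^ 3 + 1) + q * (q + 1) := by ring
    have h3 : (n + q) * (q + 1) = n * (q + 1) + q * (q + 1) := by ring
    omega
  have hn4 : n * (q ^ 2 + q + 1) = q ^ 4 + q ^ 2 + 1 := by
    have h1 : (n + q) * (q ^ 2 + q + 1) = (q ^ 2 + 1) * (q ^ 2 + q + 1) := by rw [hn']
    have h2 : (q ^ 2 + 1) * (q ^ 2 + q + 1) = (q ^ 4 + q ^ 2 + 1) + q * (q ^ 2 + q + 1) := by ring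
    have h3 : (n + q) * (q ^ 2 + q + 1) = n * (q ^ 2 + q + 1) + q * (q ^ 2 + q + 1) := by ring
    omega
  have hq21 : 1 ≤ q ^ 2 := Nat.one_le_pow _ _ (by omega)
  have hq6 : (q ^ 2) ^ 3 - 1 = (q ^ 4 + q ^ 2 + 1) * (q ^ 2 - 1) := by
    obtain ⟨t, ht⟩ : ∃ t, q ^ 2 = t + 1 := ⟨q ^ 2 - 1, by omega⟩
    have h4 : q ^ 4 = (t + 1) ^ 2 := by rw [← ht]; ring
    rw [h4, ht, Nat.add_sub_cancel]
    have : (t + 1) ^ 3 = ((t + 1) ^ 2 + (t + 1) + 1) * t + 1 := by ring
    rw [this, Nat.add_sub_cancel]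
  -- `ω` of order `n`
  obtain ⟨w, hw⟩ : ∃ w : Eˣ, orderOf w = n := by
    obtain ⟨g, hg⟩ := IsCyclic.exists_generator (α := Eˣ)
    have h1 : orderOf g = (q ^ 2) ^ 3 - 1 := by
      rw [orderOf_eq_card_of_forall_mem_zpowers hg, Nat.card_units, hE]
    have h2 : orderOf g ≠ 0 := (orderOf_pos g).ne'
    refine ⟨g ^ (orderOf g / n), orderOf_pow_orderOf_div h2 ?_⟩
    rw [h1, hq6, ← hn4, mul_assoc]
    exact dvd_mul_right _ _
  have hwn : (w : E) ^ n = 1 := by
    rw [← hw, ← Units.val_pow_eq_pow_val, pow_orderOf_eq_one, Units.val_one]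
  have hω : (w : E) ^ (q ^ 3 + 1) = 1 := by rw [← hn3, pow_mul, hwn, one_pow]
  obtain ⟨x, hx, hxA⟩ := singer_form hF (by decide : Odd 3) b hω
  refine exists_order hF (by norm_num) (Algebra.leftMulMatrix b (w : E)) x hx ?_ hxA ?_
  · rw [← Algebra.norm_eq_matrix_det]
    apply (algebraMap F E).injective
    rw [FiniteField.algebraMap_norm_eq_pow, map_one, hE, Nat.card_eq_fintype_card, hF, hq6, Nat.mul_div_cancel _ (by
      have : 2 ^ 2 ≤ q ^ 2 := Nat.pow_le_pow_left hq2 2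
      omega), ← hn4, pow_mul, hwn, one_pow]
  · intro k c h
    have h1 : (w : E) ^ k = algebraMap F E c := by
      apply Algebra.leftMulMatrix_injective b
      rw [map_pow, h, AlgHom.commutes, Algebra.algebraMap_eq_smul_one]
    have hc0 : c ≠ 0 := by
      rintro rfl
      rw [map_zero] at h1
      exact pow_ne_zero _ w.ne_zero h1
    have h2 : n ∣ (q ^ 2 - 1) * k := by
      rw [← hw]
      apply orderOf_dvd_of_pow_eq_one
      apply Units.ext
      rw [Units.val_pow_eq_pow_val, mul_comm, pow_mul, h1, ← map_pow, Units.val_one, ← hF,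
        FiniteField.pow_card_sub_one_eq_one c hc0, map_one]
    have h3 : q ^ 2 - 1 = (q - 1) * (q + 1) := by
      have := Nat.sq_sub_sq q 1
      rw [mul_comm]
      simpa using this
    have h4 : Nat.Coprime n (q - 1) := by
      have h5 : n = q * (q - 1) + 1 := by
        rw [hn, hr, show r + 2 - 1 = r + 1 by omega, show (r + 2) ^ 2 = (r + 2) * (r + 1) + (r + 2) by ring,
          Nat.add_sub_cancel]
      rw [h5, Nat.coprime_comm]
      simp
    have h5 : n ∣ (q + 1) * k := by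
      rw [h3, mul_assoc] at h2
      exact h4.dvd_of_dvd_mul_left h2
    have h6 : Nat.gcd (q + 1) n = Nat.gcd 3 (q + 1) := by
      have h7 : n = 3 + (q + 1) * (q - 2) := by
        rw [hn, hr, Nat.add_sub_cancel, show (r + 2) ^ 2 = ((r + 3) * r + 2) + (r + 2) by ring,
          Nat.add_sub_cancel]
        ring
      rw [h7, Nat.gcd_add_mul_left_right, Nat.gcd_comm]
    rw [← h6]
    exact div_gcd_dvd (by omega) h5

end Cfsg.Agent.H127.PSUThreeEx
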