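import Mathlib
import Cfsg.Agent.ClassicalGeometry.GUBasic
import Cfsg.Agent.LieClassical.SUBasic

/-!
# Eigenvalues of unitary matrices (helper127)

* `exists_pow_hom` : `x ↦ x ^ q` is a ring homomorphism on every extension of `F`, `|F| = q²`;
* `root_inv` : if `a` is an eigenvalue of the unitary matrix `M` (over an extension) then so is `(a ^ q)⁻¹`;
* `scalar_descend`, `psu_pow_eq_one`, `scalar_of_psu_pow` : powers and scalars.
-/

set_option autoImplicit false

namespace Cfsg.Agent.H127.UnitRoots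

open Matrix Polynomial

section roots

variable {F : Type*} [Field F] [Fintype F] {q : ℕ} {K : Type*} [Field K] [Algebra F K]

/-- `q` is a power of the characteristic -/
theorem exists_eq_pow (hF : Fintype.card F = q ^ 2) (p : ℕ) [hp : Fact p.Prime] [CharP F p] : ∃ j, q = p ^ j ∧ 1 ≤ j := by
  obtain ⟨k, hpp, hk⟩ := FiniteField.card F p
  have hdvd : q ∣ p ^ (k : ℕ) := by
    rw [← hk, hF]
    exact dvd_pow_self q two_ne_zero
  obtain ⟨j, -, hj⟩ := (Nat.dvd_prime_pow hpp).1 hdvd
  refine ⟨j, hj, ?_⟩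
  rcases Nat.eq_zero_or_pos j with h0 | h0
  · subst h0
    rw [hj] at hF
    have := Fintype.one_lt_card (α := F)
    rw [hF] at this
    simp at this
  · exact h0

theorem exists_pow_hom (hF : Fintype.card F = q ^ 2) (K : Type*) [Field K] [Algebra F K] :
    ∃ σ : K →+* K, ∀ x, σ x = x ^ q := by
  classical
  obtain ⟨p, hp⟩ := CharP.exists F
  obtain ⟨k, hpp, hk⟩ := FiniteField.card F p
  have : Fact p.Prime := ⟨hpp⟩
  obtain ⟨j, rfl, -⟩ := exists_eq_pow hF p
  have : CharP K p := charP_of_injective_algebraMap (algebraMap F K).injective p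
  have : ExpChar K p := ExpChar.prime hpp
  exact ⟨iterateFrobenius K p j, fun x => iterateFrobenius_def p j x⟩

theorem map_unit (hF : Fintype.card F = q ^ 2) {ι : Type*} [Fintype ι] [DecidableEq ι] {M : Matrix ι ι F}
    (hM : Mᵀ * M.map (fun x => x ^ q) = 1) (σ : K →+* K) (hσ : ∀ x, σ x = x ^ q) :
    (M.map (algebraMap F K))ᵀ * (M.map (algebraMap F K)).map σ = 1 := by
  have h := congrArg (fun A : Matrix ι ι F => A.map (algebraMap F K)) hM
  simp only [Matrix.map_mul] at h
  rw [Matrix.map_one _ (map_zero _) (map_one _)] at h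
  rw [← h]
  congr 1
  ext i j
  simp [hσ]

/-- **the eigenvalues of a unitary matrix are permuted by `a ↦ a ^ (-q)`** -/
theorem root_inv (hF : Fintype.card F = q ^ 2) {ι : Type*} [Fintype ι] [DecidableEq ι] {M : Matrix ι ι F}
    (hM : Mᵀ * M.map (fun x => x ^ q) = 1) {a : K} (ha : (M.map (algebraMap F K)).charpoly.eval a = 0) :
    a ≠ 0 ∧ (M.map (algebraMap F K)).charpoly.eval ((a ^ q)⁻¹) = 0 := by
  obtain ⟨σ, hσ⟩ := exists_pow_hom hF K
  have hN := map_unit hF hM σ hσ
  set N := M.map (algebraMap F K) with hNdef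
  rw [Matrix.eval_charpoly] at ha
  have hdet : Nᵀ.det * (N.map σ).det = 1 := by rw [← Matrix.det_mul, hN, Matrix.det_one]
  have hdetN : N.det ≠ 0 := by
    intro h0
    rw [Matrix.det_transpose, h0, zero_mul] at hdet
    exact zero_ne_one hdet
  have ha0 : a ≠ 0 := by
    rintro rfl
    apply hdetN
    rw [map_zero, zero_sub, Matrix.det_neg] at ha
    rcases mul_eq_zero.1 ha with h | h
    · exact absurd h (pow_ne_zero _ (neg_ne_zero.2 one_ne_zero))
    · exact h
  refine ⟨ha0, ?_⟩
  have h1 : (Matrix.scalar ι (σ a) - N.map σ).det = 0 := by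
    have h2 := congrArg σ ha
    rw [RingHom.map_det, map_zero] at h2
    rw [← h2]
    congr 1
    ext i j
    simp only [Matrix.sub_apply, Matrix.map_apply, RingHom.mapMatrix_apply, map_sub, Matrix.scalar_apply,
      Matrix.diagonal_apply]
    split_ifs <;> simp
  have h3 : (Nᵀ * (Matrix.scalar ι (σ a) - N.map σ)).det = 0 := by rw [Matrix.det_mul, h1, mul_zero]
  have hσa : σ a ≠ 0 := (map_ne_zero σ).2 ha0
  have h4 : Nᵀ * (Matrix.scalar ι (σ a) - N.map σ) = (-(σ a)) • (Matrix.scalar ι ((σ a)⁻¹) - N)ᵀ := by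
    rw [mul_sub, hN]
    ext i j
    simp only [Matrix.sub_apply, Matrix.smul_apply, Matrix.transpose_apply, Matrix.scalar_apply,
      Matrix.mul_diagonal, Matrix.diagonal_apply, Matrix.one_apply, smul_eq_mul]
    by_cases hij : i = j
    · subst hij
      simp only [if_true]
      field_simp
      ring
    · rw [if_neg hij, if_neg (Ne.symm hij)]
      ring
  rw [h4, Matrix.det_smul, Matrix.det_transpose, mul_eq_zero] at h3
  rw [Matrix.eval_charpoly, ← hσ]
  rcases h3 with h3 | h3
  · exact absurd h3 (pow_ne_zero _ (neg_ne_zero.2 hσa))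
  · exact h3

/-- a matrix over `F` which is scalar over `K` is scalar over `F` -/
theorem scalar_descend {ι : Type*} [Fintype ι] [DecidableEq ι] {M : Matrix ι ι F} {e : K}
    (h : M.map (algebraMap F K) = e • 1) : ∃ c : F, M = c • 1 := by
  rcases isEmpty_or_nonempty ι with h0 | ⟨⟨i0⟩⟩
  · exact ⟨0, by ext i; exact (h0.false i).elim⟩
  refine ⟨M i0 i0, ?_⟩
  have hij : ∀ i j, algebraMap F K (M i j) = if i = j then e else 0 := by
    intro i j
    have h1 := congrFun (congrFun h i) j
    simp only [Matrix.map_apply, Matrix.smul_apply, Matrix.one_apply, smul_eq_mul] at h1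
    rw [h1]
    split_ifs <;> simp
  ext i j
  simp only [Matrix.smul_apply, Matrix.one_apply, smul_eq_mul]
  apply (algebraMap F K).injective
  rw [hij]
  by_cases h1 : i = j
  · rw [if_pos h1, if_pos h1, mul_one, hij, if_pos rfl]
  · rw [if_neg h1, if_neg h1, mul_zero, map_zero]

end roots

section psu

variable {F : Type*} [Field F] {n q : ℕ}

/-- the matrix of an element of `SU` -/
abbrev mat (g : Cfsg.SU n F q) : Matrix (Fin n) (Fin n) F := ((g : Matrix.SpecialLinearGroup (Fin n) F) : Matrix (Fin n) (Fin n) F)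

theorem mat_mul (g h : Cfsg.SU n F q) : mat (g * h) = mat g * mat h := rfl

theorem mat_pow (g : Cfsg.SU n F q) (k : ℕ) : mat (g ^ k) = mat g ^ k := by
  induction k with
  | zero => rfl
  | succ k ih => rw [pow_succ, mat_mul, ih, pow_succ]

theorem mat_unit (g : Cfsg.SU n F q) (hq : q ≠ 0) : (mat g)ᵀ * (mat g).map (fun x => x ^ q) = 1 :=
  Cfsg.Agent.ClassicalGeometry.GUBasic.transpose_mul_map hq
    ((Cfsg.Agent.LieClassical.SUBasic.mem_SU_iff _).1 g.2)

theorem mat_det (g : Cfsg.SU n F q) : (mat g).det = 1 := (g : Matrix.SpecialLinearGroup (Fin n) F).2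

theorem mem_center_of_scalar {g : Cfsg.SU n F q} {c : F} (h : mat g = c • 1) :
    g ∈ Subgroup.center (Cfsg.SU n F q) := by
  rw [Subgroup.mem_center_iff]
  intro B
  apply Subtype.ext
  apply Subtype.ext
  change mat B * mat g = mat g * mat B
  rw [h, Matrix.mul_smul, Matrix.smul_mul, mul_one, one_mul]

/-- a power of `g` which is a scalar matrix is trivial in `PSU` -/
theorem psu_pow_eq_one (g : Cfsg.SU n F q) {k : ℕ} (h : ∃ c : F, mat g ^ k = c • 1) :
    (QuotientGroup.mk g : Cfsg.PSU n F q) ^ k = 1 := by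
  obtain ⟨c, hc⟩ := h
  rw [← QuotientGroup.mk_pow, QuotientGroup.eq_one_iff]
  exact mem_center_of_scalar (c := c) (by rw [mat_pow, hc])

/-- if `g ^ k` is trivial in `PSU` then it is a scalar matrix -/
theorem scalar_of_psu_pow [Fintype F] (hF : Fintype.card F = q ^ 2) (hn : 3 ≤ n) (g : Cfsg.SU n F q) {k : ℕ}
    (h : (QuotientGroup.mk g : Cfsg.PSU n F q) ^ k = 1) : ∃ c : F, mat g ^ k = c • 1 := by
  rw [← QuotientGroup.mk_pow, QuotientGroup.eq_one_iff,
    Cfsg.Agent.LieClassical.SUBasic.mem_center_SU_iff hF hn] at h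
  obtain ⟨c, hcn, hcq, h⟩ := h
  refine ⟨c, ?_⟩
  rw [← mat_pow, h]
  change Matrix.diagonal (fun _ => c) = c • (1 : Matrix (Fin n) (Fin n) F)
  rw [Matrix.smul_one_eq_diagonal]

end psu

end Cfsg.Agent.H127.UnitRoots
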