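import Cfsg.Agent.H726.Rel.Defs
import Cfsg.Agent.H129.RealT
import Cfsg.Agent.H129.RealTw
import Cfsg.Agent.H912.BdOrth1
import Cfsg.Agent.S1024
import Cfsg.Agent.S1025
import Cfsg.Agent.S1027
import Cfsg.Agent.S1059
import Cfsg.Agent.S1063
import Cfsg.Agent.S1066

/-!
# Rows of S4985/S4992 (helper127, task 1504 of helper726): `E₆(q)`, `²E₆(q)`, `G₂(3)`, `Ω₇(3)`
-/

set_option autoImplicit false
set_option linter.unusedSectionVars false

namespace Cfsg.Agent.H127.RelExc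

open Cfsg Cfsg.Agent.H726.Rel

section gen

theorem oddRow_of {S : Type*} [Group S] (h : AbSylow 3 S → BigClass 3 S) : OddRow S 3 := by
  intro p hp _ hp3 hab
  have h3 : p = 3 := (Nat.prime_dvd_prime_iff_eq hp Nat.prime_three).1 hp3
  subst h3
  exact ⟨rfl, h hab⟩

theorem big_of_T {G : Type*} [Group G] [Finite G] {T : Subgroup G} {r N A : ℕ} (hr : r.Prime) (hr3 : r ≠ 3)
    (hrT : r ∣ Nat.card ↥T) (hTN : Nat.card ↥T ∣ N) (hN : 0 < N)
    (hcent : ∀ y ∈ T, orderOf y = r → Subgroup.centralizer {y} ≤ T)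
    (hA : 3 ^ (Nat.card G).factorization 3 ≤ A) (h : A ^ 2 * N < Nat.card G) : BigClass 3 G := by
  have : Fact r.Prime := ⟨hr⟩
  obtain ⟨⟨x, hx⟩, hxr⟩ := exists_prime_orderOf_dvd_card' (G := ↥T) r hrT
  rw [Subgroup.orderOf_mk] at hxr
  refine BigClass.mk' (x := x) (k := 1) hr hr3 ?_ (by rw [pow_one, hxr]) hA ?_ le_rfl h
  · intro h1
    rw [h1, orderOf_one] at hxr
    exact hr.one_lt.ne hxr
  · exact (Nat.le_of_dvd (Nat.card_pos) (Subgroup.card_dvd_of_le (hcent x hx hxr))).trans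
      (Nat.le_of_dvd hN hTN)

theorem part_le {n g Q A B : ℕ} (h : g * n = Q * A * B) (hQ : ¬ 3 ∣ Q) (hB : ¬ 3 ∣ B) (hA : 0 < A) :
    3 ^ n.factorization 3 ≤ A := by
  have h1 : 3 ^ n.factorization 3 ∣ Q * A * B := by
    rw [← h]; exact (Nat.ordProj_dvd n 3).mul_left g
  have h2 : (3 ^ n.factorization 3).Coprime B := Nat.Coprime.pow_left _ ((Nat.Prime.coprime_iff_not_dvd Nat.prime_three).2 hB)
  have h3 : (3 ^ n.factorization 3).Coprime Q := Nat.Coprime.pow_left _ ((Nat.Prime.coprime_iff_not_dvd Nat.prime_three).2 hQ)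
  exact Nat.le_of_dvd hA (h3.dvd_of_dvd_mul_left (h2.dvd_of_dvd_mul_right h1))

end gen

section arith

theorem e8 {q : ℕ} (hq : 1 ≤ q) : q ^ 8 - 1 = (q ^ 2 - 1) * ((q ^ 2 + 1) * (q ^ 4 + 1)) := by
  zify [Nat.one_le_pow 8 q hq, Nat.one_le_pow 2 q hq]; ring

theorem e12 {q : ℕ} (hq : 1 ≤ q) : q ^ 12 - 1 = (q ^ 6 - 1) * ((q ^ 2 + 1) * (q ^ 4 - q ^ 2 + 1)) := by
  have h0 : q ^ 2 ≤ q ^ 4 := Nat.pow_le_pow_right hq (by norm_num)
  zify [Nat.one_le_pow 12 q hq, Nat.one_le_pow 6 q hq, h0]; ring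

theorem mod_sq {q : ℕ} (hq : ¬ 3 ∣ q) : q ^ 2 % 3 = 1 := by
  have h : q % 3 = 1 ∨ q % 3 = 2 := by omega
  rcases h with h | h <;> rw [Nat.pow_mod, h]

theorem not_dvd_B {q : ℕ} (hq : ¬ 3 ∣ q) :
    ¬ 3 ∣ (q ^ 2 + 1) * (q ^ 4 + 1) * ((q ^ 2 + 1) * (q ^ 4 - q ^ 2 + 1)) := by
  have h1 := mod_sq hq
  have h2 : q ^ 4 % 3 = 1 := by
    have : q ^ 4 = q ^ 2 * q ^ 2 := by ring
    rw [this, Nat.mul_mod, h1]
  have h0 : q ^ 2 ≤ q ^ 4 := Nat.pow_le_pow_right (by omega) (by norm_num)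
  intro h
  rcases (Nat.Prime.dvd_mul Nat.prime_three).1 h with h | h
  · rcases (Nat.Prime.dvd_mul Nat.prime_three).1 h with h | h <;> omega
  · rcases (Nat.Prime.dvd_mul Nat.prime_three).1 h with h | h <;> omega

end arith

section arith2

/-- the final inequality for `E₆(q)` -/
theorem ineq_E6 {q A n g : ℕ} (hq : 2 ≤ q) (hg : g ≤ 3)
    (h : g * n = q ^ 36 * A * ((q ^ 2 + 1) * (q ^ 4 + 1) * ((q ^ 2 + 1) * (q ^ 4 - q ^ 2 + 1))))
    (hA : A ≤ 4 * q ^ 30) (hA0 : 0 < A) {X : ℕ} (hX : X ≤ 2 * q ^ 2) :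
    A ^ 2 * ((q ^ 4 - q ^ 2 + 1) * X) < n := by
  set c := q ^ 4 - q ^ 2 + 1 with hc
  have hc0 : 0 < c := Nat.succ_pos _
  have h1 : 3 * (A ^ 2 * (c * X)) < 3 * n := by
    calc 3 * (A ^ 2 * (c * X)) = (A * c) * (3 * A * X) := by ring
      _ ≤ (A * c) * (3 * (4 * q ^ 30) * (2 * q ^ 2)) := by gcongr
      _ < (A * c) * (q ^ 36 * ((q ^ 2 + 1) * (q ^ 4 + 1) * (q ^ 2 + 1))) := by
        refine Nat.mul_lt_mul_of_pos_left ?_ (Nat.mul_pos hA0 hc0)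
        have h3 : 3 * (4 * q ^ 30) * (2 * q ^ 2) = q ^ 32 * 24 := by ring
        have h4 : q ^ 36 * ((q ^ 2 + 1) * (q ^ 4 + 1) * (q ^ 2 + 1)) =
          q ^ 32 * (q ^ 4 * ((q ^ 2 + 1) * (q ^ 4 + 1) * (q ^ 2 + 1))) := by ring
        rw [h3, h4]
        refine Nat.mul_lt_mul_of_pos_left ?_ (by positivity)
        have h5 : 2 ^ 4 ≤ q ^ 4 := Nat.pow_le_pow_left hq 4
        have h6 : 2 ^ 2 ≤ q ^ 2 := Nat.pow_le_pow_left hq 2
        calc 24 < 2 ^ 4 * ((2 ^ 2 + 1) * (2 ^ 4 + 1) * (2 ^ 2 + 1)) := by norm_num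
          _ ≤ _ := by gcongr
      _ = q ^ 36 * A * ((q ^ 2 + 1) * (q ^ 4 + 1) * ((q ^ 2 + 1) * c)) := by ring
      _ = g * n := h.symm
      _ ≤ 3 * n := Nat.mul_le_mul_right _ hg
  omega

end arith2

open Cfsg.Lie Cfsg.Agent.H129 Cfsg.Agent.Nodes.RGDChev Cfsg.Agent.H129.TorusTw Cfsg.Agent.H129.RealT

universe u

section charThree

variable {F : Type*} [Field F]

theorem isPos {r : ℕ} (h : chevE6.IsPosRoot r) : r < chevE6.nroots := h.1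

theorem exists_x {r : ℕ} (hr : chevE6.IsPosRoot r) (t : F) : ∃ g : GL chevE6.Idx F,
    (g : Matrix chevE6.Idx chevE6.Idx F) = chevE6.x F r t ∧ g ∈ chevE6.posUnipotent F ∧ g ∈ chevE6.group F := by
  have hD : chevE6 ∈ [Cfsg.Lie.chevG2, Cfsg.Lie.chevB2, Cfsg.Lie.chevD4, Cfsg.Lie.chevF4, Cfsg.Lie.chevE6,
    Cfsg.Lie.chevE7, Cfsg.Lie.chevE8] := by simp
  have h0 : chevE6.x F r 0 = 1 := (S1024.result chevE6 hD r hr.1 0).2 rfl
  let g : GL chevE6.Idx F := ⟨chevE6.x F r t, chevE6.x F r (-t),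
    by rw [S1023.result chevE6 hD r hr.1, add_neg_cancel, h0],
    by rw [S1023.result chevE6 hD r hr.1, neg_add_cancel, h0]⟩
  refine ⟨g, rfl, Subgroup.subset_closure ⟨r, t, hr, rfl⟩, Subgroup.subset_closure ⟨⟨r, hr.1⟩, t, ?_⟩⟩
  show chevE6.x F r t = _
  rw [ChevalleyDatum.x, dif_pos hr.1]

/-- the Sylow 3-subgroups of `E₆(3^f)` are not abelian -/
theorem not_abSylow_E6 [Fintype F] (h3 : CharP F 3) : ¬ AbSylow 3 ↥(Cfsg.Lie.chevE6.group F) := by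
  have hD : chevE6 ∈ [Cfsg.Lie.chevG2, Cfsg.Lie.chevB2, Cfsg.Lie.chevD4, Cfsg.Lie.chevF4, Cfsg.Lie.chevE6,
    Cfsg.Lie.chevE7, Cfsg.Lie.chevE8] := by simp
  have hr : chevE6.IsPosRoot 42 := by decide
  have hs : chevE6.IsPosRoot 39 := by decide
  obtain ⟨a, ha, haU, haG⟩ := exists_x (F := F) hr 1
  obtain ⟨b, hb, hbU, hbG⟩ := exists_x (F := F) hs 1
  let Q : Subgroup ↥(chevE6.group F) := (chevE6.posUnipotent F).subgroupOf (chevE6.group F)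
  have : Fact (Nat.Prime 3) := ⟨Nat.prime_three⟩
  have hU : IsPGroup 3 ↥(chevE6.posUnipotent F) := by
    obtain ⟨m, -, hm⟩ := FiniteField.card F 3
    refine IsPGroup.of_card (n := m * (chevE6.nroots / 2)) ?_
    rw [S1027.result chevE6 hD, hm, pow_mul]
  have hQ : IsPGroup 3 ↥Q := hU.comap_subtype
  refine not_abSylow hQ (a := ⟨a, haG⟩) (b := ⟨b, hbG⟩) haU hbU ?_
  intro h
  have h1 : a * b = b * a := congrArg Subtype.val h
  have h2 : (a : Matrix chevE6.Idx chevE6.Idx F) * b = (b : Matrix chevE6.Idx chevE6.Idx F) * a := by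
    rw [← Units.val_mul, h1, Units.val_mul]
  have h4 := S1025.result (F := F) chevE6 hD 42 39 hr.1 hs.1 (by decide) (by decide) 1 1
  have h5 : chevE6.commTerms 42 39 = [(43, -1, 1, 1)] := by decide
  rw [← ha, ← hb, ← h2] at h4
  have h6 : chevE6.wordMat F (chevE6.commWord F 42 39 1 1) = 1 := by
    have h7 : ((a * b : GL chevE6.Idx F) : Matrix chevE6.Idx chevE6.Idx F) * 1 =
        ((a * b : GL chevE6.Idx F) : Matrix chevE6.Idx chevE6.Idx F) *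
          chevE6.wordMat F (chevE6.commWord F 42 39 1 1) := by
      rw [mul_one, Units.val_mul]; exact h4
    exact (Units.mul_right_inj (a * b)).1 h7.symm
  rw [ChevalleyDatum.commWord, h5] at h6
  simp only [List.map_cons, List.map_nil, ChevalleyDatum.wordMat, List.prod_cons, List.prod_nil, mul_one] at h6
  have h8 := (S1024.result (F := F) chevE6 hD 43 (by decide) _).1 h6
  simp at h8

end charThree

variable {F : Type u} [Field F] [Fintype F]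

/-- `E₆(q)` -/
theorem e6 : OddRow ↥(Cfsg.Lie.chevE6.group F) 3 := by
  refine oddRow_of fun hab => ?_
  obtain ⟨q, hF⟩ : ∃ q, Fintype.card F = q := ⟨_, rfl⟩
  have hq2 : 2 ≤ q := by rw [← hF]; exact Fintype.one_lt_card
  have hq3 : ¬ 3 ∣ q := by
    intro h
    refine absurd hab (not_abSylow_E6 ?_)
    obtain ⟨p, hchar⟩ := CharP.exists F
    obtain ⟨m, hp, hm⟩ := FiniteField.card F p
    rw [← hF, hm] at h
    have := (Nat.prime_dvd_prime_iff_eq Nat.prime_three hp).1 (Nat.prime_three.dvd_of_dvd_pow h)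
    subst this
    exact hchar
  have hp : IsType Cfsg.Lie.chevE6 6 CoxeterMatrix.E₆ := by simp
  have hW : Nat.card CoxeterMatrix.E₆.Group = 51840 :=
    Cfsg.Agent.S1093.result (⟨6, CoxeterMatrix.E₆⟩, 51840) (by simp)
  have : Finite CoxeterMatrix.E₆.Group := Nat.finite_of_card_ne_zero (by rw [hW]; norm_num)
  have h0 : q ^ 2 ≤ q ^ 4 := Nat.pow_le_pow_right (by omega) (by norm_num)
  have hN : (((q ^ 4 - q ^ 2 + 1) * (q ^ 2 + q + 1) : ℕ) : ℤ) =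
      1 + (q : ℤ) - (q : ℤ) ^ 3 + (q : ℤ) ^ 5 + (q : ℤ) ^ 6 := by
    push_cast [Nat.cast_sub h0]; ring
  obtain ⟨r, hr, hrq, hr2, hr3, hr5, hr7⟩ := S2373.exists_prime hq2
  have hr12 : r ∣ q ^ 4 - q ^ 2 + 1 := by
    have hN : ((q ^ 4 - q ^ 2 + 1 : ℕ) : ℤ) = 1 - (q : ℤ) ^ 2 + (q : ℤ) ^ 4 := by
      push_cast [Nat.cast_sub h0]; ring
    have h1 := hrq
    rw [← hN] at h1
    exact Int.natCast_dvd_natCast.1 h1
  have hrW : ¬ r ∣ Nat.card CoxeterMatrix.E₆.Group := by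
    rw [hW, show (51840 : ℕ) = 2 ^ 7 * 3 ^ 4 * 5 ^ 1 * 7 ^ 0 by norm_num]
    exact not_dvd_of hr hr2 hr3 hr5 hr7
  have hG : ∀ s, ¬ (r : ℤ) ∣ Gq DataE6.B (q : ℤ) (DataE6.R s) := by
    intro s hs
    rcases DataE6.dvd_of_G hrq s hs with h1 | h1
    · exact hr.one_lt.ne' (Nat.dvd_one.1 (by exact_mod_cast h1))
    · exact hr2 ((Nat.prime_dvd_prime_iff_eq hr Nat.prime_two).1 (by exact_mod_cast h1))
  obtain ⟨T, h1, h3, h4, h5, h6⟩ := UntwT.untw_T hp CoxeterMatrix.E₆.toCoxeterSystem (by norm_num) hF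
    TorusChar.invC_E6 (by norm_num) DataE6.hA DataE6.chainOK DataE6.cycOK DataE6.rootOK
    (N := (q ^ 4 - q ^ 2 + 1) * (q ^ 2 + q + 1))
    (by rw [DataE6.fN_eq, hN]) (UntwData.coprime_of_eq (a := 1 - (q : ℤ) ^ 2 + (q : ℤ) ^ 4 + (q : ℤ) ^ 5)
      (by rw [hN]; ring)) (d := 3) (Or.inl rfl)
  have hcard := S1063.result hF
  have hfin : Finite ↥(Cfsg.Lie.chevE6.group F) := inferInstance
  set n := Nat.card ↥(Cfsg.Lie.chevE6.group F) with hn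
  set A := (q ^ 2 - 1) * (q ^ 5 - 1) * (q ^ 6 - 1) * (q ^ 2 - 1) * (q ^ 9 - 1) * (q ^ 6 - 1) with hA
  have hcard' : Nat.gcd 3 (q - 1) * n =
      q ^ 36 * A * ((q ^ 2 + 1) * (q ^ 4 + 1) * ((q ^ 2 + 1) * (q ^ 4 - q ^ 2 + 1))) := by
    rw [hcard, e8 (by omega), e12 (by omega), hA]; ring
  have hpos : ∀ k, 0 < k → 0 < q ^ k - 1 := fun k hk => by
    have := Nat.one_lt_pow hk.ne' (by omega : 1 < q)
    omega
  have hA0 : 0 < A := by
    have := hpos 2 (by norm_num); have := hpos 5 (by norm_num); have := hpos 6 (by norm_num)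
    have := hpos 9 (by norm_num)
    positivity
  have hA1 : A ≤ 4 * q ^ 30 := by
    calc A ≤ q ^ 2 * q ^ 5 * q ^ 6 * q ^ 2 * q ^ 9 * q ^ 6 := by
          rw [hA]; gcongr <;> exact Nat.sub_le _ _
      _ = 1 * q ^ 30 := by ring
      _ ≤ 4 * q ^ 30 := Nat.mul_le_mul_right _ (by norm_num)
  refine big_of_T hr hr3 (dvd_of_dvd_mul hr (hr12.mul_right _)
    (fun h => hr3 ((Nat.prime_dvd_prime_iff_eq hr Nat.prime_three).1 h)) h4) h3 (by positivity)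
    (h5 r hr hrW hG) (A := A) (part_le hcard' (fun h => hq3 (Nat.prime_three.dvd_of_dvd_pow h)) (not_dvd_B hq3) hA0) ?_
  exact ineq_E6 hq2 (Nat.gcd_le_left _ (by norm_num)) hcard' hA1 hA0 (by nlinarith)

theorem key_tE6 (y : ℤ) (hx : 0 ≤ y) : (y + 3) ^ 36 <
    ((y + 3) ^ 2 - 1) * ((y + 3) ^ 5 + 1) * ((y + 3) ^ 6 - 1) * ((y + 3) ^ 8 - 1) *
      ((y + 3 + 1) * ((y + 3) ^ 6 - (y + 3) ^ 3 + 1)) * (((y + 3) ^ 6 - 1) * ((y + 3) ^ 2 + 1)) := by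
  rw [← sub_pos]
  ring_nf
  positivity

theorem key_tE6' (y : ℤ) (hx : 0 ≤ y) : (y + 3) ^ 36 * (((y + 3) ^ 4 - (y + 3) ^ 2 + 1) * ((y + 3) ^ 2 - (y + 3) + 1)) <
    ((y + 3) ^ 2 - 1) * ((y + 3) ^ 5 + 1) * ((y + 3) ^ 6 - 1) * ((y + 3) ^ 8 - 1) * ((y + 3) ^ 9 + 1) *
      ((y + 3) ^ 12 - 1) := by
  have hN : 0 < ((y + 3) ^ 4 - (y + 3) ^ 2 + 1) * ((y + 3) ^ 2 - (y + 3) + 1) := by
    refine mul_pos ?_ ?_ <;> nlinarith [pow_nonneg hx 2, pow_nonneg hx 3, pow_nonneg hx 4]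
  have h9 : (y + 3) ^ 9 + 1 = (y + 3 + 1) * ((y + 3) ^ 2 - (y + 3) + 1) * ((y + 3) ^ 6 - (y + 3) ^ 3 + 1) := by ring
  have h12 : (y + 3) ^ 12 - 1 = ((y + 3) ^ 6 - 1) * ((y + 3) ^ 2 + 1) * ((y + 3) ^ 4 - (y + 3) ^ 2 + 1) := by ring
  rw [h9, h12]
  have key := key_tE6 y hx
  generalize y + 3 = z at *
  generalize z ^ 4 - z ^ 2 + 1 = c at *
  generalize z ^ 2 - z + 1 = d at *
  generalize z ^ 36 = a at *
  generalize z ^ 6 - z ^ 3 + 1 = e at *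
  generalize z ^ 6 - 1 = f at *
  generalize z ^ 5 + 1 = g at *
  generalize z ^ 8 - 1 = h at *
  generalize z ^ 2 - 1 = i at *
  generalize z ^ 2 + 1 = j at *
  calc a * (c * d) < (i * g * f * h * ((z + 1) * e) * (f * j)) * (c * d) := mul_lt_mul_of_pos_right key hN
    _ = _ := by ring

/-- the final inequality for `²E₆(q)`, `3 ∣ q` -/
theorem ineq_tE6 {q : ℕ} (hq : 3 ≤ q) : q ^ 36 * ((q ^ 4 - q ^ 2 + 1) * (q ^ 2 - q + 1)) <
    (q ^ 2 - 1) * (q ^ 5 + 1) * (q ^ 6 - 1) * (q ^ 8 - 1) * (q ^ 9 + 1) * (q ^ 12 - 1) := by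
  have h1 : q ^ 2 ≤ q ^ 4 := Nat.pow_le_pow_right (by omega) (by norm_num)
  have h2 : q ≤ q ^ 2 := by nlinarith
  have hp : ∀ k, 1 ≤ q ^ k := fun k => Nat.one_le_pow _ _ (by omega)
  zify [h1, h2, hp 2, hp 6, hp 8, hp 12]
  have h3 := key_tE6' ((q : ℤ) - 3) (by omega)
  rw [sub_add_cancel] at h3
  exact h3

theorem not_dvd_sub {q k : ℕ} (hq : 3 ∣ q) (hq0 : 0 < q) (hk : k ≠ 0) : ¬ 3 ∣ q ^ k - 1 := by
  intro h
  have h1 : 3 ∣ q ^ k := dvd_pow hq hk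
  have h2 := Nat.one_le_pow k q hq0
  omega

theorem not_dvd_add {q k : ℕ} (hq : 3 ∣ q) (hk : k ≠ 0) : ¬ 3 ∣ q ^ k + 1 := by
  intro h
  have h1 : 3 ∣ q ^ k := dvd_pow hq hk
  omega

theorem not_dvd_mul {a b : ℕ} (ha : ¬ 3 ∣ a) (hb : ¬ 3 ∣ b) : ¬ 3 ∣ a * b := by
  intro h
  rcases (Nat.Prime.dvd_mul Nat.prime_three).1 h with h | h
  · exact ha h
  · exact hb h

/-- `²E₆(q)` -/
theorem te6 {K : Type u} [Field K] [Fintype K] {q : ℕ} (hq : IsPrimePow q) (hK : Fintype.card K = q ^ 2) :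
    OddRow ↥(twistedE6 K q) 3 := by
  refine oddRow_of fun _ => ?_
  have hq2 : 2 ≤ q := hq.two_le
  have h0 : q ^ 2 ≤ q ^ 4 := Nat.pow_le_pow_right (by omega) (by norm_num)
  have hle : q ≤ q ^ 2 := by nlinarith
  have hN : (((q ^ 4 - q ^ 2 + 1) * (q ^ 2 - q + 1) : ℕ) : ℤ) =
      1 - (q : ℤ) + (q : ℤ) ^ 3 - (q : ℤ) ^ 5 + (q : ℤ) ^ 6 := by
    push_cast [Nat.cast_sub h0, Nat.cast_sub hle]; ring
  obtain ⟨r, hr, hrq, hr2, hr3, hr5, hr7⟩ := S2373.exists_prime hq2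
  have hr12 : r ∣ q ^ 4 - q ^ 2 + 1 := by
    have hN : ((q ^ 4 - q ^ 2 + 1 : ℕ) : ℤ) = 1 - (q : ℤ) ^ 2 + (q : ℤ) ^ 4 := by
      push_cast [Nat.cast_sub h0]; ring
    have h1 := hrq
    rw [← hN] at h1
    exact Int.natCast_dvd_natCast.1 h1
  have hrW : ¬ r ∣ Nat.card CoxeterMatrix.E₆.Group := by
    rw [TwT.card_W6, show (51840 : ℕ) = 2 ^ 7 * 3 ^ 4 * 5 ^ 1 * 7 ^ 0 by norm_num]
    exact not_dvd_of hr hr2 hr3 hr5 hr7
  have hG : ∀ s, ¬ (r : ℤ) ∣ Gq DataTE6c.B (q : ℤ) (DataTE6c.R s) := by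
    intro s hs
    rcases DataTE6c.dvd_of_G hrq s hs with h1 | h1
    · exact hr.one_lt.ne' (Nat.dvd_one.1 (by exact_mod_cast h1))
    · exact hr2 ((Nat.prime_dvd_prime_iff_eq hr Nat.prime_two).1 (by exact_mod_cast h1))
  obtain ⟨T, h1, h3, h4, h5, h6⟩ := TwT.flip_T hq hK DataTE6c.hA DataTE6c.chainOK DataTE6c.hd_pi DataTE6c.cycOK
    DataTE6c.rootOK DataTE6c.chain2OK DataTE6c.hd2_eq (N := (q ^ 4 - q ^ 2 + 1) * (q ^ 2 - q + 1))
    (by rw [DataTE6c.fN_eq, hN]) (UntwData.coprime_of_eq (a := -1 + (q : ℤ) ^ 2 - (q : ℤ) ^ 4 + (q : ℤ) ^ 5)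
      (by rw [hN]; ring))
  have hrd : ¬ r ∣ Nat.gcd 3 (q + 1) := fun h =>
    hr3 ((Nat.prime_dvd_prime_iff_eq hr Nat.prime_three).1 (h.trans (Nat.gcd_dvd_left _ _)))
  have hcard := S1066.result hq hK
  have hfin : Finite ↥(twistedE6 K q) := inferInstance
  set n := Nat.card ↥(twistedE6 K q) with hn
  have hpos : ∀ k, 0 < k → 0 < q ^ k - 1 := fun k hk => by
    have := Nat.one_lt_pow hk.ne' (by omega : 1 < q)
    omega
  by_cases hq3 : 3 ∣ q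
  · -- characteristic 3
    have hg : Nat.gcd 3 (q + 1) = 1 := (Nat.Prime.coprime_iff_not_dvd Nat.prime_three).2 (by omega)
    have hq3' : 3 ≤ q := Nat.le_of_dvd (by omega) hq3
    rw [hg, one_mul] at hcard
    have hcard' : 1 * n = 1 * q ^ 36 *
        ((q ^ 2 - 1) * (q ^ 5 + 1) * (q ^ 6 - 1) * (q ^ 8 - 1) * (q ^ 9 + 1) * (q ^ 12 - 1)) := by
      rw [hcard]; ring
    have hM : ¬ 3 ∣ (q ^ 2 - 1) * (q ^ 5 + 1) * (q ^ 6 - 1) * (q ^ 8 - 1) * (q ^ 9 + 1) * (q ^ 12 - 1) := by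
      refine not_dvd_mul (not_dvd_mul (not_dvd_mul (not_dvd_mul (not_dvd_mul ?_ ?_) ?_) ?_) ?_) ?_
      · exact not_dvd_sub hq3 (by omega) (by norm_num)
      · exact not_dvd_add hq3 (by norm_num)
      · exact not_dvd_sub hq3 (by omega) (by norm_num)
      · exact not_dvd_sub hq3 (by omega) (by norm_num)
      · exact not_dvd_add hq3 (by norm_num)
      · exact not_dvd_sub hq3 (by omega) (by norm_num)
    refine big_of_T hr hr3 (dvd_of_dvd_mul hr (hr12.mul_right _) hrd h4) h3 (by positivity)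
      (h5 r hr hrW hG) (A := q ^ 36) (part_le hcard' (by norm_num) hM (by positivity)) ?_
    rw [one_mul, one_mul] at hcard'
    rw [← hn, hcard', pow_two, mul_assoc]
    exact Nat.mul_lt_mul_of_pos_left (ineq_tE6 hq3') (by positivity)
  set A := (q ^ 2 - 1) * (q ^ 5 + 1) * (q ^ 6 - 1) * (q ^ 2 - 1) * (q ^ 9 + 1) * (q ^ 6 - 1) with hA
  have hcard' : Nat.gcd 3 (q + 1) * n =
      q ^ 36 * A * ((q ^ 2 + 1) * (q ^ 4 + 1) * ((q ^ 2 + 1) * (q ^ 4 - q ^ 2 + 1))) := by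
    rw [hcard, e8 (by omega), e12 (by omega), hA]; ring
  have hA0 : 0 < A := by
    have := hpos 2 (by norm_num); have := hpos 6 (by norm_num)
    positivity
  have hA1 : A ≤ 4 * q ^ 30 := by
    have h51 : q ^ 5 + 1 ≤ 2 * q ^ 5 := by have := Nat.one_le_pow 5 q (by omega); omega
    have h91 : q ^ 9 + 1 ≤ 2 * q ^ 9 := by have := Nat.one_le_pow 9 q (by omega); omega
    calc A ≤ q ^ 2 * (2 * q ^ 5) * q ^ 6 * q ^ 2 * (2 * q ^ 9) * q ^ 6 := by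
          rw [hA]; gcongr <;> exact Nat.sub_le _ _
      _ = 4 * q ^ 30 := by ring
  refine big_of_T hr hr3 (dvd_of_dvd_mul hr (hr12.mul_right _) hrd h4) h3 (by positivity)
    (h5 r hr hrW hG) (A := A) (part_le hcard' (fun h => hq3 (Nat.prime_three.dvd_of_dvd_pow h)) (not_dvd_B hq3) hA0) ?_
  exact ineq_E6 hq2 (Nat.gcd_le_left _ (by norm_num)) hcard' hA1 hA0 (by
    have : q ^ 2 - q ≤ q ^ 2 := Nat.sub_le _ _
    nlinarith)

/-- `G₂(3)` -/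
theorem g23 {F : Type*} [Field F] [Fintype F] (hF : Fintype.card F = 3) : OddRow ↥(Cfsg.Lie.chevG2.group F) 3 := by
  refine oddRow_of fun _ => ?_
  obtain ⟨q, hq⟩ : ∃ q : ℕ, q = 3 := ⟨_, rfl⟩
  rw [← hq] at hF
  have hp : IsType Cfsg.Lie.chevG2 2 CoxeterMatrix.G₂ := by simp
  have hW : Nat.card CoxeterMatrix.G₂.Group = 12 :=
    Cfsg.Agent.S1092.result (⟨2, CoxeterMatrix.G₂⟩, 12) (by simp)
  have : Finite CoxeterMatrix.G₂.Group := Nat.finite_of_card_ne_zero (by rw [hW]; norm_num)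
  have hr : Nat.Prime 7 := by norm_num
  have hrN : 7 ∣ q ^ 2 - q + 1 := by rw [hq]; norm_num
  have hle : q ≤ q ^ 2 := by nlinarith
  have hN : ((q ^ 2 - q + 1 : ℕ) : ℤ) = 1 - (q : ℤ) + (q : ℤ) ^ 2 := by push_cast [Nat.cast_sub hle]; ring
  have hrq : ((7 : ℕ) : ℤ) ∣ 1 - (q : ℤ) + (q : ℤ) ^ 2 := by rw [← hN]; exact Int.natCast_dvd_natCast.2 hrN
  have hrW : ¬ 7 ∣ Nat.card CoxeterMatrix.G₂.Group := by
    rw [hW]; norm_num
  have hG : ∀ s, ¬ ((7 : ℕ) : ℤ) ∣ Gq DataG2h.B (q : ℤ) (DataG2h.R s) := by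
    intro s hs
    rcases DataG2h.dvd_of_G hrq s hs with h1 | h1
    · exact absurd h1 (by norm_num)
    · exact absurd h1 (by norm_num)
  obtain ⟨T, h1, h3, h4, h5, h6⟩ := UntwT.untw_T hp CoxeterMatrix.G₂.toCoxeterSystem (by norm_num) hF
    TorusChar.invC_G2 one_ne_zero DataG2h.hA DataG2h.chainOK DataG2h.cycOK DataG2h.rootOK (N := q ^ 2 - q + 1)
    (by rw [DataG2h.fN_eq, hN]) (UntwData.coprime_of_eq (a := (q : ℤ) - 1) (by rw [hN]; ring)) (d := 1) (Or.inl rfl)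
  have hcard := S1059.result hF
  rw [hq] at hcard
  norm_num at hcard
  refine big_of_T hr (by norm_num) (dvd_of_dvd_mul hr hrN (fun h => hr.one_lt.ne' (Nat.dvd_one.1 h)) h4) h3
    (by positivity) (h5 7 hr hrW hG) (A := 729) (part_le (g := 1) (Q := 1) (B := 8 * 728) (by
      rw [hcard]) (by norm_num) (by norm_num) (by norm_num)) ?_
  rw [hcard, hq]
  norm_num

section orth

open Matrix

/-- unitriangular -/
def Uni {F : Type} [Field F] (M : Matrix.SpecialLinearGroup (Fin 3) F) : Prop :=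
  M 0 0 = 1 ∧ M 1 1 = 1 ∧ M 2 2 = 1 ∧ M 1 0 = 0 ∧ M 2 0 = 0 ∧ M 2 1 = 0

variable {F : Type} [Field F]

theorem Uni.mul {M N : Matrix.SpecialLinearGroup (Fin 3) F} (hM : Uni M) (hN : Uni N) : Uni (M * N) := by
  obtain ⟨a1, a2, a3, a4, a5, a6⟩ := hM
  obtain ⟨b1, b2, b3, b4, b5, b6⟩ := hN
  refine ⟨?_, ?_, ?_, ?_, ?_, ?_⟩ <;>
    rw [Matrix.SpecialLinearGroup.coe_mul, Matrix.mul_apply, Fin.sum_univ_three] <;>
    simp only [a1, a2, a3, a4, a5, a6, b1, b2, b3, b4, b5, b6] <;> ring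

theorem Uni.cube (h3 : (3 : F) = 0) {M : Matrix.SpecialLinearGroup (Fin 3) F} (hM : Uni M) : M ^ 3 = 1 := by
  obtain ⟨a1, a2, a3, a4, a5, a6⟩ := hM
  have e : M ^ 3 = M * M * M := by rw [pow_succ, pow_two]
  rw [e]
  ext i j
  rw [Matrix.SpecialLinearGroup.coe_mul, Matrix.SpecialLinearGroup.coe_mul, Matrix.SpecialLinearGroup.coe_one]
  fin_cases i <;> fin_cases j <;>
    simp [Matrix.mul_apply, Fin.sum_univ_three, a1, a2, a3, a4, a5, a6] <;>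
    first | linear_combination (M 0 1) * h3 | linear_combination (M 1 2) * h3 |
      linear_combination (M 0 2 + M 0 1 * M 1 2) * h3

/-- the unitriangular matrices -/
def U3 (h3 : (3 : F) = 0) : Subgroup (Matrix.SpecialLinearGroup (Fin 3) F) where
  carrier := {M | Uni M}
  mul_mem' := fun hM hN => hM.mul hN
  one_mem' := ⟨rfl, rfl, rfl, rfl, rfl, rfl⟩
  inv_mem' := by
    intro M hM
    have h1 : M⁻¹ = M * M := by
      rw [inv_eq_iff_mul_eq_one, ← pow_two, ← pow_succ']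
      exact hM.cube h3
    show Uni M⁻¹
    rw [h1]
    exact Uni.mul hM hM

theorem pgroup_U3 (h3 : (3 : F) = 0) : IsPGroup 3 ↥(U3 h3) := by
  rintro ⟨M, hM⟩
  refine ⟨1, Subtype.ext ?_⟩
  rw [pow_one]
  exact Uni.cube h3 hM

/-- elementary matrices -/
def ma : Matrix.SpecialLinearGroup (Fin 3) F := ⟨!![1, 1, 0; 0, 1, 0; 0, 0, 1], by simp [Matrix.det_fin_three]⟩

/-- elementary matrices -/
def mb : Matrix.SpecialLinearGroup (Fin 3) F := ⟨!![1, 0, 0; 0, 1, 1; 0, 0, 1], by simp [Matrix.det_fin_three]⟩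

theorem ma_mem (h3 : (3 : F) = 0) : (ma : Matrix.SpecialLinearGroup (Fin 3) F) ∈ U3 h3 :=
  ⟨rfl, rfl, rfl, rfl, rfl, rfl⟩

theorem mb_mem (h3 : (3 : F) = 0) : (mb : Matrix.SpecialLinearGroup (Fin 3) F) ∈ U3 h3 :=
  ⟨rfl, rfl, rfl, rfl, rfl, rfl⟩

theorem ma_mb : (ma : Matrix.SpecialLinearGroup (Fin 3) F) * mb ≠ mb * ma := by
  intro h
  have h1 : (ma * mb : Matrix.SpecialLinearGroup (Fin 3) F) 0 2 = (mb * ma : Matrix.SpecialLinearGroup (Fin 3) F) 0 2 := by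
    rw [h]
  rw [Matrix.SpecialLinearGroup.coe_mul, Matrix.SpecialLinearGroup.coe_mul, Matrix.mul_apply, Matrix.mul_apply,
    Fin.sum_univ_three, Fin.sum_univ_three] at h1
  simp [ma, mb] at h1

/-- `Ω₇(3)` -/
theorem o73 {F : Type} [Field F] [Fintype F] (hF : Fintype.card F = 3) :
    OddRow (Cfsg.POmega F (Cfsg.quadFormOdd 3 F)) 3 := by
  refine oddRow_of fun hab => absurd hab ?_
  have h3 : (3 : F) = 0 := by
    have := FiniteField.cast_card_eq_zero F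
    rw [hF] at this
    exact_mod_cast this
  obtain ⟨g, hg⟩ := Cfsg.Agent.H912.Bd.exists_odd (K := F) (m := 3) (n := 3) le_rfl
  let f := g.comp (Cfsg.Agent.H912.Bd.slO (K := F) (m := 3) le_rfl)
  have hf : Function.Injective f := by
    rw [injective_iff_map_eq_one]
    intro x hx
    have h1 : Cfsg.Agent.H912.Bd.slO (K := F) (m := 3) le_rfl x ∈ Subgroup.center _ := hg hx
    have h2 : x ∈ Subgroup.center (Matrix.SpecialLinearGroup (Fin 3) F) := by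
      rw [Subgroup.mem_center_iff] at h1 ⊢
      intro y
      apply Cfsg.Agent.H912.Bd.slO_injective (K := F) (m := 3) le_rfl
      rw [map_mul, map_mul, h1]
    obtain ⟨r, hr, hrx⟩ := Matrix.SpecialLinearGroup.mem_center_iff.1 h2
    rw [Fintype.card_fin] at hr
    have h4 : (r - 1) ^ 3 = 0 := by linear_combination hr + (r - r ^ 2) * h3
    have h5 : r = 1 := sub_eq_zero.1 (pow_eq_zero_iff (by norm_num) |>.1 h4)
    rw [h5] at hrx
    apply Subtype.ext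
    rw [← hrx, map_one]
    rfl
  have hQ : IsPGroup 3 ↥((U3 h3).map f) := (pgroup_U3 h3).map f
  refine not_abSylow hQ (Subgroup.mem_map_of_mem f (ma_mem h3)) (Subgroup.mem_map_of_mem f (mb_mem h3)) ?_
  intro h
  rw [← map_mul, ← map_mul] at h
  exact ma_mb (hf h)

end orth

end Cfsg.Agent.H127.RelExc
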