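import Cfsg.Agent.H371.FrobCover
import Cfsg.Agent.PLocal.HHBCore

/-!
# Covers in cross characteristic: norms of elements on elementary abelian normal subgroups (helper127)

* `exists_orderOf_of_norm`: if `c ∈ G ⧸ V` of order `m` has a non-trivial norm on `V` (of prime exponent `e`), there is
  an element of order `m * e`.
* `hhb_norm`, `hhb_cover`: an `e`-element acting faithfully on a `p`-group has non-trivial norm (Hall–Higman B),
  `p`, `e` odd.
* `two_norm`, `two_cover`: `e = 2`.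
-/

set_option autoImplicit false
set_option linter.unusedSectionVars false

namespace Cfsg.Agent.H127.Cov

open Finset Cfsg.Agent.H371.Frob

section ext
variable {G : Type*} [Group G] [Finite G]

/-- **An element of order `m * e` from a norm.** -/
theorem exists_orderOf_of_norm (V : Subgroup G) [V.Normal] (hV : IsMulCommutative V) {e : ℕ} (he : e.Prime)
    (hVe : ∀ v ∈ V, v ^ e = 1) (c : G ⧸ V)
    (hnorm : ∃ v : V, letI : CommGroup V := { (inferInstance : Group V) with mul_comm := hV.is_comm.comm }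
      ∏ i ∈ range (orderOf c), quotAct V hV (c⁻¹ ^ i) v ≠ 1) :
    ∃ y : G, orderOf y = orderOf c * e := by
  classical
  obtain ⟨g, rfl⟩ := QuotientGroup.mk_surjective c
  set m := orderOf (g : G ⧸ V) with hm
  have hmpos : 0 < m := orderOf_pos _
  let θ := quotAct V hV
  let _ : CommGroup V := { (inferInstance : Group V) with mul_comm := hV.is_comm.comm }
  obtain ⟨v, hv⟩ := hnorm
  -- powers of `g * v`
  have hpow : ∀ k : ℕ, (g * (v : G)) ^ k = g ^ k * ((∏ i ∈ range k, θ (((g : G ⧸ V)⁻¹) ^ i) v : V) : G) := by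
    intro k
    induction k with
    | zero => simp
    | succ k ih =>
      rw [pow_succ', ih, Finset.prod_range_succ, Subgroup.coe_mul]
      have h1 : ((θ (((g : G ⧸ V)⁻¹) ^ k) v : V) : G) = (g ^ k)⁻¹ * v * g ^ k := by
        have h2 : ((g : G ⧸ V)⁻¹) ^ k = (((g⁻¹) ^ k : G) : G ⧸ V) := by
          rw [QuotientGroup.mk_pow, QuotientGroup.mk_inv]
        rw [h2]
        change ((quotAct V hV _ v : V) : G) = _
        rw [quotAct_mk, inv_pow, inv_inv]
      rw [h1]
      set P := ∏ i ∈ range k, θ (((g : G ⧸ V)⁻¹) ^ i) v with hP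
      have h3 : (P : G) * ((g ^ k)⁻¹ * (v : G) * g ^ k) = ((g ^ k)⁻¹ * (v : G) * g ^ k) * P := by
        have h4 : (g ^ k)⁻¹ * (v : G) * g ^ k ∈ V := by
          have := ‹V.Normal›.conj_mem (v : G) v.2 ((g ^ k)⁻¹)
          rwa [inv_inv] at this
        have := hV.is_comm.comm P ⟨_, h4⟩
        exact congrArg Subtype.val this
      rw [h3, pow_succ']
      group
  have hend : ∀ y : G, (y : G ⧸ V) = (g : G ⧸ V) → y ^ m ≠ 1 → orderOf y = m * e := by
    intro y hy hym
    have h1 : y ^ m ∈ V := by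
      rw [← QuotientGroup.eq_one_iff, QuotientGroup.mk_pow, hy, hm, pow_orderOf_eq_one]
    have h2 : orderOf (y ^ m) = e := by
      have := Fact.mk he
      exact orderOf_eq_prime (hVe _ h1) hym
    have h3 : m ∣ orderOf y := by
      rw [hm, ← hy]
      exact orderOf_map_dvd (QuotientGroup.mk' V) y
    rw [orderOf_pow_of_dvd hmpos.ne' h3] at h2
    rw [← h2, Nat.mul_div_cancel' h3]
  by_cases hg : g ^ m = 1
  · refine ⟨g * v, hend _ ?_ ?_⟩
    · rw [QuotientGroup.mk_mul, (QuotientGroup.eq_one_iff _).2 v.2, mul_one]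
    · rw [hpow, hg, one_mul]
      intro h
      exact hv (Subtype.ext h)
  · exact ⟨g, hend _ rfl hg⟩

end ext

section poly

theorem geom_eq_pow {e : ℕ} [Fact e.Prime] (n : ℕ) :
    (∑ i ∈ range (e ^ n), (Polynomial.X : Polynomial (ZMod e)) ^ i) = (Polynomial.X - 1) ^ (e ^ n - 1) := by
  have h0 : (Polynomial.X - 1 : Polynomial (ZMod e)) ≠ 0 := by
    simpa using Polynomial.X_sub_C_ne_zero (1 : ZMod e)
  apply mul_right_cancel₀ h0
  rw [geom_sum_mul, ← pow_succ, Nat.sub_add_cancel (Nat.one_le_pow _ _ (Fact.out : e.Prime).pos)]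
  have := sub_pow_char_pow (R := Polynomial (ZMod e)) (p := e) (n := n) Polynomial.X 1
  rw [this, one_pow]

end poly

section hhb
variable {A : Type*} [CommGroup A] [Finite A]

/-- automorphisms as linear maps -/
def linOf (e : ℕ) [Module (ZMod e) (Additive A)] (f : MulAut A) : Module.End (ZMod e) (Additive A) :=
  AddMonoidHom.toZModLinearMap e (AddMonoidHom.mk' (fun a : Additive A => Additive.ofMul (f a.toMul)) (fun a b => by
    rw [toMul_add, map_mul, ofMul_mul]))

theorem linOf_apply (e : ℕ) [Module (ZMod e) (Additive A)] (f : MulAut A) (a : Additive A) :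
    linOf e f a = Additive.ofMul (f a.toMul) := rfl

/-- automorphisms as linear maps -/
def linHom (e : ℕ) [Module (ZMod e) (Additive A)] : MulAut A →* Module.End (ZMod e) (Additive A) where
  toFun := linOf e
  map_one' := by
    apply LinearMap.ext
    intro a
    rw [linOf_apply]
    rfl
  map_mul' f g := by
    apply LinearMap.ext
    intro a
    rw [Module.End.mul_apply, linOf_apply, linOf_apply, linOf_apply]
    rfl

theorem linHom_apply (e : ℕ) [Module (ZMod e) (Additive A)] (f : MulAut A) (a : Additive A) :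
    linHom e f a = Additive.ofMul (f a.toMul) := rfl

theorem hhb_norm_aux {e p : ℕ} [he : Fact e.Prime] [hp : Fact p.Prime] (hpe : p ≠ e) (hp2 : p ≠ 2) (he2 : e ≠ 2)
    [Module (ZMod e) (Additive A)] {Q : Type*} [Group Q] [Finite Q] (hQ : IsPGroup p Q) (θ : Q →* MulAut A)
    (hθ : Function.Injective θ) (σ : MulAut Q) (x : MulAut A) (hx : ∀ g, x * θ g = θ (σ g) * x) (n : ℕ)
    (hn : 1 ≤ n) (hxn : x ^ (e ^ n) = 1) (hσn : σ ^ (e ^ n) = 1) (hy : ∃ g, (σ ^ (e ^ (n - 1))) g ≠ g) :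
    ∃ a : A, ∏ i ∈ range (e ^ n), (x ^ i) a ≠ 1 := by
  classical
  by_contra hcon
  push Not at hcon
  have hfin : Module.Finite (ZMod e) (Additive A) := Module.Finite.of_finite
  let L : MulAut A →* Module.End (ZMod e) (Additive A) := linHom e
  have hL : ∀ (f : MulAut A) (a : Additive A), L f a = Additive.ofMul (f a.toMul) := linHom_apply e
  have hLinj : Function.Injective L := by
    intro f g h
    ext a
    have := congrArg (fun φ : Module.End (ZMod e) (Additive A) => φ (Additive.ofMul a)) h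
    exact this
  have hLx : ∑ i ∈ range (e ^ n), (L x) ^ i = 0 := by
    apply LinearMap.ext
    intro a
    rw [LinearMap.sum_apply, LinearMap.zero_apply]
    have h1 : ∀ i, ((L x) ^ i) a = Additive.ofMul ((x ^ i) a.toMul) := by
      intro i
      rw [← map_pow]
      exact hL _ _
    simp only [h1]
    rw [← ofMul_prod, hcon]
    rfl
  have hX : (L x - 1) ^ (e ^ n - 1) = 0 := by
    have h1 := congrArg (Polynomial.aeval (L x)) (geom_eq_pow (e := e) n)
    simp only [map_sum, map_pow, Polynomial.aeval_X, map_sub, map_one] at h1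
    rw [← h1, hLx]
  let K := AlgebraicClosure (ZMod e)
  have hKp : CharP K e := charP_of_injective_algebraMap (algebraMap (ZMod e) K).injective e
  let φ : Module.End (ZMod e) (Additive A) →ₐ[ZMod e] Module.End K (TensorProduct (ZMod e) K (Additive A)) :=
    Module.End.baseChangeHom (ZMod e) K (Additive A)
  have hφ : Function.Injective φ := LinearMap.baseChangeHom_injective (ZMod e) (Additive A) K
  let ρ₀ : MulAut A →* Module.End K (TensorProduct (ZMod e) K (Additive A)) :=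
    (φ : Module.End (ZMod e) (Additive A) →* Module.End K (TensorProduct (ZMod e) K (Additive A))).comp L
  have hρ₀ : Function.Injective ρ₀ := hφ.comp hLinj
  have key := PLocal.HHBCore.core (K := K) (p := e) (q := p) hpe hQ (ρ₀.comp θ) (hρ₀.comp hθ) σ (ρ₀ x)
    (by
      intro g
      have h1 := congrArg ρ₀ (hx g)
      rw [map_mul, map_mul] at h1
      exact h1) n hn (by rw [← map_pow, hxn, map_one]) hσn hy (e ^ n - 1) (by
      have h1 := congrArg φ hX
      rw [map_pow, map_sub, map_one, map_zero] at h1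
      exact h1)
  have hpos : 0 < e ^ n := Nat.pow_pos he.out.pos
  rcases key with h | ⟨n₀, m, h1, -, -, h4, -, -⟩
  · omega
  · have h5 : Odd e := he.out.odd_of_ne_two he2
    have h6 : Odd p := hp.out.odd_of_ne_two hp2
    have h7 : Odd (e ^ n₀) := h5.pow
    have h8 : Odd (p ^ m) := h6.pow
    rw [← h4] at h8
    have h9 : 0 < e ^ n₀ := Nat.pow_pos he.out.pos
    obtain ⟨a, ha⟩ := h7
    obtain ⟨b, hb⟩ := h8
    omega

/-- **Hall–Higman B for norms**: an automorphism `x` of `e`-power order of an elementary abelian `e`-group `A`,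
normalising a `p`-group `Q` of automorphisms on which `x` acts with order `e ^ n`, has non-trivial norm. -/
theorem hhb_norm {e p : ℕ} [he : Fact e.Prime] [hp : Fact p.Prime] (hpe : p ≠ e) (hp2 : p ≠ 2) (he2 : e ≠ 2)
    (hA : ∀ a : A, a ^ e = 1) {Q : Type*} [Group Q] [Finite Q] (hQ : IsPGroup p Q) (θ : Q →* MulAut A)
    (hθ : Function.Injective θ) (σ : MulAut Q) (x : MulAut A) (hx : ∀ g, x * θ g = θ (σ g) * x) (n : ℕ)
    (hn : 1 ≤ n) (hxn : x ^ (e ^ n) = 1) (hσn : σ ^ (e ^ n) = 1) (hy : ∃ g, (σ ^ (e ^ (n - 1))) g ≠ g) :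
    ∃ a : A, ∏ i ∈ range (e ^ n), (x ^ i) a ≠ 1 := by
  let _ : Module (ZMod e) (Additive A) := AddCommGroup.zmodModule (n := e) (fun a => by
    change Additive.ofMul (a.toMul ^ e) = 0
    rw [hA]; rfl)
  exact hhb_norm_aux hpe hp2 he2 hQ θ hθ σ x hx n hn hxn hσn hy

end hhb

section hhbc
variable {G : Type*} [Group G] [Finite G]

/-- **An element of order `e ^ n * e`** (`e`, `p` odd). -/
theorem hhb_cover (V : Subgroup G) [V.Normal] (hV : IsMulCommutative V) {e p : ℕ} (he : e.Prime) (hp : p.Prime)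
    (hpe : p ≠ e) (hp2 : p ≠ 2) (he2 : e ≠ 2) (hVe : ∀ v ∈ V, v ^ e = 1) (U : Subgroup (G ⧸ V)) (hU : IsPGroup p U)
    {c : G ⧸ V} (hn : ∀ a, a ∈ U ↔ c * a * c⁻¹ ∈ U) (hθ : ∀ a ∈ U, quotAct V hV a = 1 → a = 1)
    {n : ℕ} (hn1 : 1 ≤ n) (hc : orderOf c = e ^ n) (hy : ∃ a ∈ U, c ^ (e ^ (n - 1)) * a ≠ a * c ^ (e ^ (n - 1))) :
    ∃ y : G, orderOf y = e ^ n * e := by
  classical
  have hfe : Fact e.Prime := ⟨he⟩
  have hfp : Fact p.Prime := ⟨hp⟩
  let _ : CommGroup V := { (inferInstance : Group V) with mul_comm := hV.is_comm.comm }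
  let θ := quotAct V hV
  have hcN : c⁻¹ ∈ Subgroup.normalizer (U : Set (G ⧸ V)) := by
    rw [inv_mem_iff, Subgroup.mem_normalizer_iff]
    exact hn
  let ξ : Subgroup.normalizer (U : Set (G ⧸ V)) := ⟨c⁻¹, hcN⟩
  let σ : MulAut U := U.normalizerMonoidHom ξ
  have hσ : ∀ (k : ℕ) (h : U), (((σ ^ k) h : U) : G ⧸ V) = (c⁻¹) ^ k * h * ((c⁻¹) ^ k)⁻¹ := by
    intro k h
    have h1 : σ ^ k = U.normalizerMonoidHom (ξ ^ k) := (map_pow _ _ _).symm
    rw [h1]
    rfl
  have hcn : c ^ (e ^ n) = 1 := by rw [← hc, pow_orderOf_eq_one]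
  have hxi : ξ ^ (e ^ n) = 1 := by
    apply Subtype.ext
    show (c⁻¹) ^ (e ^ n) = 1
    rw [inv_pow, hcn, inv_one]
  have key := hhb_norm (A := V) hpe hp2 he2 (fun a => Subtype.ext (hVe _ a.2)) hU (θ.comp U.subtype)
    ((injective_iff_map_eq_one _).2 fun a ha => Subtype.ext (hθ a a.2 ha)) σ (θ c⁻¹) (by
      intro g
      have h1 : c⁻¹ * (g : G ⧸ V) = ((σ g : U) : G ⧸ V) * c⁻¹ := by
        have h2 := hσ 1 g
        rw [pow_one, pow_one] at h2
        rw [h2]; group
      have h2 := congrArg θ h1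
      rw [map_mul, map_mul] at h2
      exact h2) n hn1 (by rw [← map_pow, inv_pow, hcn, inv_one, map_one])
    (by
      show (U.normalizerMonoidHom ξ) ^ (e ^ n) = 1
      rw [← map_pow, hxi, map_one])
    (by
      obtain ⟨a, ha, hne⟩ := hy
      refine ⟨⟨a, ha⟩, ?_⟩
      intro h
      apply hne
      have h1 := congrArg Subtype.val h
      rw [hσ, inv_pow, inv_inv] at h1
      change (c ^ e ^ (n - 1))⁻¹ * a * c ^ e ^ (n - 1) = a at h1
      calc c ^ (e ^ (n - 1)) * a = c ^ (e ^ (n - 1)) * ((c ^ e ^ (n - 1))⁻¹ * a * c ^ e ^ (n - 1)) := by rw [h1]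
        _ = _ := by group)
  rw [← hc]
  apply exists_orderOf_of_norm V hV he hVe c
  obtain ⟨v, hv⟩ := key
  refine ⟨v, ?_⟩
  rw [hc]
  simp only [← map_pow] at hv
  exact hv

end hhbc

section two
variable {H V : Type*} [Group H] [CommGroup V] (θ : H →* MulAut V) (U : Subgroup H) [Finite U]

/-- A Frobenius group `U⟨c⟩` acting on `V`; `W` a `U`-invariant subgroup of `V` on which the norms of `c` vanish:
then `U` acts trivially on `W`. -/
theorem trivial_of_norm' (W : Subgroup V) (hW : ∀ a ∈ U, ∀ v ∈ W, θ a v ∈ W) {c : H} {m e : ℕ} (hm : 0 < m)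
    (hn : ∀ a ∈ U, ∀ i : ℕ, (c ^ i)⁻¹ * a * c ^ i ∈ U)
    (hfix : ∀ i, 0 < i → i < m → ∀ a ∈ U, c ^ i * a = a * c ^ i → a = 1)
    (he : ∀ v : V, v ^ e = 1) (hcop : (Nat.card U).Coprime e)
    (hN : ∀ v ∈ W, ∏ i ∈ range m, θ (c ^ i) v = 1) : ∀ a ∈ U, ∀ v ∈ W, θ a v = v := by
  classical
  let _ : Fintype U := Fintype.ofFinite U
  have key : ∀ v ∈ W, ∏ b : U, θ (b : H) v = 1 → v = 1 := by
    intro v hvW hv
    have h1 : ∏ a : U, ∏ i ∈ range m, θ ((a : H)⁻¹ * c ^ i * a) v = 1 := by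
      apply Finset.prod_eq_one
      intro a _
      have h2 := congrArg (θ (a : H)⁻¹) (hN (θ (a : H) v) (hW _ a.2 _ hvW))
      rw [map_prod, map_one] at h2
      rw [← h2]
      apply Finset.prod_congr rfl
      intro i _
      rw [map_mul, map_mul, MulAut.mul_apply, MulAut.mul_apply]
    rw [Finset.prod_comm] at h1
    have h3 : ∀ i ∈ range m, i ≠ 0 → ∏ a : U, θ ((a : H)⁻¹ * c ^ i * a) v = 1 := by
      intro i hi hi0
      let φ : U → U := fun a => ⟨(c ^ i)⁻¹ * (a : H)⁻¹ * c ^ i * a,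
        U.mul_mem (hn _ (U.inv_mem a.2) i) a.2⟩
      have hφ : Function.Injective φ := by
        intro a b hab
        have h4 : (c ^ i)⁻¹ * (a : H)⁻¹ * c ^ i * a = (c ^ i)⁻¹ * (b : H)⁻¹ * c ^ i * b :=
          congrArg Subtype.val hab
        have h5 : c ^ i * ((a : H) * (b : H)⁻¹) = ((a : H) * (b : H)⁻¹) * c ^ i := by
          have h6 : (a : H)⁻¹ * (c ^ i * a) = (b : H)⁻¹ * (c ^ i * b) := by
            have := congrArg (fun z => c ^ i * z) h4
            simp only [mul_assoc, mul_inv_cancel_left] at this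
            exact this
          calc c ^ i * ((a : H) * (b : H)⁻¹) = a * ((a : H)⁻¹ * (c ^ i * a)) * (b : H)⁻¹ := by group
            _ = a * ((b : H)⁻¹ * (c ^ i * b)) * (b : H)⁻¹ := by rw [h6]
            _ = _ := by group
        have h7 := hfix i (Nat.pos_of_ne_zero hi0) (Finset.mem_range.1 hi) _
          (U.mul_mem a.2 (U.inv_mem b.2)) h5
        exact Subtype.ext (mul_inv_eq_one.1 h7)
      have hφb : Function.Bijective φ := Finite.injective_iff_bijective.1 hφ
      have h8 : ∏ a : U, θ ((a : H)⁻¹ * c ^ i * a) v = ∏ a : U, θ (c ^ i * (φ a : H)) v := by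
        apply Finset.prod_congr rfl
        intro a _
        congr 2
        change (a : H)⁻¹ * c ^ i * a = c ^ i * ((c ^ i)⁻¹ * (a : H)⁻¹ * c ^ i * a)
        group
      rw [h8, hφb.prod_comp (fun b : U => θ (c ^ i * (b : H)) v)]
      have h9 : ∀ b : U, θ (c ^ i * (b : H)) v = θ (c ^ i) (θ (b : H) v) := by
        intro b
        rw [map_mul, MulAut.mul_apply]
      simp only [h9]
      rw [← map_prod, hv, map_one]
    rw [Finset.prod_eq_single_of_mem 0 (Finset.mem_range.2 hm) h3] at h1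
    have h4 : v ^ Nat.card U = 1 := by
      have : ∀ a : U, θ ((a : H)⁻¹ * c ^ 0 * a) v = v := by
        intro a
        rw [pow_zero, mul_one, inv_mul_cancel, map_one, MulAut.one_apply]
      simp only [this] at h1
      rwa [Finset.prod_const, Finset.card_univ, ← Nat.card_eq_fintype_card] at h1
    have h5 := pow_gcd_eq_one.2 ⟨h4, he v⟩
    rwa [hcop, pow_one] at h5
  intro a ha v hvW
  have h1 : θ a v * v⁻¹ = 1 := by
    apply key _ (W.mul_mem (hW a ha v hvW) (W.inv_mem hvW))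
    simp only [map_mul, map_inv, Finset.prod_mul_distrib, Finset.prod_inv_distrib]
    have h2 : ∏ b : U, θ (b : H) (θ a v) = ∏ b : U, θ (b : H) v := by
      have h3 : ∀ b : U, θ (b : H) (θ a v) = θ ((b * ⟨a, ha⟩ : U) : H) v := by
        intro b
        rw [Subgroup.coe_mul, map_mul, MulAut.mul_apply]
      simp only [h3]
      exact (Group.mulRight_bijective (⟨a, ha⟩ : U)).prod_comp (fun b : U => θ (b : H) v)
    rw [h2, mul_inv_cancel]
  exact mul_inv_eq_one.1 h1

/-- **Norms in characteristic two.**  `c` normalises the group `U` of odd order, `c ^ j` (`0 < j < m`) acts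
fixed-point-freely on `U`, `s = c ^ m` centralises `U`.  If all norms (of length `2 m`) vanish, then `U` contains no
element `[[s, u], w]` which acts non-trivially, `u`, `w` commuting with `U`. -/
theorem two_norm {c : H} {m : ℕ} (hm : 0 < m) (hn : ∀ a ∈ U, ∀ i : ℕ, (c ^ i)⁻¹ * a * c ^ i ∈ U)
    (hfix : ∀ i, 0 < i → i < m → ∀ a ∈ U, c ^ i * a = a * c ^ i → a = 1)
    (hs : ∀ a ∈ U, c ^ m * a = a * c ^ m)
    (he : ∀ v : V, v ^ 2 = 1) (hodd : (Nat.card U).Coprime 2)
    (hN : ∀ v : V, ∏ i ∈ range (2 * m), θ (c ^ i) v = 1) (u w : H) (hu : ∀ a ∈ U, u * a = a * u)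
    (hw : ∀ a ∈ U, w * a = a * w) {z : H} (hz : z ∈ U)
    (hzt : z = (c ^ m * u * (c ^ m)⁻¹ * u⁻¹) * w * (c ^ m * u * (c ^ m)⁻¹ * u⁻¹)⁻¹ * w⁻¹) : θ z = 1 := by
  classical
  set s := c ^ m with hsdef
  let f : V →* V :=
    { toFun := fun v => v * θ s v
      map_one' := by rw [map_one, mul_one]
      map_mul' := fun a b => by rw [map_mul, mul_mul_mul_comm] }
  have hf : ∀ v, f v = v * θ s v := fun v => rfl
  have hfa : ∀ a ∈ U, ∀ v, θ a (f v) = f (θ a v) := by
    intro a ha v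
    have h1 : θ a (θ s v) = θ s (θ a v) := by
      rw [← MulAut.mul_apply, ← MulAut.mul_apply, ← map_mul, ← map_mul, hs a ha]
    rw [hf, hf, map_mul, h1]
  have h1 := trivial_of_norm' θ U f.range (by
    rintro a ha _ ⟨v, rfl⟩
    exact ⟨θ a v, (hfa a ha v).symm⟩) hm hn hfix he hodd (by
    rintro _ ⟨v, rfl⟩
    rw [← hN v, two_mul, Finset.prod_range_add]
    rw [← Finset.prod_mul_distrib]
    apply Finset.prod_congr rfl
    intro i _
    rw [hf, map_mul]
    congr 1
    rw [add_comm m i, pow_add, map_mul, MulAut.mul_apply])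
  -- the elements `y = a v v⁻¹` are fixed by `s`
  have hinv : ∀ v : V, v⁻¹ = v := by
    intro v
    have h2 := he v
    rw [pow_two] at h2
    exact inv_eq_of_mul_eq_one_right h2
  have hys : ∀ a ∈ U, ∀ v, θ s (θ a v * v⁻¹) = θ a v * v⁻¹ := by
    intro a ha v
    have h2 := h1 a ha (f v) ⟨v, rfl⟩
    rw [hfa a ha v] at h2
    have h3 : f (θ a v * v⁻¹) = 1 := by rw [map_mul, map_inv, h2, mul_inv_cancel]
    rw [hf] at h3
    have h4 := eq_inv_of_mul_eq_one_right h3
    rw [h4, hinv]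
  have hyu : ∀ g : H, (∀ a ∈ U, g * a = a * g) → ∀ a ∈ U, ∀ v, θ g (θ a v * v⁻¹) = θ a (θ g v) * (θ g v)⁻¹ := by
    intro g hg a ha v
    have h2 : θ g (θ a v) = θ a (θ g v) := by
      rw [← MulAut.mul_apply, ← MulAut.mul_apply, ← map_mul, ← map_mul, hg a ha]
    rw [map_mul, h2, map_inv]
  have hcomm_inv : ∀ g : H, (∀ a ∈ U, g * a = a * g) → ∀ a ∈ U, g⁻¹ * a = a * g⁻¹ := by
    intro g hg a ha
    have h2 : Commute g a := hg a ha
    exact h2.inv_left
  -- an element which fixes all `y`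
  have hfixinv : ∀ g : H, (∀ a ∈ U, ∀ v, θ g (θ a v * v⁻¹) = θ a v * v⁻¹) →
      ∀ a ∈ U, ∀ v, θ g⁻¹ (θ a v * v⁻¹) = θ a v * v⁻¹ := by
    intro g hg a ha v
    have h2 := congrArg (θ g⁻¹) (hg a ha v)
    rw [← MulAut.mul_apply, ← map_mul, inv_mul_cancel, map_one, MulAut.one_apply] at h2
    exact h2.symm
  have hcomm : ∀ g h : H, (∀ a ∈ U, ∀ v, θ g (θ a v * v⁻¹) = θ a v * v⁻¹) → (∀ a ∈ U, h * a = a * h) →
      ∀ a ∈ U, ∀ v, θ (g * h * g⁻¹ * h⁻¹) (θ a v * v⁻¹) = θ a v * v⁻¹ := by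
    intro g h hg hh a ha v
    have e : ∀ x : V, θ (g * h * g⁻¹ * h⁻¹) x = θ g (θ h (θ g⁻¹ (θ h⁻¹ x))) := by
      intro x
      rw [map_mul, map_mul, map_mul]
      rfl
    rw [e, hyu _ (hcomm_inv h hh) a ha v, hfixinv g hg a ha, hyu h hh a ha]
    have h2 : θ h (θ h⁻¹ v) = v := by
      rw [← MulAut.mul_apply, ← map_mul, mul_inv_cancel, map_one, MulAut.one_apply]
    rw [h2, hg a ha]
  have h2 := hcomm s u (fun a ha v => hys a ha v) hu
  have h3 := hcomm (s * u * s⁻¹ * u⁻¹) w h2 hw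
  rw [← hzt] at h3
  ext v
  rw [MulAut.one_apply]
  set y := θ z v * v⁻¹ with hy
  have h4 : θ z y = y := h3 z hz v
  have h5 : θ z v = y * v := by rw [hy, inv_mul_cancel_right]
  have h6 : ∀ j : ℕ, θ (z ^ j) v = y ^ j * v := by
    intro j
    induction j with
    | zero => rw [pow_zero, pow_zero, map_one, MulAut.one_apply, one_mul]
    | succ j ih =>
      rw [pow_succ', map_mul, MulAut.mul_apply, ih, map_mul, map_pow, h4, h5, ← mul_assoc, ← pow_succ]
  have h7 : z ^ Nat.card U = 1 := by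
    have := pow_card_eq_one' (G := U) (x := ⟨z, hz⟩)
    exact congrArg Subtype.val this
  have h8 := h6 (Nat.card U)
  rw [h7, map_one, MulAut.one_apply] at h8
  have h9 : y ^ Nat.card U = 1 := by
    have h10 : y ^ Nat.card U * v = 1 * v := by rw [one_mul]; exact h8.symm
    exact mul_right_cancel h10
  have h10 := pow_gcd_eq_one.2 ⟨h9, he y⟩
  rw [hodd, pow_one] at h10
  rw [h5, h10, one_mul]

end two

section twoc
variable {G : Type*} [Group G] [Finite G]

/-- **An element of order `4 m`** (kernels of exponent two). -/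
theorem two_cover (V : Subgroup G) [V.Normal] (hV : IsMulCommutative V) (hVe : ∀ v ∈ V, v ^ 2 = 1)
    (U : Subgroup (G ⧸ V)) {c : G ⧸ V} {m : ℕ} (hm : 0 < m) (hc : orderOf c = 2 * m)
    (hn : ∀ a ∈ U, c * a * c⁻¹ ∈ U)
    (hfix : ∀ i, 0 < i → i < m → ∀ a ∈ U, c ^ i * a = a * c ^ i → a = 1)
    (hs : ∀ a ∈ U, c ^ m * a = a * c ^ m) (hodd : (Nat.card U).Coprime 2) (u w : G ⧸ V)
    (hu : ∀ a ∈ U, u * a = a * u) (hw : ∀ a ∈ U, w * a = a * w)
    (hz : (c ^ m * u * (c ^ m)⁻¹ * u⁻¹) * w * (c ^ m * u * (c ^ m)⁻¹ * u⁻¹)⁻¹ * w⁻¹ ∈ U)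
    (hθ : quotAct V hV ((c ^ m * u * (c ^ m)⁻¹ * u⁻¹) * w * (c ^ m * u * (c ^ m)⁻¹ * u⁻¹)⁻¹ * w⁻¹) ≠ 1) :
    ∃ y : G, orderOf y = 2 * m * 2 := by
  classical
  let _ : CommGroup V := { (inferInstance : Group V) with mul_comm := hV.is_comm.comm }
  have hc2 : c ^ (2 * m) = 1 := by rw [← hc, pow_orderOf_eq_one]
  have hinvm : (c⁻¹) ^ m = c ^ m := by
    rw [inv_pow, inv_eq_iff_mul_eq_one, ← pow_add, ← two_mul, hc2]
  rw [← hc]
  apply exists_orderOf_of_norm V hV Nat.prime_two hVe c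
  by_contra hcon
  push Not at hcon
  apply hθ
  refine two_norm (quotAct V hV) U (c := c⁻¹) hm ?_ ?_ ?_ (fun v => Subtype.ext (hVe _ v.2)) hodd ?_ u w hu hw hz ?_
  · intro a ha i
    induction i with
    | zero => simpa using ha
    | succ i ih =>
      have h1 := hn _ ih
      convert h1 using 1
      rw [pow_succ]; group
  · intro i hi him a ha hcomm
    apply hfix i hi him a ha
    rw [inv_pow] at hcomm
    have h2 : Commute (c ^ i)⁻¹ a := hcomm
    exact (Commute.inv_left_iff.1 h2)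
  · intro a ha
    rw [hinvm]
    exact hs a ha
  · intro v
    rw [← hc]
    exact hcon v
  · rw [hinvm]

end twoc

end Cfsg.Agent.H127.Cov
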