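import Mathlib

/-!
# Norm sums for a Frobenius action of `r : m` (after H220/NormSum, for any prime `r`)

Let `a` be an additive endomorphism with `a ^ r = 1` without nonzero fixed points and let
`a * c = c * a ^ k`, where `k` has order at least `m` modulo `r`. Then the conjugates of
`1 + c + ⋯ + c ^ (m - 1)` under the powers of `a` sum to `r`.
-/

set_option autoImplicit false

namespace Cfsg.Agent.H127.FrobSum

open Finset

variable {V : Type*} [AddCommGroup V] {r : ℕ} [hr : Fact r.Prime]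

theorem sum_app {ι : Type*} (s : Finset ι) (F : ι → AddMonoid.End V) (v : V) :
    (∑ i ∈ s, F i) v = ∑ i ∈ s, F i v := by
  classical
  induction s using Finset.induction_on with
  | empty => rfl
  | insert i s hi ih => rw [sum_insert hi, sum_insert hi, ← ih]; rfl

theorem fixed_of_pow (a : AddMonoid.End V) (ha : a ^ r = 1) {e : ℕ} (he : ¬ r ∣ e) {v : V}
    (hv : (a ^ e) v = v) : a v = v := by
  have hc : Nat.Coprime e r := ((Nat.Prime.coprime_iff_not_dvd hr.out).mpr he).symm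
  obtain ⟨f, -, hf⟩ := Nat.exists_mul_mod_eq_one_of_coprime hc hr.out.one_lt
  have h1 : ∀ n : ℕ, ((a ^ e) ^ n) v = v := by
    intro n
    induction n with
    | zero => rfl
    | succ n ih => rw [pow_succ, AddMonoid.End.coe_mul, Function.comp_apply, hv, ih]
  have h2 : (a ^ e) ^ f = a := by
    rw [← pow_mul, ← Nat.div_add_mod (e * f) r, hf, pow_add, pow_mul, ha, one_pow, one_mul,
      pow_one]
  have h3 := h1 f
  rwa [h2] at h3

theorem geom_zero (a : AddMonoid.End V) (ha : a ^ r = 1) (h0 : ∀ v, a v = v → v = 0) {e : ℕ}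
    (he : ¬ r ∣ e) : ∑ i ∈ range r, (a ^ e) ^ i = 0 := by
  ext v
  have h1 := mul_geom_sum (a ^ e) r
  have h2 : (a ^ e) ^ r = 1 := by rw [← pow_mul, mul_comm, pow_mul, ha, one_pow]
  rw [h2, sub_self, sub_mul, one_mul, sub_eq_zero] at h1
  have h3 := DFunLike.congr_fun h1 v
  rw [AddMonoid.End.coe_mul, Function.comp_apply] at h3
  have h4 := h0 _ (fixed_of_pow a ha he h3)
  rw [h4]
  rfl

theorem pow_comm (a c : AddMonoid.End V) {k : ℕ} (hac : a * c = c * a ^ k) (i j : ℕ) :
    a ^ i * c ^ j = c ^ j * a ^ (k ^ j * i) := by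
  have h1 : ∀ i, a ^ i * c = c * a ^ (k * i) := by
    intro i
    induction i with
    | zero => simp
    | succ i ih =>
      rw [pow_succ, mul_assoc, hac, ← mul_assoc, ih, mul_assoc, ← pow_add, Nat.mul_succ]
  induction j with
  | zero => simp
  | succ j ih =>
    rw [pow_succ, ← mul_assoc, ih, mul_assoc, h1, ← mul_assoc]
    congr 2
    ring

theorem norm_sum (a c : AddMonoid.End V) (ha : a ^ r = 1) (h0 : ∀ v, a v = v → v = 0)
    {k m : ℕ} (hac : a * c = c * a ^ k)
    (hk : ∀ j, 0 < j → j < m → ¬ r ∣ k ^ j + (r - 1)) (hm : 0 < m) :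
    ∑ i ∈ range r, a ^ i * (∑ j ∈ range m, c ^ j) * a ^ ((r - 1) * i) = r := by
  have h1 : ∀ i ∈ range r, a ^ i * (∑ j ∈ range m, c ^ j) * a ^ ((r - 1) * i) =
      ∑ j ∈ range m, c ^ j * (a ^ (k ^ j + (r - 1))) ^ i := by
    intro i _
    rw [mul_sum, sum_mul]
    refine sum_congr rfl fun j _ => ?_
    rw [pow_comm a c hac, mul_assoc, ← pow_add, ← pow_mul, add_mul]
  rw [sum_congr rfl h1, sum_comm]
  have h2 : ∀ j ∈ range m, j ≠ 0 → ∑ i ∈ range r, c ^ j * (a ^ (k ^ j + (r - 1))) ^ i = 0 := by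
    intro j hj hj0
    rw [← mul_sum, geom_zero a ha h0 (hk j (Nat.pos_of_ne_zero hj0) (mem_range.mp hj)), mul_zero]
  rw [sum_eq_single 0 h2 (fun h => absurd (mem_range.mpr hm) h)]
  have h3 : a ^ (k ^ 0 + (r - 1)) = 1 := by
    rw [pow_zero, Nat.add_sub_cancel' hr.out.one_lt.le]; exact ha
  simp only [pow_zero, one_mul]
  rw [pow_zero] at h3
  rw [h3]
  simp

/-- If every value of the norm is killed by `q`, then `r q` kills the module. -/
theorem nsmul_eq_zero (a c : AddMonoid.End V) (ha : a ^ r = 1) (h0 : ∀ v, a v = v → v = 0)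
    {k m : ℕ} (hac : a * c = c * a ^ k)
    (hk : ∀ j, 0 < j → j < m → ¬ r ∣ k ^ j + (r - 1)) (hm : 0 < m) {q : ℕ}
    (hq : ∀ v, q • (∑ j ∈ range m, (c ^ j) v) = 0) (v : V) : (r * q) • v = 0 := by
  have h1 := DFunLike.congr_fun (norm_sum a c ha h0 hac hk hm) v
  have h2 : q • ((∑ i ∈ range r, a ^ i * (∑ j ∈ range m, c ^ j) * a ^ ((r - 1) * i)) v) = 0 := by
    rw [sum_app, smul_sum]
    refine sum_eq_zero fun i _ => ?_
    have h3 : (a ^ i * (∑ j ∈ range m, c ^ j) * a ^ ((r - 1) * i)) v =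
        (a ^ i) (∑ j ∈ range m, (c ^ j) ((a ^ ((r - 1) * i)) v)) := by
      rw [AddMonoid.End.coe_mul, AddMonoid.End.coe_mul, Function.comp_apply, Function.comp_apply,
        sum_app]
    rw [h3, ← map_nsmul, hq, map_zero]
  rw [h1] at h2
  have h4 : (r : AddMonoid.End V) v = r • v := AddMonoid.End.natCast_apply _ _
  rw [h4, smul_smul] at h2
  rwa [mul_comm]

end Cfsg.Agent.H127.FrobSum
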