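import Mathlib
import Cfsg.Agent.H449.Eigen

/-!
# Lie rings of exponent two with a Frobenius group of order `3 r` of automorphisms (helper127)

After H220/LieThirteen, for any prime `r`. `L` is a Lie ring with `2 L = 0`, `a` an automorphism
of order `r` without fixed points and `c` an automorphism of order `3` with `a c = c a ^ k`,
`k² + k + 1 = 0` modulo `r`, such that the norms `x + c x + c² x` commute. Then `L` is
nilpotent of class at most two.
-/

set_option autoImplicit false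

namespace Cfsg.Agent.H127.LieFrob

open Cfsg.Agent.H449

section
variable {r : ℕ} [hr : Fact r.Prime] {l : ZMod r}

theorem cube_eq (hl : l ^ 2 + l + 1 = 0) : l ^ 3 = 1 := by linear_combination (l - 1) * hl

theorem ne_one (hr3 : r ≠ 3) (hl : l ^ 2 + l + 1 = 0) : l ≠ 1 := by
  rintro rfl
  have h : ((3 : ℕ) : ZMod r) = 0 := by push_cast; linear_combination hl
  rw [ZMod.natCast_eq_zero_iff] at h
  exact hr3 ((Nat.prime_dvd_prime_iff_eq hr.out Nat.prime_three).1 h)

theorem two_ne (hr2 : r ≠ 2) : (2 : ZMod r) ≠ 0 := by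
  intro h
  have h' : ((2 : ℕ) : ZMod r) = 0 := by push_cast; exact h
  rw [ZMod.natCast_eq_zero_iff] at h'
  exact hr2 ((Nat.prime_dvd_prime_iff_eq hr.out Nat.prime_two).1 h')

/-- independent pairs of weights -/
theorem indep_check (hr3 : r ≠ 3) (hl : l ^ 2 + l + 1 = 0) {α β : ZMod r} (hα : α ≠ 0) (hβ : β ≠ 0)
    (hαβ : α + β ≠ 0) (h3 : β ≠ l * α) (h9 : β ≠ l ^ 2 * α) (s t : Fin 3) (hst : s ≠ 0 ∨ t ≠ 0) :
    l ^ (s : ℕ) * α + l ^ (t : ℕ) * β ≠ α + β := by
  have h1 : l - 1 ≠ 0 := sub_ne_zero.2 (ne_one hr3 hl)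
  have hc := cube_eq hl
  have h2 : l ^ 2 - 1 ≠ 0 := by
    intro h
    apply ne_one hr3 hl
    have : l ^ 2 = 1 := sub_eq_zero.1 h
    calc l = l * l ^ 2 := by rw [this, mul_one]
      _ = l ^ 3 := by ring
      _ = 1 := hc
  have z : ∀ {a b : ZMod r}, a ≠ 0 → a * b = 0 → b = 0 := fun ha h => (mul_eq_zero.1 h).resolve_left ha
  intro h
  fin_cases s <;> fin_cases t
  · simp at hst
  · apply hβ; apply z h1
    simp at h; linear_combination h
  · apply hβ; apply z h2
    simp at h; linear_combination h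
  · apply hα; apply z h1
    simp at h; linear_combination h
  · apply hαβ; apply z h1
    simp at h; linear_combination h
  · -- `l α + l² β = α + β`
    apply h3
    have h5 : α + (l + 1) * β = 0 := by
      apply z h1
      simp at h; linear_combination h
    linear_combination - l * h5 + β * hl
  · apply hα; apply z h2
    simp at h; linear_combination h
  · apply h9
    have h5 : (l + 1) * α + β = 0 := by
      apply z h1
      simp at h; linear_combination h
    linear_combination h5 - α * hl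
  · apply hαβ; apply z h2
    simp at h; linear_combination h

theorem dep_check (hr2 : r ≠ 2) (hl : l ^ 2 + l + 1 = 0) {α β γ : ZMod r} (hα : α ≠ 0)
    (hβ : β = l * α ∨ β = l ^ 2 * α) (hγ : γ = l * (α + β) ∨ γ = l ^ 2 * (α + β)) :
    γ ≠ l * α ∧ γ ≠ l ^ 2 * α ∧ γ ≠ l * β ∧ γ ≠ l ^ 2 * β := by
  have hc := cube_eq hl
  have key : ∀ i j : ℕ, - l ^ i * α ≠ l ^ j * α := by
    intro i j h
    have h1 : - l ^ i = l ^ j := mul_right_cancel₀ hα h
    have h2 : (- l ^ i) ^ 3 = (l ^ j) ^ 3 := by rw [h1]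
    have h3 : (l ^ i) ^ 3 = 1 := by rw [← pow_mul, mul_comm, pow_mul, hc, one_pow]
    have h4 : (l ^ j) ^ 3 = 1 := by rw [← pow_mul, mul_comm, pow_mul, hc, one_pow]
    apply two_ne (r := r) hr2
    linear_combination -h2 - h3 - h4
  have hγ' : γ = - l ^ 0 * α ∨ γ = - l ^ 1 * α ∨ γ = - l ^ 2 * α := by
    rcases hβ with rfl | rfl <;> rcases hγ with rfl | rfl
    · left; linear_combination l * α * hl - α * hc
    · right; left; linear_combination l ^ 2 * α * hl - α * l * hc
    · right; right; linear_combination l * α * hl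
    · left; linear_combination l ^ 2 * α * hl - α * hc
  have h4 : l ^ 4 = l := by linear_combination l * hc
  have hβ' : l * β = l ^ 0 * α ∨ l * β = l ^ 1 * α ∨ l * β = l ^ 2 * α := by
    rcases hβ with rfl | rfl
    · right; right; ring
    · left; linear_combination α * hc
  have hβ'' : l ^ 2 * β = l ^ 0 * α ∨ l ^ 2 * β = l ^ 1 * α ∨ l ^ 2 * β = l ^ 2 * α := by
    rcases hβ with rfl | rfl
    · left; linear_combination α * hc
    · right; left; linear_combination α * h4
  refine ⟨?_, ?_, ?_, ?_⟩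
  · intro h
    rcases hγ' with h' | h' | h' <;> rw [h'] at h <;> exact key _ 1 (h.trans (by rw [pow_one]))
  · intro h
    rcases hγ' with h' | h' | h' <;> rw [h'] at h <;> exact key _ 2 h
  · intro h
    rcases hγ' with h' | h' | h' <;> rw [h'] at h <;> rcases hβ' with h'' | h'' | h'' <;>
      rw [h''] at h <;> exact key _ _ h
  · intro h
    rcases hγ' with h' | h' | h' <;> rw [h'] at h <;> rcases hβ'' with h'' | h'' | h'' <;>
      rw [h''] at h <;> exact key _ _ h

end

theorem sum_zmod {r : ℕ} [NeZero r] {A : Type*} [AddCommMonoid A] (f : ℕ → A) :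
    ∑ j : ZMod r, f j.val = ∑ i ∈ Finset.range r, f i := by
  cases r with
  | zero => exact absurd rfl (NeZero.ne 0)
  | succ n => exact Fin.sum_univ_eq_sum_range f (n + 1)

variable {r : ℕ} [hr : Fact r.Prime] {A : Type} [CommRing A] {U : Type*} [LieRing U] [LieAlgebra A U]

/-- The linear projections (up to the factor `r`). -/
noncomputable def P (χ : AddChar (ZMod r) A) (b : U →ₗ[A] U) (j : ZMod r) : U →ₗ[A] U :=
  ∑ i : ZMod r, χ (-(i * j)) • (b ^ i.val)

omit [LieRing U] [LieAlgebra A U] in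
theorem P_apply_eig {U : Type*} [LieRing U] [LieAlgebra A U]
    (χ : AddChar (ZMod r) A) (hχ : ∑ j : ZMod r, χ j = 0) (b : U →ₗ[A] U)
    {i : ZMod r} {x : U} (hx : x ∈ eig χ b i) (j : ZMod r) :
    P χ b j x = if i = j then (r : ℕ) • x else 0 := by
  have h1 : ∀ n : ℕ, (b ^ n) x = χ ((n : ZMod r) * i) • x := by
    intro n
    induction n with
    | zero => simp
    | succ n ih =>
      rw [pow_succ', Module.End.mul_apply, ih, map_smul, mem_eig.mp hx, smul_smul,
        ← AddChar.map_add_eq_mul]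
      congr 2
      push_cast
      ring
  have h2 : P χ b j x = (∑ k : ZMod r, χ (k * (i - j))) • x := by
    rw [P, LinearMap.sum_apply, Finset.sum_smul]
    refine Finset.sum_congr rfl fun k _ => ?_
    rw [LinearMap.smul_apply, h1, smul_smul, ← AddChar.map_add_eq_mul]
    congr 2
    rw [ZMod.natCast_zmod_val]
    ring
  rw [h2]
  split_ifs with h
  · subst h
    simp only [sub_self, mul_zero, AddChar.map_zero_eq_one, Finset.sum_const, Finset.card_univ,
      ZMod.card]
    rw [nsmul_eq_mul, mul_one, Nat.cast_smul_eq_nsmul]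
  · have h3 : ∑ k : ZMod r, χ (k * (i - j)) = ∑ k : ZMod r, χ k := by
      have h4 : i - j ≠ 0 := sub_ne_zero.mpr h
      exact Fintype.sum_equiv (Equiv.mulRight₀ (i - j) h4) _ _ fun k => rfl
    rw [h3, hχ, zero_smul]

theorem nsmul_eq_self (hr2 : r ≠ 2) {M : Type*} [AddCommGroup M] {x : M} (h2 : 2 • x = 0) :
    (r : ℕ) • x = x := by
  obtain ⟨k, hk⟩ := hr.out.odd_of_ne_two hr2
  rw [hk, add_nsmul, one_nsmul, mul_comm, mul_nsmul', h2, smul_zero, zero_add]

theorem zero_of_two_r (hr2 : r ≠ 2) {M : Type*} [AddCommGroup M] {x : M} (h2 : 2 • x = 0)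
    (h13 : (r : ℕ) • x = 0) : x = 0 := by
  rwa [nsmul_eq_self hr2 h2] at h13

/-- Independent weight spaces commute. -/
theorem indep (χ : AddChar (ZMod r) A) (hχ : ∑ j : ZMod r, χ j = 0) (b d : U →ₗ[A] U)
    (hb : ∀ x y, b ⁅x, y⁆ = ⁅b x, b y⁆)
    (hr2 : r ≠ 2) (hr3 : r ≠ 3) {l : ZMod r} (hl : l ^ 2 + l + 1 = 0)
    (hbd : ∀ j : ZMod r, ∀ x ∈ eig χ b j, d x ∈ eig χ b (l * j))
    (h2 : ∀ x : U, 2 • x = 0) (h0 : ∀ x : U, b x = x → x = 0)
    (hN : ∀ x y : U, ⁅x + d x + d (d x), y + d y + d (d y)⁆ = 0)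
    {α β : ZMod r} (h3 : β ≠ l * α) (h9 : β ≠ l ^ 2 * α) {u v : U} (hu : u ∈ eig χ b α)
    (hv : v ∈ eig χ b β) : ⁅u, v⁆ = 0 := by
  have hz : ∀ x ∈ eig χ b 0, x = 0 := by
    intro x hx
    rw [mem_eig, AddChar.map_zero_eq_one, one_smul] at hx
    exact h0 x hx
  have hmem : ∀ {i j : ZMod r} {x y : U}, x ∈ eig χ b i → y ∈ eig χ b j →
      ⁅x, y⁆ ∈ eig χ b (i + j) := by
    intro i j x y hx hy
    exact fbr_eig_le χ b hb _ (lie_mem_fbr hx hy)
  by_cases hα : α = 0
  · subst hα
    rw [hz u hu, zero_lie]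
  by_cases hβ : β = 0
  · subst hβ
    rw [hz v hv, lie_zero]
  by_cases hαβ : α + β = 0
  · have h := hmem hu hv
    rw [hαβ] at h
    exact hz _ h
  -- the components
  let du : Fin 3 → U := fun s => (d ^ (s : ℕ)) u
  let dv : Fin 3 → U := fun s => (d ^ (s : ℕ)) v
  have hd : ∀ (n : ℕ) {j : ZMod r} {x : U}, x ∈ eig χ b j → (d ^ n) x ∈ eig χ b (l ^ n * j) := by
    intro n
    induction n with
    | zero => intro j x hx; simpa using hx
    | succ n ih =>
      intro j x hx
      have e : l ^ (n + 1) * j = l * (l ^ n * j) := by ring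
      rw [e, pow_succ' d, Module.End.mul_apply]
      exact hbd _ _ (ih hx)
  have hsum : ∑ s : Fin 3, ∑ t : Fin 3, ⁅du s, dv t⁆ = 0 := by
    have h := hN u v
    have e1 : ∑ s : Fin 3, du s = u + d u + d (d u) := by
      simp [Fin.sum_univ_three, du, pow_succ']
    have e2 : ∑ s : Fin 3, dv s = v + d v + d (d v) := by
      simp [Fin.sum_univ_three, dv, pow_succ']
    rw [← e1, ← e2] at h
    rw [← h, sum_lie]
    refine Finset.sum_congr rfl fun s _ => ?_
    rw [lie_sum]
  have hP : P χ b (α + β) (∑ s : Fin 3, ∑ t : Fin 3, ⁅du s, dv t⁆) = (r : ℕ) • ⁅u, v⁆ := by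
    rw [map_sum]
    have h4 : ∀ s t : Fin 3, P χ b (α + β) ⁅du s, dv t⁆ =
        if s = 0 ∧ t = 0 then (r : ℕ) • ⁅u, v⁆ else 0 := by
      intro s t
      rw [P_apply_eig χ hχ b (hmem (hd s hu) (hd t hv))]
      by_cases hst : s = 0 ∧ t = 0
      · obtain ⟨rfl, rfl⟩ := hst
        simp [du, dv]
      · rw [if_neg hst, if_neg]
        apply indep_check hr3 hl hα hβ hαβ h3 h9 s t
        by_contra hcon
        push Not at hcon
        exact hst hcon
    have h5 : ∀ s : Fin 3, P χ b (α + β) (∑ t : Fin 3, ⁅du s, dv t⁆) =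
        if s = 0 then (r : ℕ) • ⁅u, v⁆ else 0 := by
      intro s
      rw [map_sum, Finset.sum_congr rfl fun t _ => h4 s t]
      by_cases hs : s = 0 <;> simp [hs]
    rw [Finset.sum_congr rfl fun s _ => h5 s]
    simp
  rw [hsum, map_zero] at hP
  exact zero_of_two_r hr2 (h2 _) hP.symm

theorem class_two_hom (χ : AddChar (ZMod r) A) (hχ : ∑ j : ZMod r, χ j = 0) (b d : U →ₗ[A] U)
    (hb : ∀ x y, b ⁅x, y⁆ = ⁅b x, b y⁆)
    (hr2 : r ≠ 2) (hr3 : r ≠ 3) {l : ZMod r} (hl : l ^ 2 + l + 1 = 0)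
    (hbd : ∀ j : ZMod r, ∀ x ∈ eig χ b j, d x ∈ eig χ b (l * j))
    (h2 : ∀ x : U, 2 • x = 0) (h0 : ∀ x : U, b x = x → x = 0)
    (hN : ∀ x y : U, ⁅x + d x + d (d x), y + d y + d (d y)⁆ = 0)
    {α β γ : ZMod r} {u v w : U} (hu : u ∈ eig χ b α)
    (hv : v ∈ eig χ b β) (hw : w ∈ eig χ b γ) : ⁅⁅u, v⁆, w⁆ = 0 := by
  have hI : ∀ {α β : ZMod r} {u v : U}, β ≠ l * α → β ≠ l ^ 2 * α → u ∈ eig χ b α →
      v ∈ eig χ b β → ⁅u, v⁆ = 0 := fun h3 h9 hu hv => indep χ hχ b d hb hr2 hr3 hl hbd h2 h0 hN h3 h9 hu hv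
  have hz : ∀ x ∈ eig χ b 0, x = 0 := by
    intro x hx
    rw [mem_eig, AddChar.map_zero_eq_one, one_smul] at hx
    exact h0 x hx
  by_cases hα : α = 0
  · subst hα
    rw [hz u hu, zero_lie, zero_lie]
  by_cases hdep : β = l * α ∨ β = l ^ 2 * α
  swap
  · push Not at hdep
    rw [hI hdep.1 hdep.2 hu hv, zero_lie]
  have huv : ⁅u, v⁆ ∈ eig χ b (α + β) := fbr_eig_le χ b hb _ (lie_mem_fbr hu hv)
  by_cases hdep2 : γ = l * (α + β) ∨ γ = l ^ 2 * (α + β)
  swap
  · push Not at hdep2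
    exact hI hdep2.1 hdep2.2 huv hw
  obtain ⟨c1, c2, c3, c4⟩ := dep_check hr2 hl hα hdep hdep2
  rw [lie_lie, hI c3 c4 hv hw, hI c1 c2 hu hw, lie_zero, lie_zero, sub_zero]

/-- **Class at most two.** -/
theorem class_two (hr2 : r ≠ 2) (hr3 : r ≠ 3) {k : ℕ} (hl : (k : ZMod r) ^ 2 + k + 1 = 0)
    {L : Type*} [LieRing L] (a c : L →+ L)
    (ha : ∀ x y, a ⁅x, y⁆ = ⁅a x, a y⁆) (hap : ∀ x, (⇑a)^[r] x = x)
    (hac : ∀ x, a (c x) = c ((⇑a)^[k] x))
    (h2 : ∀ x : L, 2 • x = 0) (h0 : ∀ x : L, a x = x → x = 0)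
    (hN : ∀ x y : L, ⁅x + c x + c (c x), y + c y + c (c y)⁆ = 0) (x y z : L) :
    ⁅⁅x, y⁆, z⁆ = 0 := by
  obtain ⟨A, _, hfree, hnt, ω, hω, hsum⟩ := exists_root_ring r hr.out
  let χ : AddChar (ZMod r) A := AddChar.zmodChar r hω
  have hχ : ∑ j : ZMod r, χ j = 0 := by
    have h1 : ∀ j : ZMod r, χ j = ω ^ j.val := fun j => AddChar.zmodChar_apply hω j
    rw [Finset.sum_congr rfl fun j _ => h1 j, ← hsum]
    exact sum_zmod (fun j => ω ^ j)
  let b := ext A a
  let d := ext A c
  have hb : ∀ x y, b ⁅x, y⁆ = ⁅b x, b y⁆ := ext_lie A a ha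
  have hbp : ∀ x, (⇑b)^[r] x = x := ext_iterate A a r hap
  have hb0 : ∀ x, b x = x → x = 0 := by
    intro x hx
    have h := ext_fixed A a 1 (fun x hx => by rw [one_smul]; exact h0 x hx) x hx
    rwa [one_smul] at h
  have hb2 : ∀ x : Ext A L, 2 • x = 0 := by
    intro x
    induction x using Ext.ind with
    | h0 => simp
    | h1 s u =>
      rw [nsmul_tm, h2]
      exact TensorProduct.tmul_zero _ _
    | h2 x y h1 h2 => rw [smul_add, h1, h2, add_zero]
  have hbd' : ∀ x, b (d x) = d ((⇑b)^[k] x) := by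
    intro x
    have hit : ∀ (n : ℕ) (s : A) (u : L), (⇑b)^[n] (tm A s u) = tm A s ((⇑a)^[n] u) := by
      intro n
      induction n with
      | zero => intro s u; rfl
      | succ n ih =>
        intro s u
        rw [Function.iterate_succ_apply', ih, Function.iterate_succ_apply']
        exact ext_tm A a s _
    induction x using Ext.ind with
    | h0 =>
      have h1 : (⇑b)^[k] (0 : Ext A L) = 0 := by
        induction k with
        | zero => rfl
        | succ n ih => rw [Function.iterate_succ_apply, map_zero, ext_iterate_zero A a n]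
      rw [h1, map_zero, map_zero]
    | h1 s u =>
      rw [hit]
      change ext A a (ext A c (tm A s u)) = ext A c (tm A s _)
      rw [ext_tm, ext_tm, ext_tm, hac]
    | h2 x y h1 h2 =>
      have h3 : (⇑b)^[k] (x + y) = (⇑b)^[k] x + (⇑b)^[k] y := ext_iterate_add A a k x y
      rw [h3, map_add, map_add, map_add, h1, h2]
  have hbd : ∀ j : ZMod r, ∀ x ∈ eig χ b j, d x ∈ eig χ b (k * j) := by
    intro j x hx
    rw [mem_eig] at hx ⊢
    rw [hbd']
    have hit : ∀ n : ℕ, (⇑b)^[n] x = χ (n * j) • x := by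
      intro n
      induction n with
      | zero => simp
      | succ n ih =>
        rw [Function.iterate_succ_apply', ih, map_smul, hx, smul_smul, ← AddChar.map_add_eq_mul]
        congr 2
        push_cast
        ring
    rw [hit, map_smul]
  have hbN : ∀ x y : Ext A L, ⁅x + d x + d (d x), y + d y + d (d y)⁆ = 0 := by
    intro x y
    induction x using Ext.ind with
    | h0 => simp
    | h1 s u =>
      induction y using Ext.ind with
      | h0 => simp
      | h1 t v =>
        have e : ∀ (s : A) (u : L), tm A s u + d (tm A s u) + d (d (tm A s u)) =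
            tm A s (u + c u + c (c u)) := by
          intro s u
          change tm A s u + ext A c (tm A s u) + ext A c (ext A c (tm A s u)) = _
          rw [ext_tm, ext_tm]
          change _ = s ⊗ₜ[ℤ] _
          rw [TensorProduct.tmul_add, TensorProduct.tmul_add]
          rfl
        rw [e, e, lie_tm, hN]
        exact TensorProduct.tmul_zero _ _
      | h2 y y' h1 h2 =>
        have e : y + y' + d (y + y') + d (d (y + y')) =
            (y + d y + d (d y)) + (y' + d y' + d (d y')) := by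
          simp only [map_add]; abel
        rw [e, lie_add, h1, h2, add_zero]
    | h2 x x' h1 h2 =>
      have e : x + x' + d (x + x') + d (d (x + x')) =
          (x + d x + d (d x)) + (x' + d x' + d (d x')) := by
        simp only [map_add]; abel
      rw [e, add_lie, h1, h2, add_zero]
  have hdec : ∀ x : Ext A L, ∃ f : ZMod r → Ext A L, (∀ j, f j ∈ eig χ b j) ∧
      ∑ j, f j = x := by
    intro x
    refine ⟨fun j => prj χ b j x, fun j => prj_mem χ b hbp j x, ?_⟩
    rw [sum_prj χ hχ b x]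
    exact nsmul_eq_self hr2 (hb2 x)
  have key : ∀ X Y Z : Ext A L, ⁅⁅X, Y⁆, Z⁆ = 0 := by
    intro X Y Z
    obtain ⟨f, hf, rfl⟩ := hdec X
    obtain ⟨g, hg, rfl⟩ := hdec Y
    obtain ⟨h, hh, rfl⟩ := hdec Z
    rw [lie_sum]
    refine Finset.sum_eq_zero fun k _ => ?_
    rw [sum_lie, sum_lie]
    refine Finset.sum_eq_zero fun i _ => ?_
    rw [lie_sum, sum_lie]
    refine Finset.sum_eq_zero fun j _ => ?_
    exact class_two_hom χ hχ b d hb hr2 hr3 hl hbd hb2 hb0 hbN (hf _) (hg _) (hh _)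
  have h1 := key (tm A 1 x) (tm A 1 y) (tm A 1 z)
  rw [lie_tm, lie_tm, one_mul, one_mul] at h1
  exact tm_injective A _ h1

end Cfsg.Agent.H127.LieFrob
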