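import Mathlib
import Cfsg.Agent.H220.ExpFour
import Cfsg.Agent.H127.LieFrob
import Cfsg.Agent.H127.FrobSum

/-!
# 2-groups with a Frobenius group of automorphisms of order `3 r` (helper127, after H220/ExpFour)

Let `K` be a finite 2-group with a fixed-point-free automorphism `ρ` of prime order `r`, and `y` an
automorphism of order `3` with `ρ y = y ρ ^ k`, `k² + k + 1 = 0` modulo `r`, such that `C_K(y)` has
exponent `2`. Then `K` has exponent dividing `4`.
-/

set_option autoImplicit false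

namespace Cfsg.Agent.H127.FrobExp

open Cfsg.Agent.H449 Cfsg.Agent.H220.ExpFour Finset
open scoped commutatorElement

universe u

variable {K : Type u} [Group K]

theorem not_dvd_pow {r : ℕ} [hr : Fact r.Prime] (hr3 : r ≠ 3) {k : ℕ} (hl : r ∣ k ^ 2 + k + 1) {j : ℕ}
    (h1 : 0 < j) (h2 : j < 3) : ¬ r ∣ k ^ j + (r - 1) := by
  have hl' : (k : ZMod r) ^ 2 + k + 1 = 0 := by
    have h := (ZMod.natCast_eq_zero_iff _ _).2 hl
    push_cast at h
    exact h
  have hk1 := LieFrob.ne_one hr3 hl'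
  have hk3 := LieFrob.cube_eq hl'
  intro h
  have h3 : (k : ZMod r) ^ j = 1 := by
    have h4 := (ZMod.natCast_eq_zero_iff _ _).2 h
    push_cast [Nat.cast_sub hr.out.one_lt.le] at h4
    rw [ZMod.natCast_self] at h4
    linear_combination h4
  interval_cases j
  · exact hk1 (by rw [← h3, pow_one])
  · apply hk1
    calc (k : ZMod r) = k * k ^ 2 := by rw [h3, mul_one]
      _ = k ^ 3 := by ring
      _ = 1 := hk3

/-- **Exponent four.** -/
theorem pow_four [Finite K] {r : ℕ} [hr : Fact r.Prime] (hr2 : r ≠ 2) (hr3 : r ≠ 3) {k₀ : ℕ}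
    (hl : r ∣ k₀ ^ 2 + k₀ + 1) (hK : IsPGroup 2 K) (ρ y : K →* K) (hρ : ∀ x, ρ^[r] x = x)
    (hy : ∀ x, y^[3] x = x) (hρy : ∀ x, ρ (y x) = y (ρ^[k₀] x)) (h0 : ∀ x, ρ x = x → x = 1)
    (hC : ∀ x, y x = x → x ^ 2 = 1) (x : K) : x ^ 4 = 1 := by
  classical
  have hl' : (k₀ : ZMod r) ^ 2 + k₀ + 1 = 0 := by
    have h := (ZMod.natCast_eq_zero_iff _ _).2 hl
    push_cast at h
    exact h
  have hcr : Nat.Coprime 2 r := (Nat.coprime_primes Nat.prime_two hr.out).2 (Ne.symm hr2)
  have : Fact (Nat.Prime 3) := ⟨by norm_num⟩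
  have : Fact (Nat.Prime 2) := ⟨by norm_num⟩
  obtain ⟨n, hn⟩ := IsPGroup.iff_card.mp hK
  have hc13 : Nat.Coprime r (Nat.card K) := by
    rw [hn]; exact Nat.Coprime.pow_right _ hcr.symm
  have hc3 : Nat.Coprime 3 (Nat.card K) := by
    rw [hn]; exact Nat.Coprime.pow_right _ (by norm_num)
  let S := lcsSeries K
  let a : AddMonoid.End (GrLie S) := GrLie.map S (lcs_inv ρ)
  let c : AddMonoid.End (GrLie S) := GrLie.map S (lcs_inv y)
  have hap : ∀ f, (⇑a)^[r] f = f := GrLie.map_iterate S (lcs_inv ρ) r hρ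
  have hcp : ∀ f, (⇑c)^[3] f = f := GrLie.map_iterate S (lcs_inv y) 3 hy
  have hac : ∀ f, a (c f) = c ((⇑a)^[k₀] f) := by
    intro f
    refine GrLie.ext S fun k => ?_
    have hr := S.rep_mem (f k)
    have hit : ∀ (m : ℕ) (f : GrLie S) (k : ℕ), ((⇑a)^[m] f) k = (S.mapW ρ k)^[m] (f k) := by
      intro m
      induction m with
      | zero => intro f k; rfl
      | succ m ih => intro f k; rw [Function.iterate_succ_apply, ih]; rfl
    have hρm : ∀ (m : ℕ) (k : ℕ), ∀ x ∈ S.H k, (ρ^[m]) x ∈ S.H k := by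
      intro m
      induction m with
      | zero => intro k x hx; exact hx
      | succ m ih => intro k x hx; rw [Function.iterate_succ_apply]; exact ih k _ (lcs_inv ρ _ _ hx)
    change S.mapW ρ k (S.mapW y k (f k)) = S.mapW y k (((⇑a)^[k₀] f) k)
    rw [hit, ← S.cls_rep (f k), S.mapW_cls (lcs_inv y) hr, S.mapW_cls (lcs_inv ρ) (lcs_inv y _ _ hr),
      S.mapW_iterate (lcs_inv ρ) k k₀ hr, S.mapW_cls (lcs_inv y) (hρm _ _ _ hr), hρy]
  have ha0 : ∀ f, a f = f → f = 0 := by
    intro f hf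
    refine GrLie.ext S fun k => ?_
    obtain ⟨x, hx, hfx, hcx⟩ := exists_fixed_rep hc13 ρ hρ k (f k) (congrFun hf k)
    rw [← hcx, h0 x hfx]
    exact S.cls_one k
  -- classes fixed by `c`
  have hfixc : ∀ f : GrLie S, c f = f → ∀ k, ∃ x ∈ S.H k, x ^ 2 = 1 ∧ y x = x ∧ S.cls k x = f k := by
    intro f hf k
    obtain ⟨x, hx, hfx, hcx⟩ := exists_fixed_rep hc3 y hy k (f k) (congrFun hf k)
    exact ⟨x, hx, hC x hfx, hfx, hcx⟩
  have hNfix : ∀ f, c (f + c f + c (c f)) = f + c f + c (c f) := by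
    intro f
    have h3 : c (c (c f)) = f := hcp f
    rw [map_add, map_add, h3]
    abel
  have hN : ∀ f g, ⁅f + c f + c (c f), g + c g + c (c g)⁆ = 0 := by
    intro f g
    refine GrLie.ext S fun k => ?_
    rw [GrLie.lie_apply, GrLie.zero_apply]
    refine Finset.sum_eq_zero fun ij hij => ?_
    obtain ⟨x, hx, hx2, hyx, hcx⟩ := hfixc _ (hNfix f) ij.1
    obtain ⟨w, hw, hw2, hyw, hcw⟩ := hfixc _ (hNfix g) ij.2
    rw [← hcx, ← hcw, S.bk_cls (Finset.HasAntidiagonal.mem_antidiagonal.mp hij) hx hw]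
    have hxw : ⁅x, w⁆ = 1 := by
      rw [commutatorElement_eq_one_iff_mul_comm]
      have h1 := hC (x * w) (by rw [map_mul, hyx, hyw])
      have hx' : x⁻¹ = x := by rw [inv_eq_iff_mul_eq_one, ← pow_two, hx2]
      have hw' : w⁻¹ = w := by rw [inv_eq_iff_mul_eq_one, ← pow_two, hw2]
      have h2 : (x * w)⁻¹ = x * w := by rw [inv_eq_iff_mul_eq_one, ← pow_two, h1]
      rw [mul_inv_rev, hx', hw'] at h2
      exact h2.symm
    rw [hxw, S.cls_one]
  have h2N : ∀ f, 2 • (f + c f + c (c f)) = 0 := by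
    intro f
    refine GrLie.ext S fun k => ?_
    rw [GrLie.nsmul_apply, GrLie.zero_apply]
    obtain ⟨x, hx, hx2, hyx, hcx⟩ := hfixc _ (hNfix f) k
    rw [← hcx, ← S.cls_pow hx, hx2, S.cls_one]
  have h26 : ∀ f : GrLie S, (r * 2) • f = 0 := by
    intro f
    refine FrobSum.nsmul_eq_zero (V := GrLie S) a c ?_ ha0 (k := k₀) (m := 3) ?_ ?_ (by norm_num) ?_ f
    · refine AddMonoidHom.ext fun f => ?_
      have h1 := hap f
      rw [← AddMonoid.End.coe_pow] at h1
      exact h1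
    · refine AddMonoidHom.ext fun f => ?_
      have h1 := hac f
      rw [← AddMonoid.End.coe_pow] at h1
      exact h1
    · intro j h1 h2
      exact not_dvd_pow hr3 hl h1 h2
    · intro f
      have h1 : ∑ j ∈ range 3, (c ^ j) f = f + c f + c (c f) := by
        rw [Finset.sum_range_succ, Finset.sum_range_succ, Finset.sum_range_succ,
          Finset.sum_range_zero, zero_add]
        rfl
      rw [h1]
      exact h2N f
  have h2 : ∀ f : GrLie S, 2 • f = 0 := by
    intro f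
    refine GrLie.ext S fun k => ?_
    have h3 := congrFun (h26 f) k
    rw [GrLie.nsmul_apply] at h3 ⊢
    rw [GrLie.zero_apply] at h3 ⊢
    set w := f k with hw
    have hr := S.rep_mem w
    have h4 : 2 ^ n • w = 0 := by
      rw [← S.cls_rep w, ← S.cls_pow hr, ← hn, pow_card_eq_one', S.cls_one]
    have h5 : addOrderOf w ∣ r * 2 := addOrderOf_dvd_of_nsmul_eq_zero h3
    have h6 : addOrderOf w ∣ 2 ^ n := addOrderOf_dvd_of_nsmul_eq_zero h4
    have h7 : Nat.Coprime (addOrderOf w) r :=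
      Nat.Coprime.coprime_dvd_left h6 (Nat.Coprime.pow_left _ hcr)
    exact addOrderOf_dvd_iff_nsmul_eq_zero.mp (h7.dvd_of_dvd_mul_left h5)
  have hcl := LieFrob.class_two hr2 hr3 hl' a c (GrLie.map_lie S (lcs_inv ρ)) hap hac h2 ha0 hN
  -- `γ₃ = γ₄`
  have h3 : (⊤ : Subgroup K).lowerCentralSeries 2 ≤ (⊤ : Subgroup K).lowerCentralSeries 3 := by
    have h4 : ∀ f ∈ lieLcs (GrLie S) 2, f = 0 := by
      intro f hf
      have h5 : ∀ f ∈ lieLcs (GrLie S) 1, ∀ g : GrLie S, ⁅f, g⁆ = 0 := by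
        intro f hf g
        refine AddSubgroup.closure_induction ?_ ?_ ?_ ?_ hf
        · rintro _ ⟨u, -, v, rfl⟩
          exact hcl u v g
        · exact zero_lie g
        · intro u v _ _ hu hv
          rw [add_lie, hu, hv, add_zero]
        · intro u _ hu
          rw [neg_lie, hu, neg_zero]
      refine AddSubgroup.closure_induction ?_ ?_ ?_ ?_ hf
      · rintro _ ⟨u, hu, v, rfl⟩
        exact h5 u hu v
      · rfl
      · intro u v _ _ hu hv
        rw [hu, hv, add_zero]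
      · intro u _ hu
        rw [hu, neg_zero]
    intro x hx
    have hx' : x ∈ S.H 3 := hx
    have h5 := h4 _ (mem_lieLcs 2 x hx)
    have h6 : S.cls 3 x = 0 := by
      have h7 := congrFun h5 3
      rw [GrLie.single_same] at h7
      exact h7
    exact S.mem_of_cls_eq_zero hx' h6
  -- `γ₃ = 1`
  have h4 : (⊤ : Subgroup K).lowerCentralSeries 2 = ⊥ := by
    have hnil : Group.IsNilpotent K := hK.isNilpotent
    obtain ⟨m, hm⟩ := Subgroup.nilpotent_iff_lowerCentralSeries.mp hnil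
    have h5 : ∀ m : ℕ, (⊤ : Subgroup K).lowerCentralSeries 2 ≤
        (⊤ : Subgroup K).lowerCentralSeries (m + 2) := by
      intro m
      induction m with
      | zero => exact le_rfl
      | succ m ih =>
        refine h3.trans ?_
        rw [Subgroup.lowerCentralSeries_succ, show m + 1 + 2 = (m + 2) + 1 by ring,
          Subgroup.lowerCentralSeries_succ]
        exact Subgroup.commutator_mono ih le_rfl
    refine le_bot_iff.mp ((h5 m).trans ?_)
    rw [← hm]
    exact Subgroup.lowerCentralSeries_antitone _ (by omega)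
  have h5 : ∀ k, ∀ x ∈ S.H k, x ^ 2 ∈ S.H (k + 1) := by
    intro k x hx
    apply S.mem_of_cls_eq_zero (pow_mem hx 2)
    have h6 := congrFun (h2 (GrLie.single S k (S.cls k x))) k
    rw [GrLie.nsmul_apply, GrLie.single_same] at h6
    rw [S.cls_pow hx]
    exact h6
  have h6 : x ^ 4 ∈ S.H 3 := by
    have h7 := h5 2 (x ^ 2) (h5 1 x (by rw [S.one]; trivial))
    rwa [← pow_mul] at h7
  have h7 : x ^ 4 ∈ (⊤ : Subgroup K).lowerCentralSeries 2 := h6
  rw [h4] at h7
  exact h7

end Cfsg.Agent.H127.FrobExp
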