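import Cfsg.Agent.H868.MeetOddPSL

/-!
# Sylow 3-intersections in `PSL₃(q)`, `3 ∣ q - 1` (helper127, task 1185 for S2484)

A 3-group of semilinear maps fixes a frame (the number of frames is prime to 3). Two frames whose transition
matrix has exactly one zero entry and a cross ratio generating the field have trivial common 3-stabiliser.
-/

set_option autoImplicit false

namespace Cfsg.Agent.H127.MeetL3

open Cfsg Cfsg.Agent.H903.SylSemi Matrix
open scoped Pointwise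

variable {F : Type} [Field F]

/-- the union of the three lines -/
def lines (f : Fin 3 → (Fin 3 → F)) : Set (Fin 3 → F) := {v | ∃ (i : Fin 3) (c : F), v = c • f i}

theorem eq_of_smul {f : Fin 3 → (Fin 3 → F)} (hf : LinearIndependent F f) {a b : F} {i j : Fin 3} (ha : a ≠ 0)
    (h : a • f i = b • f j) : i = j ∧ a = b := by
  have h1 : i = j := LinearIndependent.eq_of_smul_apply_eq_smul_apply hf a b i j ha h
  subst h1
  refine ⟨rfl, ?_⟩
  have h2 : (a - b) • f i = 0 := by rw [sub_smul, h, sub_self]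
  rcases smul_eq_zero.1 h2 with h3 | h3
  · exact sub_eq_zero.1 h3
  · exact absurd h3 (hf.ne_zero i)

section card
variable [Fintype F]

/-- bases with the same lines -/
def Fib (f : Fin 3 → (Fin 3 → F)) : Type :=
  {f' : Fin 3 → (Fin 3 → F) // LinearIndependent F f' ∧ lines f' = lines f}

theorem card_fib {f : Fin 3 → (Fin 3 → F)} (hf : LinearIndependent F f) :
    Nat.card (Fib f) = 6 * (Fintype.card F - 1) ^ 3 := by
  classical
  have h1 : Nat.card (Equiv.Perm (Fin 3) × (Fin 3 → Fˣ)) = 6 * (Fintype.card F - 1) ^ 3 := by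
    rw [Nat.card_prod, Nat.card_pi, Nat.card_eq_fintype_card (α := Equiv.Perm (Fin 3)), Fintype.card_perm]
    simp only [Nat.card_eq_fintype_card, Fintype.card_units, Finset.prod_const, Finset.card_univ,
      Fintype.card_fin]
    rfl
  rw [← h1]
  refine (Nat.card_congr (Equiv.ofBijective (fun x : Equiv.Perm (Fin 3) × (Fin 3 → Fˣ) =>
    (⟨fun i => (x.2 i : F) • f (x.1 i), ?_, ?_⟩ : Fib f)) ⟨?_, ?_⟩)).symm
  · have h2 : LinearIndependent F (f ∘ x.1) := hf.comp _ x.1.injective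
    exact h2.units_smul x.2
  · ext v
    constructor
    · rintro ⟨i, c, rfl⟩
      exact ⟨x.1 i, c * x.2 i, by rw [mul_smul]⟩
    · rintro ⟨i, c, rfl⟩
      refine ⟨x.1.symm i, c * (x.2 (x.1.symm i) : F)⁻¹, ?_⟩
      rw [smul_smul, mul_assoc, inv_mul_cancel₀ (Units.ne_zero _), mul_one, x.1.apply_symm_apply]
  · rintro ⟨π, c⟩ ⟨π', c'⟩ h
    have h2 : ∀ i, (c i : F) • f (π i) = (c' i : F) • f (π' i) := fun i =>
      congrFun (congrArg Subtype.val h) i
    have h3 : ∀ i, π i = π' i ∧ c i = c' i := fun i =>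
      ⟨(eq_of_smul hf (Units.ne_zero _) (h2 i)).1, Units.ext (eq_of_smul hf (Units.ne_zero _) (h2 i)).2⟩
    refine Prod.ext (Equiv.ext fun i => (h3 i).1) (funext fun i => (h3 i).2)
  · rintro ⟨f', hf', hl⟩
    have h2 : ∀ i, ∃ (k : Fin 3) (c : F), f' i = c • f k := by
      intro i
      have h3 : f' i ∈ lines f' := ⟨i, 1, (one_smul F _).symm⟩
      rw [hl] at h3
      exact h3
    choose π c hc using h2
    have hc0 : ∀ i, c i ≠ 0 := by
      intro i h
      have h3 := hf'.ne_zero i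
      rw [hc i, h, zero_smul] at h3
      exact h3 rfl
    have hinj : Function.Injective π := by
      intro i j hij
      have h3 : c j • f' i = c i • f' j := by
        rw [hc i, hc j, hij, smul_smul, smul_smul, mul_comm]
      exact (eq_of_smul hf' (hc0 j) h3).1
    refine ⟨(Equiv.ofBijective π (Finite.injective_iff_bijective.1 hinj), fun i => Units.mk0 (c i) (hc0 i)), ?_⟩
    apply Subtype.ext
    funext i
    exact (hc i).symm

/-- frames -/
def Frame (F : Type) [Field F] : Set (Set (Fin 3 → F)) := {S | ∃ f, LinearIndependent F f ∧ lines f = S}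

theorem card_frame : Nat.card (Frame F) * (6 * (Fintype.card F - 1) ^ 3) =
    ∏ i : Fin 3, ((Fintype.card F) ^ 3 - (Fintype.card F) ^ (i : ℕ)) := by
  classical
  have h0 := card_linearIndependent (K := F) (V := Fin 3 → F) (k := 3) (by simp)
  have hfr : Module.finrank F (Fin 3 → F) = 3 := by simp
  rw [hfr] at h0
  rw [← h0]
  have hfin : Finite {f : Fin 3 → (Fin 3 → F) // LinearIndependent F f} := inferInstance
  let L : {f : Fin 3 → (Fin 3 → F) // LinearIndependent F f} → Frame F := fun f => ⟨lines f.1, f.1, f.2, rfl⟩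
  rw [Nat.card_congr (Equiv.sigmaFiberEquiv L).symm]
  have hft : Fintype (Frame F) := Fintype.ofFinite _
  rw [Nat.card_sigma]
  have h1 : ∀ S : Frame F, Nat.card {f // L f = S} = 6 * (Fintype.card F - 1) ^ 3 := by
    rintro ⟨_, f, hf, rfl⟩
    rw [← card_fib hf]
    refine Nat.card_congr ⟨fun x => ⟨x.1.1, x.1.2, congrArg Subtype.val x.2⟩,
      fun x => ⟨⟨x.1, x.2.1⟩, Subtype.ext x.2.2⟩, fun _ => rfl, fun _ => rfl⟩
  simp only [h1, Finset.sum_const, Finset.card_univ, smul_eq_mul]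
  rw [Nat.card_eq_fintype_card]

theorem not_dvd_frame (h3 : 3 ∣ Fintype.card F - 1) : ¬ 3 ∣ Nat.card (Frame F) := by
  have h1 := card_frame (F := F)
  have hq1 : 1 < Fintype.card F := Fintype.one_lt_card
  set q := Fintype.card F with hq
  obtain ⟨k, hk⟩ : ∃ k, q = 3 * k + 1 := ⟨(q - 1) / 3, by omega⟩
  have hk0 : 0 < k := by omega
  rw [Fin.prod_univ_three] at h1
  have e0 : q ^ 3 - q ^ ((0 : Fin 3) : ℕ) = (q - 1) * (q ^ 2 + q + 1) := by
    have : q ^ ((0 : Fin 3) : ℕ) = 1 := pow_zero q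
    rw [this]
    obtain ⟨t, ht⟩ : ∃ t, q = t + 1 := ⟨q - 1, by omega⟩
    rw [ht, Nat.add_sub_cancel]
    apply Nat.sub_eq_of_eq_add
    ring
  have e1 : q ^ 3 - q ^ ((1 : Fin 3) : ℕ) = q * ((q - 1) * (q + 1)) := by
    have : q ^ ((1 : Fin 3) : ℕ) = q := pow_one q
    rw [this]
    obtain ⟨t, ht⟩ : ∃ t, q = t + 1 := ⟨q - 1, by omega⟩
    rw [ht, Nat.add_sub_cancel]
    apply Nat.sub_eq_of_eq_add
    ring
  have e2 : q ^ 3 - q ^ ((2 : Fin 3) : ℕ) = q ^ 2 * (q - 1) := by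
    have : q ^ ((2 : Fin 3) : ℕ) = q ^ 2 := rfl
    rw [this]
    obtain ⟨t, ht⟩ : ∃ t, q = t + 1 := ⟨q - 1, by omega⟩
    rw [ht, Nat.add_sub_cancel]
    apply Nat.sub_eq_of_eq_add
    ring
  rw [e0, e1, e2] at h1
  have e3 : q ^ 2 + q + 1 = 3 * (3 * k ^ 2 + 3 * k + 1) := by rw [hk]; ring
  rw [e3] at h1
  have h5 : (q - 1) ^ 3 * (3 * (2 * Nat.card (Frame F))) =
      (q - 1) ^ 3 * (3 * (q ^ 3 * ((q + 1) * (3 * k ^ 2 + 3 * k + 1)))) := by
    calc (q - 1) ^ 3 * (3 * (2 * Nat.card (Frame F))) = Nat.card (Frame F) * (6 * (q - 1) ^ 3) := by ring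
      _ = _ := by rw [h1]; ring
  have h6 := Nat.eq_of_mul_eq_mul_left (by norm_num)
    (Nat.eq_of_mul_eq_mul_left (Nat.pow_pos (by omega)) h5)
  intro h
  have h7 : 3 ∣ q ^ 3 * ((q + 1) * (3 * k ^ 2 + 3 * k + 1)) := by rw [← h6]; exact Dvd.dvd.mul_left h 2
  rcases (Nat.Prime.dvd_mul Nat.prime_three).1 h7 with h8 | h8
  · have := Nat.prime_three.dvd_of_dvd_pow h8
    omega
  · rcases (Nat.Prime.dvd_mul Nat.prime_three).1 h8 with h9 | h9
    · omega
    · have : 3 ∣ 3 * (k ^ 2 + k) := dvd_mul_right _ _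
      have h10 : 3 * k ^ 2 + 3 * k + 1 = 3 * (k ^ 2 + k) + 1 := by ring
      rw [h10] at h9
      omega

end card

theorem semi_zero {y : Equiv.Perm (Fin 3 → F)} {θ : F ≃+* F} (h : Semi F y θ) : y 0 = 0 := by
  have h1 := h.1 0 0
  rw [add_zero] at h1
  exact (left_eq_add.1 h1)

theorem semi_sum {y : Equiv.Perm (Fin 3 → F)} {θ : F ≃+* F} (h : Semi F y θ) (c : Fin 3 → F)
    (f : Fin 3 → (Fin 3 → F)) : y (∑ k, c k • f k) = ∑ k, θ (c k) • y (f k) := by
  rw [Fin.sum_univ_three, Fin.sum_univ_three, h.1, h.1, h.2, h.2, h.2]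

theorem semi_li {y : Equiv.Perm (Fin 3 → F)} {θ : F ≃+* F} (h : Semi F y θ) {f : Fin 3 → (Fin 3 → F)}
    (hf : LinearIndependent F f) : LinearIndependent F fun i => y (f i) := by
  rw [Fintype.linearIndependent_iff] at hf ⊢
  intro g hg i
  have h1 := semi_sum h (fun k => θ.symm (g k)) f
  simp only [RingEquiv.apply_symm_apply] at h1
  rw [hg, ← semi_zero h] at h1
  have h2 := hf _ (y.injective h1) i
  exact (map_eq_zero_iff _ θ.symm.injective).1 h2

/-- semilinear maps permute the frames -/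
theorem frame_image {y : Equiv.Perm (Fin 3 → F)} (hy : ∃ θ, Semi F y θ)
    {S : Set (Fin 3 → F)} (hS : S ∈ Frame F) : y '' S ∈ Frame F := by
  obtain ⟨f, hf, rfl⟩ := hS
  obtain ⟨θ, h1⟩ := hy
  refine ⟨fun i => y (f i), semi_li h1 hf, ?_⟩
  ext v
  constructor
  · rintro ⟨i, a, rfl⟩
    refine ⟨θ.symm a • f i, ⟨i, _, rfl⟩, ?_⟩
    rw [h1.2, RingEquiv.apply_symm_apply]
  · rintro ⟨_, ⟨i, a, rfl⟩, rfl⟩
    exact ⟨i, θ a, h1.2 _ _⟩

/-- **A 3-group of semilinear maps fixes a frame.** -/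
theorem exists_frame [Fintype F] (h3 : 3 ∣ Fintype.card F - 1) (Γ : Subgroup (Equiv.Perm (Fin 3 → F)))
    (hΓ : IsPGroup 3 Γ) (hY : ∀ y ∈ Γ, ∃ θ, Semi F y θ) :
    ∃ f, LinearIndependent F f ∧ ∀ y ∈ Γ, y '' lines f = lines f := by
  classical
  have : Fact (Nat.Prime 3) := ⟨by norm_num⟩
  let X : SubMulAction Γ (Set (Fin 3 → F)) :=
    { carrier := Frame F
      smul_mem' := by
        intro y S hS
        have h1 : y • S = (y : Equiv.Perm (Fin 3 → F)) '' S := by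
          rw [← Set.image_smul]; rfl
        rw [h1]
        exact frame_image (hY y y.2) hS }
  have hX : ¬ 3 ∣ Nat.card X := not_dvd_frame h3
  have hfin : Finite X := inferInstance
  obtain ⟨⟨S, hS⟩, hfix⟩ := hΓ.nonempty_fixed_point_of_prime_not_dvd_card X hX
  obtain ⟨f, hf, rfl⟩ := hS
  refine ⟨f, hf, fun y hy => ?_⟩
  have h1 := congrArg Subtype.val (hfix ⟨y, hy⟩)
  have h2 : (⟨y, hy⟩ : Γ) • lines f = lines f := h1
  rw [← Set.image_smul] at h2
  exact h2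

theorem perm_sq : ∀ π : Equiv.Perm (Fin 3), (∃ i, π i = i) → π * π = 1 := by decide

theorem one_of_sq {M : Type*} [Group M] {x : M} {k : ℕ} (h1 : x * x = 1) (h2 : x ^ 3 ^ k = 1) : x = 1 := by
  have h3 : Nat.Coprime 2 (3 ^ k) := Nat.Coprime.pow_right _ (by norm_num)
  have h4 : orderOf x ∣ 2 := orderOf_dvd_of_pow_eq_one (by rw [pow_two, h1])
  have h5 : orderOf x ∣ 3 ^ k := orderOf_dvd_of_pow_eq_one h2
  have h6 := Nat.dvd_gcd h4 h5
  rw [Nat.Coprime] at h3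
  rw [h3] at h6
  exact orderOf_eq_one_iff.1 (Nat.dvd_one.1 h6)

theorem mono {f : Fin 3 → (Fin 3 → F)} (hf : LinearIndependent F f) {y : Equiv.Perm (Fin 3 → F)}
    (hy : ∃ θ, Semi F y θ) (hl : y '' lines f = lines f) {k : ℕ} (hk : y ^ 3 ^ k = 1) :
    ∃ (π : Equiv.Perm (Fin 3)) (d : Fin 3 → F), (∀ j, y (f j) = d j • f (π j)) ∧ (∀ j, d j ≠ 0) ∧
      π ^ 3 ^ k = 1 := by
  obtain ⟨θ, h1⟩ := hy
  have h3 : ∀ j, ∃ (i : Fin 3) (c : F), y (f j) = c • f i := by
    intro j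
    have : y (f j) ∈ lines f := by
      rw [← hl]
      exact ⟨f j, ⟨j, 1, (one_smul F _).symm⟩, rfl⟩
    exact this
  choose π d hd using h3
  have hli := semi_li h1 hf
  have hd0 : ∀ j, d j ≠ 0 := by
    intro j h
    have h4 := hli.ne_zero j
    rw [hd, h, zero_smul] at h4
    exact h4 rfl
  have hinj : Function.Injective π := by
    intro i j hij
    have h4 : d j • y (f i) = d i • y (f j) := by
      rw [hd i, hd j, hij, smul_smul, smul_smul, mul_comm]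
    exact (eq_of_smul hli (hd0 j) h4).1
  let π' := Equiv.ofBijective π (Finite.injective_iff_bijective.1 hinj)
  have hit : ∀ m : ℕ, ∀ j, ∃ c : F, c ≠ 0 ∧ (y ^ m) (f j) = c • f ((π' ^ m) j) := by
    intro m
    induction m with
    | zero => intro j; exact ⟨1, one_ne_zero, by simp⟩
    | succ m ih =>
      intro j
      obtain ⟨c, hc, h⟩ := ih j
      refine ⟨θ c * d ((π' ^ m) j), mul_ne_zero ((map_ne_zero θ).2 hc) (hd0 _), ?_⟩
      rw [pow_succ', Equiv.Perm.mul_apply, h, h1.2, hd, smul_smul, pow_succ', Equiv.Perm.mul_apply]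
      rfl
  refine ⟨π', d, hd, hd0, Equiv.ext fun j => ?_⟩
  obtain ⟨c, hc, h⟩ := hit (3 ^ k) j
  rw [hk] at h
  have h4 : (1 : F) • f j = c • f ((π' ^ 3 ^ k) j) := by rw [one_smul]; exact h
  exact (eq_of_smul hf one_ne_zero h4).1.symm

/-- The transition matrix with one zero. -/
def BM (ζ δ : F) : Matrix (Fin 3) (Fin 3) F :=
  !![ζ * δ, 1, 1; δ, 1, ζ; 0, 1, 1]

theorem det_BM {ζ δ : F} (h : ζ * (1 - ζ) * δ = 1) : (BM ζ δ).det = 1 := by
  rw [Matrix.det_fin_three]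
  simp [BM]
  linear_combination h

theorem main {ζ : Fˣ} (hζ : ∀ x : Fˣ, x ∈ Subgroup.zpowers ζ) {δ : F}
    (hδ : δ ≠ 0) {f b : Fin 3 → (Fin 3 → F)} (hf : LinearIndependent F f)
    (hfb : ∀ i, b i = ∑ k, BM (ζ : F) δ k i • f k)
    {y : Equiv.Perm (Fin 3 → F)} {θ : F ≃+* F} (h1 : Semi F y θ)
    {π ρ : Equiv.Perm (Fin 3)} {d e : Fin 3 → F} (hd : ∀ j, y (f j) = d j • f (π j)) (_hd0 : ∀ j, d j ≠ 0)
    (he : ∀ i, y (b i) = e i • b (ρ i)) (he0 : ∀ i, e i ≠ 0)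
    (hπ : ∃ k : ℕ, π ^ 3 ^ k = 1) (hρ : ∃ k : ℕ, ρ ^ 3 ^ k = 1) :
    θ = RingEquiv.refl F ∧ ∃ c : F, c ≠ 0 ∧ ∀ j, y (f j) = c • f j := by
  have hrel : ∀ i k, θ (BM (ζ : F) δ k i) * d k = e i * BM (ζ : F) δ (π k) (ρ i) := by
    intro i k
    have h2 := he i
    rw [hfb i, hfb (ρ i), semi_sum h1, Finset.smul_sum,
      ← Equiv.sum_comp π (fun k => e i • BM (ζ : F) δ k (ρ i) • f k)] at h2
    have h3 : ∑ k, (θ (BM (ζ : F) δ k i) * d k - e i * BM (ζ : F) δ (π k) (ρ i)) • f (π k) = 0 := by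
      simp only [sub_smul, Finset.sum_sub_distrib, mul_smul]
      rw [sub_eq_zero, ← h2]
      refine Finset.sum_congr rfl fun k _ => ?_
      rw [hd]
    have h4 := (Fintype.linearIndependent_iff.1 (hf.comp π π.injective)) _ h3 k
    exact sub_eq_zero.1 h4
  have hz0 : (ζ : F) ≠ 0 := ζ.ne_zero
  have hzero : ∀ j i, BM (ζ : F) δ j i = 0 → j = 2 ∧ i = 0 := by
    intro j i
    fin_cases j <;> fin_cases i <;> simp [BM, hz0, hδ]
  have h20 : BM (ζ : F) δ 2 0 = 0 := by simp [BM]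
  have hpr : π 2 = 2 ∧ ρ 0 = 0 := by
    have h3 := hrel 0 2
    rw [h20, map_zero θ, zero_mul] at h3
    exact hzero _ _ ((mul_eq_zero.1 h3.symm).resolve_left (he0 _))
  have hπ1 : π = 1 := by
    obtain ⟨k, hk⟩ := hπ
    exact one_of_sq (perm_sq π ⟨2, hpr.1⟩) hk
  have hρ1 : ρ = 1 := by
    obtain ⟨k, hk⟩ := hρ
    exact one_of_sq (perm_sq ρ ⟨0, hpr.2⟩) hk
  subst hπ1 hρ1
  simp only [Equiv.Perm.coe_one, id] at hrel hd he
  have r01 := hrel 1 0
  have r11 := hrel 1 1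
  have r21 := hrel 1 2
  have r00 := hrel 0 0
  have r10 := hrel 0 1
  simp [BM] at r01 r11 r21 r00 r10
  have hθζ : θ (ζ : F) = ζ := by
    rw [r01] at r00
    rw [r11] at r10
    have h5 : θ δ * e 1 ≠ 0 := mul_ne_zero ((map_ne_zero θ).2 hδ) (he0 1)
    have h6 : (θ (ζ : F)) * (θ δ * e 1) = ζ * (θ δ * e 1) := by
      linear_combination r00 - (ζ : F) * r10
    exact mul_right_cancel₀ h5 h6
  refine ⟨?_, e 1, he0 1, fun j => ?_⟩
  · ext x
    by_cases hx : x = 0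
    · rw [hx, map_zero]; rfl
    · obtain ⟨m, hm⟩ := Subgroup.mem_zpowers_iff.1 (hζ (Units.mk0 x hx))
      have h5 : x = (ζ : F) ^ m := by
        have := congrArg Units.val hm
        simpa using this.symm
      change θ x = x
      rw [h5, map_zpow₀, hθζ]
  · rw [hd j]
    fin_cases j
    · simp [r01]
    · simp [r11]
    · simp [r21]

section

variable [Fintype F]

/-- **The geometric statement.** -/
theorem sepSL3 (h3 : 3 ∣ Fintype.card F - 1) : SepSL 3 F (Fin 3 → F) := by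
  classical
  obtain ⟨ζ, hζ⟩ := IsCyclic.exists_generator (α := Fˣ)
  have hq1 : 1 < Fintype.card F := Fintype.one_lt_card
  have hζ1 : (ζ : F) ≠ 1 := by
    intro h
    have h4 : orderOf ζ = 1 := by
      rw [orderOf_eq_one_iff]
      ext
      exact h
    have h5 := orderOf_eq_card_of_forall_mem_zpowers hζ
    rw [Nat.card_units, Nat.card_eq_fintype_card, h4] at h5
    omega
  have hdet0 : (ζ : F) * (1 - ζ) ≠ 0 := mul_ne_zero ζ.ne_zero (sub_ne_zero.2 (Ne.symm hζ1))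
  set δ : F := ((ζ : F) * (1 - ζ))⁻¹ with hδdef
  have hδ : δ ≠ 0 := inv_ne_zero hdet0
  have hδ1 : (ζ : F) * (1 - ζ) * δ = 1 := mul_inv_cancel₀ hdet0
  have hdet := det_BM hδ1
  intro Γ hΓ hY _
  obtain ⟨f, hf, hfl⟩ := exists_frame h3 Γ hΓ hY
  have hfr : Fintype.card (Fin 3) = Module.finrank F (Fin 3 → F) := by simp
  let B : Module.Basis (Fin 3) F (Fin 3 → F) := basisOfLinearIndependentOfCardEqFinrank hf hfr
  have hB : ∀ i, B i = f i := fun i => by
    change basisOfLinearIndependentOfCardEqFinrank hf hfr i = f i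
    rw [coe_basisOfLinearIndependentOfCardEqFinrank]
  have hunit : IsUnit (BM (ζ : F) δ).det := by rw [hdet]; exact isUnit_one
  let E : (Fin 3 → F) ≃ₗ[F] (Fin 3 → F) := Matrix.toLinearEquiv B (BM (ζ : F) δ) hunit
  have hE : ∀ v, E v = Matrix.toLin B B (BM (ζ : F) δ) v := fun v => rfl
  have hEdet : LinearMap.det (E : (Fin 3 → F) →ₗ[F] (Fin 3 → F)) = 1 := by
    have : (E : (Fin 3 → F) →ₗ[F] (Fin 3 → F)) = Matrix.toLin B B (BM (ζ : F) δ) := by
      ext v : 1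
      rfl
    rw [this, LinearMap.det_toLin, hdet]
  have hEsdet : LinearMap.det (E.symm : (Fin 3 → F) →ₗ[F] (Fin 3 → F)) = 1 := by
    have h4 := LinearEquiv.det_symm_mul_det E
    rwa [hEdet, mul_one] at h4
  let g : Equiv.Perm (Fin 3 → F) := E.symm.toEquiv
  have hg : ∀ v, g v = E.symm v := fun v => rfl
  have hgi : ∀ v, g⁻¹ v = E v := fun v => rfl
  let b : Fin 3 → (Fin 3 → F) := fun i => g⁻¹ (f i)
  have hbi : ∀ i, b i = ∑ k, BM (ζ : F) δ k i • f k := by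
    intro i
    change g⁻¹ (f i) = _
    rw [hgi, hE, ← hB i, Matrix.toLin_self]
    refine Finset.sum_congr rfl fun k _ => ?_
    rw [hB k]
  refine ⟨g, ⟨(E.symm : (Fin 3 → F) →ₗ[F] (Fin 3 → F)), fun v => rfl, hEsdet⟩, ?_⟩
  intro y hy ⟨a, ha⟩
  obtain ⟨k, hk⟩ := hΓ ⟨y, hy⟩
  obtain ⟨l, hl⟩ := hΓ ⟨_, ha⟩
  have hk' : y ^ 3 ^ k = 1 := congrArg Subtype.val hk
  have hl' : (scal F (Fin 3 → F) a * (g * y * g⁻¹)) ^ 3 ^ l = 1 := congrArg Subtype.val hl
  obtain ⟨π, d, hd, hd0, hπ⟩ := mono hf (hY y hy) (hfl y hy) hk'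
  obtain ⟨ρ, e, he, he0, hρ⟩ := mono hf (hY _ ha) (hfl _ ha) hl'
  obtain ⟨θ, hs1⟩ := hY y hy
  have heb : ∀ i, y (b i) = ((a : F)⁻¹ * e i) • b (ρ i) := by
    intro i
    have h4 := he i
    rw [Equiv.Perm.mul_apply, Equiv.Perm.mul_apply, Equiv.Perm.mul_apply, scal_apply] at h4
    have h5 : g (y (g⁻¹ (f i))) = ((a : F)⁻¹ * e i) • f (ρ i) := by
      rw [mul_smul, ← h4, inv_smul_smul₀ a.ne_zero]
    calc y (b i) = g⁻¹ (g (y (g⁻¹ (f i)))) := by rw [← Equiv.Perm.mul_apply g⁻¹ g, inv_mul_cancel]; rfl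
      _ = _ := by rw [h5, hgi, map_smul]; rfl
  obtain ⟨hθ, c, hc, hyc⟩ := main hζ hδ hf hbi hs1 hd hd0 heb
    (fun i => mul_ne_zero (inv_ne_zero a.ne_zero) (he0 i)) ⟨k, hπ⟩ ⟨l, hρ⟩
  refine ⟨Units.mk0 c hc, Equiv.ext fun v => ?_⟩
  rw [scal_apply, Units.val_mk0]
  obtain ⟨x, rfl⟩ : ∃ x : Fin 3 → F, v = ∑ i, x i • f i := by
    refine ⟨fun i => B.repr v i, ?_⟩
    conv_lhs => rw [← B.sum_repr v]
    refine Finset.sum_congr rfl fun k _ => ?_
    rw [hB k]
  subst hθ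
  rw [Fin.sum_univ_three, hs1.1, hs1.1, hs1.2, hs1.2, hs1.2, hyc, hyc, hyc]
  simp only [RingEquiv.refl_apply, smul_add, smul_comm c]

end

/-- **Sylow 3-intersections in `PSL₃(q)`, `3 ∣ q - 1`.** -/
theorem meet3_PSL3 {F : Type} [Field F] [Fintype F] (h : 3 ∣ Fintype.card F - 1) :
    Cfsg.Agent.H903.SylMeet.Meet 3 (Matrix.ProjectiveSpecialLinearGroup (Fin 3) F) := by
  have : Fact (Nat.Prime 3) := ⟨by norm_num⟩
  exact Cfsg.Agent.H868.MeetOddPSL.meet_PSL le_rfl (by norm_num) (fun h => absurd h (by norm_num)) (sepSL3 h)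

end Cfsg.Agent.H127.MeetL3
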