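import Cfsg.Agent.H177.MeetPSU
import Cfsg.Agent.S0277
import Cfsg.Agent.ClassicalGeometry.HermOrtho

/-!
# Sylow 3-intersections in `PSU₃(q)`, `3 ∣ q + 1` (helper127, task 1186 for S2484)

A 3-group of semisimilitudes fixes an orthonormal frame (the number of frames is prime to 3). Two frames
whose matrix `h(f'ᵢ, fⱼ)` has exactly one zero entry and one entry generating the field have trivial
common 3-stabiliser.
-/

set_option autoImplicit false

namespace Cfsg.Agent.H127.MeetU3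

open Cfsg Cfsg.Agent.LieClassical.HermBasic Cfsg.Agent.ClassicalGeometry.HermOrtho
  Cfsg.Agent.H903.SylSemi Matrix
open scoped Pointwise

variable {F : Type} [Field F] {q : ℕ}

/-- orthonormal bases -/
def ON (q : ℕ) (f : Fin 3 → (Fin 3 → F)) : Prop :=
  ∀ i j, hermForm 3 F q (f i) (f j) = if i = j then 1 else 0

/-- the union of the three lines -/
def lines (f : Fin 3 → (Fin 3 → F)) : Set (Fin 3 → F) := {v | ∃ (i : Fin 3) (c : F), v = c • f i}

theorem ON.self {f : Fin 3 → (Fin 3 → F)} (h : ON q f) (i : Fin 3) : hermForm 3 F q (f i) (f i) = 1 := by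
  rw [h, if_pos rfl]

theorem ON.ne {f : Fin 3 → (Fin 3 → F)} (h : ON q f) {i j : Fin 3} (hij : i ≠ j) :
    hermForm 3 F q (f i) (f j) = 0 := by rw [h, if_neg hij]

section card
variable [Fintype F]

theorem card_ON (hF : Fintype.card F = q ^ 2) :
    Nat.card {f : Fin 3 → (Fin 3 → F) // ON q f} = q ^ 3 * ((q + 1) * (q ^ 2 - 1) * (q ^ 3 + 1)) := by
  classical
  have h1 := S0277.result hF 3
  have h2 : q ^ (3 * (3 - 1) / 2) * ∏ i ∈ Finset.range 3, (if Even i then q ^ (i + 1) + 1 else q ^ (i + 1) - 1) =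
      q ^ 3 * ((q + 1) * (q ^ 2 - 1) * (q ^ 3 + 1)) := by
    simp [Finset.prod_range_succ, Nat.even_iff]
  rw [← h2, ← h1]
  have hs : ∀ (M : Matrix (Fin 3) (Fin 3) F) (i : Fin 3), M.mulVec (Pi.single i 1) = fun k => M k i := by
    intro M i
    ext k
    simp
  refine (Nat.card_congr (Equiv.ofBijective (fun g : GU 3 F q =>
    (⟨fun i => (((g : GL (Fin 3) F)) : Matrix (Fin 3) (Fin 3) F).mulVec (Pi.single i 1), ?_⟩ :
      {f : Fin 3 → (Fin 3 → F) // ON q f})) ⟨?_, ?_⟩)).symm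
  · intro i j
    rw [(LieClassical.GUOrder.mem_GU_iff _).1 g.2]
    rw [herm_single_right hF]
    by_cases h : i = j
    · subst h; simp
    · rw [if_neg h]
      simp [Ne.symm h]
  · intro g g' h
    apply Subtype.ext
    apply Units.ext
    ext k i
    have h3 := congrFun (congrFun (congrArg Subtype.val h) i) k
    simp only [hs] at h3
    exact h3
  · rintro ⟨f, hf⟩
    obtain ⟨g, hg, hgx⟩ := exists_GU_of_orthonormal hF hf
    refine ⟨⟨g, hg⟩, Subtype.ext ?_⟩
    funext i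
    change (g : Matrix (Fin 3) (Fin 3) F).mulVec (Pi.single i 1) = f i
    rw [hgx, Finset.sum_eq_single i]
    · simp
    · intro j _ hj
      simp [hj]
    · intro h; exact absurd (Finset.mem_univ _) h

/-- the elements of norm one -/
abbrev NU (F : Type) [Field F] (q : ℕ) : Type := {x : F // x * x ^ q = 1}

theorem NU.ne_zero (hF : Fintype.card F = q ^ 2) (c : NU F q) : (c : F) ≠ 0 := by
  intro h
  have := c.2
  rw [h, zero_mul] at this
  exact zero_ne_one this

/-- bases with the same lines -/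
def Fib (q : ℕ) (f : Fin 3 → (Fin 3 → F)) : Type := {f' : Fin 3 → (Fin 3 → F) // ON q f' ∧ lines f' = lines f}

theorem card_fib (hF : Fintype.card F = q ^ 2) {f : Fin 3 → (Fin 3 → F)} (hf : ON q f) :
    Nat.card (Fib q f) = 6 * (q + 1) ^ 3 := by
  classical
  have hh : ∀ (a b : F) (i j : Fin 3), hermForm 3 F q (a • f i) (b • f j) = if i = j then a * b ^ q else 0 := by
    intro a b i j
    rw [herm_smul_left, herm_smul_right, hf]
    split_ifs <;> ring
  have hfin : Finite (NU F q) := inferInstance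
  have h1 : Nat.card (Equiv.Perm (Fin 3) × (Fin 3 → NU F q)) = 6 * (q + 1) ^ 3 := by
    rw [Nat.card_prod, Nat.card_pi, Nat.card_eq_fintype_card (α := Equiv.Perm (Fin 3)), Fintype.card_perm]
    simp only [card_norm_eq_one hF, Finset.prod_const, Finset.card_univ, Fintype.card_fin]
    rfl
  rw [← h1]
  refine (Nat.card_congr (Equiv.ofBijective (fun x : Equiv.Perm (Fin 3) × (Fin 3 → NU F q) =>
    (⟨fun i => (x.2 i : F) • f (x.1 i), ?_, ?_⟩ : Fib q f)) ⟨?_, ?_⟩)).symm
  · intro i j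
    rw [hh]
    by_cases h : i = j
    · subst h
      rw [if_pos rfl, if_pos rfl]
      exact (x.2 i).2
    · rw [if_neg h, if_neg (fun h' => h (x.1.injective h'))]
  · ext v
    constructor
    · rintro ⟨i, c, rfl⟩
      exact ⟨x.1 i, c * x.2 i, by rw [mul_smul]⟩
    · rintro ⟨i, c, rfl⟩
      refine ⟨x.1.symm i, c * (x.2 (x.1.symm i) : F)⁻¹, ?_⟩
      rw [smul_smul, mul_assoc, inv_mul_cancel₀ (NU.ne_zero hF _), mul_one, x.1.apply_symm_apply]
  · rintro ⟨π, c⟩ ⟨π', c'⟩ h
    have h2 : ∀ i, (c i : F) • f (π i) = (c' i : F) • f (π' i) := fun i =>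
      congrFun (congrArg Subtype.val h) i
    have h3 : ∀ i, π i = π' i ∧ c i = c' i := by
      intro i
      have h4 := congrArg (fun v => hermForm 3 F q v ((1 : F) • f (π i))) (h2 i)
      simp only [hh, if_pos] at h4
      by_cases h5 : π i = π' i
      · refine ⟨h5, Subtype.ext ?_⟩
        rw [if_pos h5.symm] at h4
        simpa using h4
      · exfalso
        rw [if_neg (fun h => h5 h.symm)] at h4
        simp at h4
        exact NU.ne_zero hF _ h4
    refine Prod.ext (Equiv.ext fun i => (h3 i).1) (funext fun i => (h3 i).2)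
  · rintro ⟨f', hf', hl⟩
    have h2 : ∀ i, ∃ (k : Fin 3) (c : F), f' i = c • f k := by
      intro i
      have h3 : f' i ∈ lines f' := ⟨i, 1, (one_smul F _).symm⟩
      rw [hl] at h3
      exact h3
    choose π c hc using h2
    have hn : ∀ i, c i * c i ^ q = 1 := by
      intro i
      have h3 := hf'.self i
      rwa [hc i, hh, if_pos rfl] at h3
    have hinj : Function.Injective π := by
      intro i j hij
      by_contra hne
      have h3 := hf'.ne hne
      rw [hc i, hc j, hh, if_pos hij] at h3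
      have h4 : c i ≠ 0 := by intro h; have := hn i; rw [h, zero_mul] at this; exact zero_ne_one this
      have h5 : c j ≠ 0 := by intro h; have := hn j; rw [h, zero_mul] at this; exact zero_ne_one this
      exact (mul_ne_zero h4 (pow_ne_zero _ h5)) h3
    refine ⟨(Equiv.ofBijective π (Finite.injective_iff_bijective.1 hinj), fun i => ⟨c i, hn i⟩), ?_⟩
    apply Subtype.ext
    funext i
    exact (hc i).symm

/-- frames -/
def Frame (F : Type) [Field F] (q : ℕ) : Set (Set (Fin 3 → F)) := {S | ∃ f, ON q f ∧ lines f = S}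

theorem card_frame (hF : Fintype.card F = q ^ 2) :
    Nat.card (Frame F q) * (6 * (q + 1) ^ 3) = q ^ 3 * ((q + 1) * (q ^ 2 - 1) * (q ^ 3 + 1)) := by
  classical
  rw [← card_ON hF]
  have hfin : Finite {f : Fin 3 → (Fin 3 → F) // ON q f} := inferInstance
  let L : {f : Fin 3 → (Fin 3 → F) // ON q f} → Frame F q := fun f => ⟨lines f.1, f.1, f.2, rfl⟩
  rw [Nat.card_congr (Equiv.sigmaFiberEquiv L).symm]
  have hft : Fintype (Frame F q) := Fintype.ofFinite _
  rw [Nat.card_sigma]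
  have h1 : ∀ S : Frame F q, Nat.card {f // L f = S} = 6 * (q + 1) ^ 3 := by
    rintro ⟨_, f, hf, rfl⟩
    rw [← card_fib hF hf]
    refine Nat.card_congr ⟨fun x => ⟨x.1.1, x.1.2, congrArg Subtype.val x.2⟩,
      fun x => ⟨⟨x.1, x.2.1⟩, Subtype.ext x.2.2⟩, fun _ => rfl, fun _ => rfl⟩
  simp only [h1, Finset.sum_const, Finset.card_univ, smul_eq_mul]
  rw [Nat.card_eq_fintype_card]

theorem not_dvd_frame (hF : Fintype.card F = q ^ 2) (h3 : 3 ∣ q + 1) : ¬ 3 ∣ Nat.card (Frame F q) := by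
  have h1 := card_frame hF
  obtain ⟨k, hk⟩ : ∃ k, q = 3 * k + 2 := ⟨q / 3, by omega⟩
  have h2 : q ^ 2 - 1 = (q + 1) * (3 * k + 1) := by
    rw [hk]
    have : (3 * k + 2) ^ 2 = (3 * k + 2 + 1) * (3 * k + 1) + 1 := by ring
    rw [this, Nat.add_sub_cancel]
  have h4 : q ^ 3 + 1 = (q + 1) * (3 * (3 * k ^ 2 + 3 * k + 1)) := by rw [hk]; ring
  rw [h2, h4] at h1
  have h5 : (q + 1) ^ 3 * (3 * (2 * Nat.card (Frame F q))) =
      (q + 1) ^ 3 * (3 * (q ^ 3 * ((3 * k + 1) * (3 * k ^ 2 + 3 * k + 1)))) := by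
    calc (q + 1) ^ 3 * (3 * (2 * Nat.card (Frame F q))) = Nat.card (Frame F q) * (6 * (q + 1) ^ 3) := by ring
      _ = _ := by rw [h1]; ring
  have h6 := Nat.eq_of_mul_eq_mul_left (by norm_num) (Nat.eq_of_mul_eq_mul_left (by positivity) h5)
  intro h
  have h7 : 3 ∣ q ^ 3 * ((3 * k + 1) * (3 * k ^ 2 + 3 * k + 1)) := by rw [← h6]; exact Dvd.dvd.mul_left h 2
  rcases (Nat.Prime.dvd_mul Nat.prime_three).1 h7 with h8 | h8
  · have := Nat.prime_three.dvd_of_dvd_pow h8
    omega
  · rcases (Nat.Prime.dvd_mul Nat.prime_three).1 h8 with h9 | h9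
    · omega
    · have : 3 ∣ 3 * (k ^ 2 + k) := dvd_mul_right _ _
      have h10 : 3 * k ^ 2 + 3 * k + 1 = 3 * (k ^ 2 + k) + 1 := by ring
      rw [h10] at h9
      omega

/-- semisimilitudes permute the frames -/
theorem frame_image (hF : Fintype.card F = q ^ 2) {y : Equiv.Perm (Fin 3 → F)} (hy : SemiU F 3 q y)
    {S : Set (Fin 3 → F)} (hS : S ∈ Frame F q) : y '' S ∈ Frame F q := by
  obtain ⟨f, hf, rfl⟩ := hS
  obtain ⟨θ, τ, hτ, h1, h2⟩ := hy
  have h3 : ∀ i j, hermForm 3 F q (y (f i)) (y (f j)) = if i = j then τ else 0 := by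
    intro i j
    rw [h2, hf]
    split_ifs
    · rw [map_one, mul_one]
    · rw [map_zero, mul_zero]
  have h4 : τ ^ q = τ := by
    have h5 := herm_self_pow hF (y (f 0))
    rw [h3, if_pos rfl] at h5
    exact h5
  obtain ⟨c, hc0, hc⟩ := exists_norm_eq_ne hF h4 hτ
  refine ⟨fun i => c⁻¹ • y (f i), ?_, ?_⟩
  · intro i j
    rw [herm_smul_left, herm_smul_right, h3]
    by_cases h : i = j
    · rw [if_pos h, if_pos h, ← hc, inv_pow]
      field_simp
    · rw [if_neg h, if_neg h, mul_zero, mul_zero]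
  · ext v
    constructor
    · rintro ⟨i, a, rfl⟩
      refine ⟨θ.symm (a * c⁻¹) • f i, ⟨i, _, rfl⟩, ?_⟩
      rw [h1.2, RingEquiv.apply_symm_apply, mul_smul]
    · rintro ⟨_, ⟨i, a, rfl⟩, rfl⟩
      refine ⟨i, θ a * c, ?_⟩
      rw [h1.2, smul_smul, mul_assoc, mul_inv_cancel₀ hc0, mul_one]

/-- **A 3-group of semisimilitudes fixes a frame.** -/
theorem exists_frame (hF : Fintype.card F = q ^ 2) (h3 : 3 ∣ q + 1) (Γ : Subgroup (Equiv.Perm (Fin 3 → F)))
    (hΓ : IsPGroup 3 Γ) (hY : ∀ y ∈ Γ, SemiU F 3 q y) :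
    ∃ f, ON q f ∧ ∀ y ∈ Γ, y '' lines f = lines f := by
  classical
  have : Fact (Nat.Prime 3) := ⟨by norm_num⟩
  let X : SubMulAction Γ (Set (Fin 3 → F)) :=
    { carrier := Frame F q
      smul_mem' := by
        intro y S hS
        have h1 : y • S = (y : Equiv.Perm (Fin 3 → F)) '' S := by
          rw [← Set.image_smul]; rfl
        rw [h1]
        exact frame_image hF (hY y y.2) hS }
  have hX : ¬ 3 ∣ Nat.card X := not_dvd_frame hF h3
  have hfin : Finite X := inferInstance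
  obtain ⟨⟨S, hS⟩, hfix⟩ := hΓ.nonempty_fixed_point_of_prime_not_dvd_card X hX
  obtain ⟨f, hf, rfl⟩ := hS
  refine ⟨f, hf, fun y hy => ?_⟩
  have h1 := congrArg Subtype.val (hfix ⟨y, hy⟩)
  have h2 : (⟨y, hy⟩ : Γ) • lines f = lines f := h1
  rw [← Set.image_smul] at h2
  exact h2

/-- The matrix with one zero. -/
def BM (q : ℕ) (ζ s : F) : Matrix (Fin 3) (Fin 3) F :=
  !![ζ, -(s ^ q * ζ), s ^ q * s ^ q; s, ζ ^ q * ζ, -(ζ ^ q * s ^ q); 0, s, ζ ^ q]

omit [Fintype F] in
theorem det_BM {ζ s : F} (h : ζ * ζ ^ q + s * s ^ q = 1) : (BM q ζ s).det = 1 := by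
  rw [Matrix.det_fin_three]
  simp [BM]
  linear_combination (ζ * ζ ^ q + s * s ^ q + 1) * h

theorem on_BM (hF : Fintype.card F = q ^ 2) {ζ s : F} (h : ζ * ζ ^ q + s * s ^ q = 1) :
    ON q (fun i k => BM q ζ s k i) := by
  have hz : (ζ ^ q) ^ q = ζ := pow_q_pow_q hF ζ
  have hs : (s ^ q) ^ q = s := pow_q_pow_q hF s
  have hq0 : q ≠ 0 := by have := two_le hF; omega
  intro i j
  have hd : hermForm 3 F q ((fun i k => BM q ζ s k i) i) ((fun i k => BM q ζ s k i) j) =
      BM q ζ s 0 i * (BM q ζ s 0 j) ^ q + BM q ζ s 1 i * (BM q ζ s 1 j) ^ q +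
        BM q ζ s 2 i * (BM q ζ s 2 j) ^ q := by
    rw [LieClassical.GUOrder.herm_def, Fin.sum_univ_three]
  rw [hd]
  fin_cases i <;> fin_cases j <;>
    simp [BM, mul_pow, neg_pow_q hF, hz, hs, zero_pow hq0]
  · linear_combination h
  · ring
  · ring
  · ring
  · linear_combination (ζ * ζ ^ q + 1) * h
  · linear_combination (-(ζ * s)) * h
  · ring
  · linear_combination (-(ζ^q * s^q)) * h
  · linear_combination (s * s ^ q + 1) * h

end card
end Cfsg.Agent.H127.MeetU3
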