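import Cfsg.Agent.H127.MeetU3

/-!
# Sylow 3-intersections in `PSU₃(q)`, second part: two frames (helper127, task 1186)
-/

set_option autoImplicit false

namespace Cfsg.Agent.H127.MeetU3

open Cfsg Cfsg.Agent.LieClassical.HermBasic Cfsg.Agent.ClassicalGeometry.HermOrtho
  Cfsg.Agent.H903.SylSemi Matrix

variable {F : Type} [Field F] {q : ℕ}

theorem perm_sq : ∀ π : Equiv.Perm (Fin 3), (∃ i, π i = i) → π * π = 1 := by decide

theorem one_of_sq {M : Type*} [Group M] {x : M} {k : ℕ} (h1 : x * x = 1) (h2 : x ^ 3 ^ k = 1) : x = 1 := by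
  have h3 : Nat.Coprime 2 (3 ^ k) := Nat.Coprime.pow_right _ (by norm_num)
  have h4 : orderOf x ∣ 2 := orderOf_dvd_of_pow_eq_one (by rw [pow_two, h1])
  have h5 : orderOf x ∣ 3 ^ k := orderOf_dvd_of_pow_eq_one h2
  have h6 := Nat.dvd_gcd h4 h5
  rw [Nat.Coprime] at h3
  rw [h3] at h6
  exact orderOf_eq_one_iff.1 (Nat.dvd_one.1 h6)

theorem mono {f : Fin 3 → (Fin 3 → F)} (hf : ON q f) {y : Equiv.Perm (Fin 3 → F)} (hy : SemiU F 3 q y)
    (hl : y '' lines f = lines f) {k : ℕ} (hk : y ^ 3 ^ k = 1) :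
    ∃ (π : Equiv.Perm (Fin 3)) (d : Fin 3 → F), (∀ j, y (f j) = d j • f (π j)) ∧ (∀ j, d j ≠ 0) ∧
      π ^ 3 ^ k = 1 := by
  obtain ⟨θ, τ, hτ, h1, h2⟩ := hy
  have h3 : ∀ j, ∃ (i : Fin 3) (c : F), y (f j) = c • f i := by
    intro j
    have : y (f j) ∈ lines f := by
      rw [← hl]
      exact ⟨f j, ⟨j, 1, (one_smul F _).symm⟩, rfl⟩
    exact this
  choose π d hd using h3
  have hh : ∀ i j, d i * d j ^ q * (if π i = π j then 1 else 0) = τ * θ (if i = j then 1 else 0) := by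
    intro i j
    rw [← hf i j, ← h2, hd, hd, herm_smul_left, herm_smul_right, hf]; ring
  have hd0 : ∀ j, d j ≠ 0 := by
    intro j h
    have h4 := hh j j
    rw [h, zero_mul, zero_mul, if_pos rfl, map_one, mul_one] at h4
    exact hτ h4.symm
  have hinj : Function.Injective π := by
    intro i j hij
    by_contra hne
    have h4 := hh i j
    rw [if_pos hij, if_neg hne, map_zero, mul_zero, mul_one] at h4
    exact mul_ne_zero (hd0 i) (pow_ne_zero _ (hd0 j)) h4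
  let π' := Equiv.ofBijective π (Finite.injective_iff_bijective.1 hinj)
  have hit : ∀ m : ℕ, ∀ j, ∃ c : F, c ≠ 0 ∧ (y ^ m) (f j) = c • f ((π' ^ m) j) := by
    intro m
    induction m with
    | zero => intro j; exact ⟨1, one_ne_zero, by simp⟩
    | succ m ih =>
      intro j
      obtain ⟨c, hc, h⟩ := ih j
      refine ⟨θ c * d ((π' ^ m) j), mul_ne_zero ((map_ne_zero θ).2 hc) (hd0 _), ?_⟩
      rw [pow_succ', Equiv.Perm.mul_apply, h, h1.2, hd, smul_smul, pow_succ', Equiv.Perm.mul_apply]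
      rfl
  refine ⟨π', d, hd, hd0, Equiv.ext fun j => ?_⟩
  obtain ⟨c, hc, h⟩ := hit (3 ^ k) j
  rw [hk] at h
  by_contra hne
  have hne' : (π' ^ 3 ^ k) j ≠ j := hne
  have h4 := congrArg (fun v => hermForm 3 F q v (f j)) h
  change hermForm 3 F q (f j) (f j) = hermForm 3 F q (c • f ((π' ^ 3 ^ k) j)) (f j) at h4
  rw [hf.self, herm_smul_left, hf.ne hne', mul_zero] at h4
  exact one_ne_zero h4

theorem theta_pow {y : Equiv.Perm (Fin 3 → F)} {θ : F ≃+* F} (h1 : Semi F y θ) {m : ℕ} (hk : y ^ m = 1) :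
    (θ : RingAut F) ^ m = 1 := by
  have hit : ∀ m : ℕ, ∀ (a : F) v, (y ^ m) (a • v) = ((θ : RingAut F) ^ m) a • (y ^ m) v := by
    intro m
    induction m with
    | zero => intro a v; simp
    | succ m ih =>
      intro a v
      rw [pow_succ', Equiv.Perm.mul_apply, ih, h1.2, pow_succ', Equiv.Perm.mul_apply]
      rfl
  ext a
  have h2 := congrFun (hit m a (fun _ => 1)) 0
  rw [hk] at h2
  change a * 1 = ((θ : RingAut F) ^ m) a * 1 at h2
  rw [mul_one, mul_one] at h2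
  exact h2.symm

section

variable [Fintype F]

theorem theta_eq (hF : Fintype.card F = q ^ 2) {ζ : Fˣ} (hζ : ∀ x : Fˣ, x ∈ Subgroup.zpowers ζ)
    {θ : F ≃+* F} (h : θ (ζ * ζ ^ q) = ζ * ζ ^ q) (h' : ∃ k : ℕ, (θ : RingAut F) ^ 3 ^ k = 1) :
    θ = RingEquiv.refl F := by
  obtain ⟨k, hk⟩ := h'
  have h2 := two_le hF
  have hord : orderOf ζ = (q + 1) * (q - 1) := by
    have h3 := orderOf_eq_card_of_forall_mem_zpowers hζ
    rw [h3, Nat.card_units, Nat.card_eq_fintype_card, hF]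
    obtain ⟨r, rfl⟩ : ∃ r, q = r + 1 := ⟨q - 1, by omega⟩
    have : (r + 1) ^ 2 = (r + 1 + 1) * (r + 1 - 1) + 1 := by
      rw [Nat.add_sub_cancel]; ring
    rw [this, Nat.add_sub_cancel]
  -- θ fixes the subfield
  have hfix : ∀ x : F, x ^ q = x → θ x = x := by
    intro x hx
    by_cases hx0 : x = 0
    · rw [hx0, map_zero]
    · obtain ⟨m, hm⟩ := Subgroup.mem_zpowers_iff.1 (hζ (Units.mk0 x hx0))
      have hm1 : ζ ^ (m * (q - 1 : ℤ)) = 1 := by
        rw [_root_.zpow_mul, hm]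
        have h3 : (Units.mk0 x hx0) ^ q = Units.mk0 x hx0 := by
          ext
          simpa using hx
        have h4 : ((q : ℤ) - 1) = ((q - 1 : ℕ) : ℤ) := by omega
        rw [h4, zpow_natCast]
        have h5 : (Units.mk0 x hx0) ^ (q - 1) * Units.mk0 x hx0 = 1 * Units.mk0 x hx0 := by
          rw [← pow_succ, Nat.sub_add_cancel (by omega), h3, one_mul]
        exact mul_right_cancel h5
      have hm2 := orderOf_dvd_iff_zpow_eq_one.2 hm1
      rw [hord] at hm2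
      have hm3 : ((q : ℤ) + 1) ∣ m := by
        have h4 : ((q : ℤ) - 1) ≠ 0 := by omega
        have h5 : ((((q + 1) * (q - 1) : ℕ)) : ℤ) = ((q : ℤ) + 1) * ((q : ℤ) - 1) := by
          rw [Nat.cast_mul]
          push_cast [Nat.cast_sub (show 1 ≤ q by omega)]
          ring
        rw [h5] at hm2
        exact Int.dvd_of_mul_dvd_mul_right h4 hm2
      obtain ⟨r, hr⟩ := hm3
      have hx2 : x = ((ζ : F) * (ζ : F) ^ q) ^ r := by
        have h4 : (Units.mk0 x hx0) = (ζ * ζ ^ q) ^ r := by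
          rw [← hm, hr, _root_.zpow_mul]
          congr 1
          rw [← pow_succ', ← zpow_natCast]
          push_cast
          rfl
        have h5 := congrArg Units.val h4
        simpa using h5
      rw [hx2, map_zpow₀, h]
  have hsq : ∀ z : F, θ (θ z) = z := by
    intro z
    have hz : (z ^ q) ^ q = z := pow_q_pow_q hF z
    have ha := hfix (z + z ^ q) (by rw [add_pow_q hF, hz, add_comm])
    have hb := hfix (z * z ^ q) (by rw [mul_pow, hz, mul_comm])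
    rw [map_add] at ha
    rw [map_mul] at hb
    have h3 : (θ z - z) * (θ z - z ^ q) = 0 := by
      linear_combination (-1 : F) * hb + θ z * ha
    rcases mul_eq_zero.1 h3 with h4 | h4
    · rw [sub_eq_zero.1 h4, sub_eq_zero.1 h4]
    · rw [sub_eq_zero.1 h4, map_pow, sub_eq_zero.1 h4, hz]
  have h5 : (θ : RingAut F) * θ = 1 := by
    ext z
    exact hsq z
  exact one_of_sq (M := RingAut F) h5 hk

theorem main (hF : Fintype.card F = q ^ 2) {ζ : Fˣ} (hζ : ∀ x : Fˣ, x ∈ Subgroup.zpowers ζ) {s : F}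
    (hs : s ≠ 0) {f b : Fin 3 → (Fin 3 → F)} (hf : ON q f) (hb : ON q b)
    (hfb : ∀ i j, hermForm 3 F q (b i) (f j) = BM q (ζ : F) s j i)
    {y : Equiv.Perm (Fin 3 → F)} {θ : F ≃+* F} {τ : F} (hτ : τ ≠ 0) (h1 : Semi F y θ)
    (h2 : ∀ u v, hermForm 3 F q (y u) (y v) = τ * θ (hermForm 3 F q u v))
    {π ρ : Equiv.Perm (Fin 3)} {d e : Fin 3 → F} (hd : ∀ j, y (f j) = d j • f (π j)) (hd0 : ∀ j, d j ≠ 0)
    (he : ∀ i, y (b i) = e i • b (ρ i)) (he0 : ∀ i, e i ≠ 0)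
    (hπ : ∃ k : ℕ, π ^ 3 ^ k = 1) (hρ : ∃ k : ℕ, ρ ^ 3 ^ k = 1) (hθ : ∃ k : ℕ, (θ : RingAut F) ^ 3 ^ k = 1) :
    θ = RingEquiv.refl F ∧ ∃ c : F, c ≠ 0 ∧ ∀ j, y (f j) = c • f j := by
  have hrel : ∀ i j, e i * d j ^ q * BM q (ζ : F) s (π j) (ρ i) = τ * θ (BM q (ζ : F) s j i) := by
    intro i j
    rw [← hfb i j, ← h2, he, hd, herm_smul_left, herm_smul_right, hfb]
    ring
  have hz0 : (ζ : F) ≠ 0 := ζ.ne_zero
  have hzero : ∀ j i, BM q (ζ : F) s j i = 0 → j = 2 ∧ i = 0 := by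
    intro j i
    fin_cases j <;> fin_cases i <;> simp [BM, hz0, hs]
  have h20 : BM q (ζ : F) s 2 0 = 0 := by simp [BM]
  have hpr : π 2 = 2 ∧ ρ 0 = 0 := by
    have h3 := hrel 0 2
    rw [h20, map_zero θ, mul_zero τ] at h3
    rcases mul_eq_zero.1 h3 with h4 | h4
    · exact absurd h4 (mul_ne_zero (he0 _) (pow_ne_zero _ (hd0 _)))
    · exact hzero _ _ h4
  have hπ1 : π = 1 := by
    obtain ⟨k, hk⟩ := hπ
    exact one_of_sq (perm_sq π ⟨2, hpr.1⟩) hk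
  have hρ1 : ρ = 1 := by
    obtain ⟨k, hk⟩ := hρ
    exact one_of_sq (perm_sq ρ ⟨0, hpr.2⟩) hk
  subst hπ1 hρ1
  simp only [Equiv.Perm.coe_one, id] at hrel hd he
  have hdn : ∀ j, d j * d j ^ q = τ := by
    intro j
    have h3 := h2 (f j) (f j)
    rw [hd, herm_smul_left, herm_smul_right, hf.self, map_one, mul_one, mul_one] at h3
    exact h3
  have hen : ∀ j, e j * e j ^ q = τ := by
    intro j
    have h3 := h2 (b j) (b j)
    rw [he, herm_smul_left, herm_smul_right, hb.self, map_one, mul_one, mul_one] at h3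
    exact h3
  have hτq : τ ^ q = τ := by
    rw [← hdn 0, mul_pow, pow_q_pow_q hF, mul_comm]
  have h00 : BM q (ζ : F) s 0 0 = ζ := by simp [BM]
  have hθ1 : θ = RingEquiv.refl F := by
    refine theta_eq hF hζ ?_ hθ
    have h3 := hrel 0 0
    rw [h00] at h3
    have h4 : (e 0 * d 0 ^ q * (ζ : F)) * (e 0 * d 0 ^ q * (ζ : F)) ^ q =
        (τ * θ ζ) * (τ * θ ζ) ^ q := by rw [h3]
    rw [mul_pow, mul_pow, pow_q_pow_q hF, mul_pow τ, hτq] at h4
    rw [map_mul, map_pow]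
    have h5 : (τ * τ) * ((ζ : F) * (ζ : F) ^ q) = (τ * τ) * (θ ζ * θ ζ ^ q) := by
      calc (τ * τ) * ((ζ : F) * (ζ : F) ^ q) = (e 0 * e 0 ^ q) * (d 0 * d 0 ^ q) * ((ζ : F) * (ζ : F) ^ q) := by
            rw [hdn, hen]
        _ = e 0 * d 0 ^ q * (ζ : F) * (e 0 ^ q * d 0 * (ζ : F) ^ q) := by ring
        _ = _ := by rw [h4]; ring
    exact (mul_left_cancel₀ (mul_ne_zero hτ hτ) h5).symm
  refine ⟨hθ1, ?_⟩
  subst hθ1
  have hed : ∀ i j, BM q (ζ : F) s j i ≠ 0 → e i = d j := by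
    intro i j hne
    have h3 := hrel i j
    change _ = τ * BM q (ζ : F) s j i at h3
    have h4 := mul_right_cancel₀ hne h3
    rw [← hdn j] at h4
    exact mul_right_cancel₀ (pow_ne_zero _ (hd0 j)) h4
  have hne : ∀ j i, (j ≠ 2 ∨ i ≠ 0) → BM q (ζ : F) s j i ≠ 0 := by
    intro j i h hh
    obtain ⟨h3, h4⟩ := hzero j i hh
    rcases h with h | h
    · exact h h3
    · exact h h4
  have e1 : d 0 = d 1 := by
    rw [← hed 0 0 (hne 0 0 (Or.inl (by decide))), ← hed 0 1 (hne 1 0 (Or.inl (by decide)))]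
  have e2 : d 0 = d 2 := by
    rw [← hed 1 0 (hne 0 1 (Or.inl (by decide))), ← hed 1 2 (hne 2 1 (Or.inr (by decide)))]
  refine ⟨d 0, hd0 0, fun j => ?_⟩
  rw [hd j]
  fin_cases j
  · rfl
  · simp [e1]
  · simp [e2]

/-- permutation given by an invertible matrix -/
def pm (A : GL (Fin 3) F) : Equiv.Perm (Fin 3 → F) where
  toFun v := (A : Matrix (Fin 3) (Fin 3) F) *ᵥ v
  invFun v := ((A⁻¹ : GL (Fin 3) F) : Matrix (Fin 3) (Fin 3) F) *ᵥ v
  left_inv v := by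
    change ((A⁻¹ : GL (Fin 3) F) : Matrix (Fin 3) (Fin 3) F) *ᵥ ((A : Matrix (Fin 3) (Fin 3) F) *ᵥ v) = v
    rw [Matrix.mulVec_mulVec, ← Units.val_mul, inv_mul_cancel, Units.val_one, Matrix.one_mulVec]
  right_inv v := by
    change (A : Matrix (Fin 3) (Fin 3) F) *ᵥ (((A⁻¹ : GL (Fin 3) F) : Matrix (Fin 3) (Fin 3) F) *ᵥ v) = v
    rw [Matrix.mulVec_mulVec, ← Units.val_mul, mul_inv_cancel, Units.val_one, Matrix.one_mulVec]

omit [Fintype F] in
theorem pm_apply (A : GL (Fin 3) F) (v : Fin 3 → F) : pm A v = (A : Matrix (Fin 3) (Fin 3) F) *ᵥ v := rfl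

omit [Fintype F] in
theorem pm_inv_apply (A : GL (Fin 3) F) (v : Fin 3 → F) :
    (pm A)⁻¹ v = ((A⁻¹ : GL (Fin 3) F) : Matrix (Fin 3) (Fin 3) F) *ᵥ v := rfl

/-- **The geometric statement.** -/
theorem sepSU3 (hF : Fintype.card F = q ^ 2) (h3 : 3 ∣ q + 1) (hq2 : q ≠ 2) : SepSU 3 F 3 q := by
  classical
  have h2 := two_le hF
  obtain ⟨ζ, hζ⟩ := IsCyclic.exists_generator (α := Fˣ)
  have hord : orderOf ζ = (q + 1) * (q - 1) := by
    have h3 := orderOf_eq_card_of_forall_mem_zpowers hζ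
    rw [h3, Nat.card_units, Nat.card_eq_fintype_card, hF]
    obtain ⟨r, rfl⟩ : ∃ r, q = r + 1 := ⟨q - 1, by omega⟩
    have : (r + 1) ^ 2 = (r + 1 + 1) * (r + 1 - 1) + 1 := by
      rw [Nat.add_sub_cancel]; ring
    rw [this, Nat.add_sub_cancel]
  have hN : (ζ : F) * (ζ : F) ^ q ≠ 1 := by
    intro h
    have h4 : ζ ^ (q + 1) = 1 := by
      ext
      rw [Units.val_pow_eq_pow_val, Units.val_one, pow_succ', h]
    have h5 := orderOf_dvd_of_pow_eq_one h4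
    rw [hord] at h5
    have h6 : (q + 1) * (q - 1) ≤ (q + 1) * 1 := by
      rw [mul_one]; exact Nat.le_of_dvd (by omega) h5
    have h7 := Nat.le_of_mul_le_mul_left h6 (by omega)
    omega
  obtain ⟨s, hs, hsn⟩ := exists_norm_eq_ne hF (c := 1 - (ζ : F) * (ζ : F) ^ q)
    (by
      rw [sub_eq_add_neg, add_pow_q hF, neg_pow_q hF, one_pow, mul_pow, pow_q_pow_q hF]
      ring) (by
      intro h
      exact hN (sub_eq_zero.1 h).symm)
  have hn : (ζ : F) * (ζ : F) ^ q + s * s ^ q = 1 := by rw [hsn]; ring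
  intro Γ hΓ hY _
  obtain ⟨f, hf, hfl⟩ := exists_frame hF h3 Γ hΓ hY
  obtain ⟨P, hP, hPx⟩ := exists_GU_of_orthonormal hF hf
  obtain ⟨B, hB, hBx⟩ := exists_GU_of_orthonormal hF (on_BM hF hn)
  have hGU : P * B⁻¹ * P⁻¹ ∈ GU 3 F q :=
    (GU 3 F q).mul_mem ((GU 3 F q).mul_mem hP ((GU 3 F q).inv_mem hB)) ((GU 3 F q).inv_mem hP)
  have hBM : (B : Matrix (Fin 3) (Fin 3) F) = BM q (ζ : F) s := by
    ext k i
    have h4 := congrFun (hBx (Pi.single i 1)) k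
    rw [Matrix.mulVec_single_one, Finset.sum_eq_single i] at h4
    · simpa using h4
    · intro j _ hj
      simp [hj]
    · intro h; exact absurd (Finset.mem_univ _) h
  have hdet : (P * B⁻¹ * P⁻¹ : GL (Fin 3) F).det = 1 := by
    have h4 : B.det = 1 := by
      ext
      rw [Matrix.GeneralLinearGroup.val_det_apply, hBM, det_BM hn]
      rfl
    rw [map_mul, map_mul, map_inv, map_inv, h4, inv_one, mul_one, mul_inv_cancel]
  set A : GL (Fin 3) F := P * B⁻¹ * P⁻¹ with hA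
  have hiso : ∀ u v, hermForm 3 F q (pm A u) (pm A v) = hermForm 3 F q u v := hGU
  have hai : ∀ v, pm A ((pm A)⁻¹ v) = v := (pm A).apply_symm_apply
  have hia : ∀ v, (pm A)⁻¹ (pm A v) = v := (pm A).symm_apply_apply
  have hisoi : ∀ u v, hermForm 3 F q ((pm A)⁻¹ u) ((pm A)⁻¹ v) = hermForm 3 F q u v := by
    intro u v
    rw [← hiso, hai, hai]
  have hlini : ∀ (a : F) (v : Fin 3 → F), (pm A)⁻¹ (a • v) = a • (pm A)⁻¹ v := by
    intro a v
    rw [pm_inv_apply, pm_inv_apply, Matrix.mulVec_smul]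
  let b : Fin 3 → (Fin 3 → F) := fun i => (pm A)⁻¹ (f i)
  have hPs : ∀ i, (P : Matrix (Fin 3) (Fin 3) F) *ᵥ (Pi.single i 1) = f i := by
    intro i
    rw [hPx, Finset.sum_eq_single i]
    · simp
    · intro j _ hj
      simp [hj]
    · intro h; exact absurd (Finset.mem_univ _) h
  have hPi : ∀ i, ((P⁻¹ : GL (Fin 3) F) : Matrix (Fin 3) (Fin 3) F) *ᵥ f i = Pi.single i 1 := by
    intro i
    rw [← hPs i, Matrix.mulVec_mulVec, ← Units.val_mul, inv_mul_cancel, Units.val_one, Matrix.one_mulVec]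
  have hbi : ∀ i, b i = ∑ k, BM q (ζ : F) s k i • f k := by
    intro i
    have hAi : A⁻¹ = P * B * P⁻¹ := by rw [hA]; group
    change ((A⁻¹ : GL (Fin 3) F) : Matrix (Fin 3) (Fin 3) F) *ᵥ f i = _
    rw [hAi, Units.val_mul, Units.val_mul, ← Matrix.mulVec_mulVec, ← Matrix.mulVec_mulVec, hPi, hBM, hPx]
    refine Finset.sum_congr rfl fun k _ => ?_
    rw [Matrix.mulVec_single_one]
    rfl
  have hb : ON q b := fun i j => by
    change hermForm 3 F q ((pm A)⁻¹ (f i)) ((pm A)⁻¹ (f j)) = _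
    rw [hisoi, hf]
  have hfb : ∀ i j, hermForm 3 F q (b i) (f j) = BM q (ζ : F) s j i := by
    intro i j
    rw [hbi, herm_sum_smul_left hf (fun k => BM q (ζ : F) s k i) j]
  refine ⟨pm A, ⟨⟨Matrix.mulVecLin (A : Matrix (Fin 3) (Fin 3) F), fun v => rfl, ?_⟩, hiso⟩, ?_⟩
  · rw [← Matrix.toLin'_apply', LinearMap.det_toLin']
    exact congrArg Units.val hdet
  intro y hy ⟨a, ha⟩
  obtain ⟨k, hk⟩ := hΓ ⟨y, hy⟩
  obtain ⟨l, hl⟩ := hΓ ⟨_, ha⟩
  have hk' : y ^ 3 ^ k = 1 := congrArg Subtype.val hk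
  have hl' : (scal F (Fin 3 → F) a * (pm A * y * (pm A)⁻¹)) ^ 3 ^ l = 1 := congrArg Subtype.val hl
  obtain ⟨π, d, hd, hd0, hπ⟩ := mono hf (hY y hy) (hfl y hy) hk'
  obtain ⟨ρ, e, he, he0, hρ⟩ := mono hf (hY _ ha) (hfl _ ha) hl'
  obtain ⟨θ, τ, hτ, hs1, hs2⟩ := hY y hy
  have heb : ∀ i, y (b i) = ((a : F)⁻¹ * e i) • b (ρ i) := by
    intro i
    have h4 := he i
    rw [Equiv.Perm.mul_apply, Equiv.Perm.mul_apply, Equiv.Perm.mul_apply, scal_apply] at h4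
    have h5 : pm A (y ((pm A)⁻¹ (f i))) = ((a : F)⁻¹ * e i) • f (ρ i) := by
      rw [mul_smul, ← h4, inv_smul_smul₀ a.ne_zero]
    calc y (b i) = (pm A)⁻¹ (pm A (y ((pm A)⁻¹ (f i)))) := by rw [hia]
      _ = _ := by rw [h5, hlini]
  obtain ⟨hθ, c, hc, hyc⟩ := main hF hζ hs hf hb hfb hτ hs1 hs2 hd hd0 heb
    (fun i => mul_ne_zero (inv_ne_zero a.ne_zero) (he0 i)) ⟨k, hπ⟩ ⟨l, hρ⟩ ⟨k, theta_pow hs1 hk'⟩
  refine ⟨Units.mk0 c hc, Equiv.ext fun v => ?_⟩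
  rw [scal_apply, Units.val_mk0]
  obtain ⟨x, rfl⟩ : ∃ x : Fin 3 → F, v = ∑ i, x i • f i := by
    refine ⟨((P⁻¹ : GL (Fin 3) F) : Matrix (Fin 3) (Fin 3) F) *ᵥ v, ?_⟩
    rw [← hPx, Matrix.mulVec_mulVec, ← Units.val_mul, mul_inv_cancel, Units.val_one, Matrix.one_mulVec]
  subst hθ
  rw [Fin.sum_univ_three, hs1.1, hs1.1, hs1.2, hs1.2, hs1.2, hyc, hyc, hyc]
  simp only [RingEquiv.refl_apply, smul_add, smul_comm c]

end

/-- **Sylow 3-intersections in `PSU₃(q)`, `3 ∣ q + 1`, `q ≠ 2`.** -/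
theorem meet3_PSU3 {F : Type} [Field F] [Fintype F] {q : ℕ} (hF : Fintype.card F = q ^ 2) (h3 : 3 ∣ q + 1)
    (h2 : q ≠ 2) : Cfsg.Agent.H903.SylMeet.Meet 3 (Cfsg.PSU 3 F q) := by
  have : Fact (Nat.Prime 3) := ⟨by norm_num⟩
  have h := sepSU3 hF h3 h2
  open Cfsg.Agent.H177.MeetPSU Cfsg.Agent.ClassicalGeometry.PSUAutCount Cfsg.Agent.LieClassical.SUBasic
    Cfsg.Agent.ClassicalGeometry.UnitAutBasic in
  intro P hP
  open Cfsg.Agent.H177.MeetPSU Cfsg.Agent.ClassicalGeometry.PSUAutCount Cfsg.Agent.LieClassical.SUBasic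
    Cfsg.Agent.ClassicalGeometry.UnitAutBasic in
  refine good_of_sep (π := pr 3 F q) pr_surjective (ρ := rho 3 F q) rho_injective (Y := SemiU F 3 q)
    ?_ (fun _ _ => semiU_mul) semiU_scal ?_ semi_rho semiU_rho hP ?_ (fun y => uniq hF le_rfl)
    (fun g => exists_su) h
  · have h1 := Cfsg.Agent.H177.MeetPSU.semiU_rho (1 : SU 3 F q)
    rwa [map_one] at h1
  · rintro y ⟨θ, τ, -, h1, -⟩
    exact ⟨θ, h1⟩
  · intro β _
    obtain ⟨A, θ, rfl⟩ := ClassicalGeometry.PSUAutMain.exists_toAut hF le_rfl (fun h => h2 h.2) β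
    exact ⟨Cfsg.Agent.H177.MeetPSU.yy A θ, Cfsg.Agent.H177.MeetPSU.semiU_yy A θ,
      Cfsg.Agent.H177.MeetPSU.ind_yy A θ⟩

end Cfsg.Agent.H127.MeetU3
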