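import Cfsg.Agent.H127.U3Outer

/-!
# Groups with socle section `PSU₃(q)` and the element orders of `PSU₃(q)` (helper127)
-/

set_option autoImplicit false

namespace Cfsg.Agent.H127.U3

open Cfsg

section
variable {F : Type*} [Field F] [Fintype F] {p q : ℕ} [Fact p.Prime] [CharP F p]

/-- A soluble cover of `PSU₃(q)` with its element orders is trivial. -/
theorem injective_of_solvable {G : Type*} [Group G] [Finite G] (hF : Fintype.card F = q ^ 2) (h4 : q % 4 = 1)
    (h3 : ¬ 3 ∣ q + 1) (hpq : p ∣ q) (π : G →* PSU 3 F q) (hπ : Function.Surjective π)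
    (hsol : Group.IsSolvable π.ker) (hω : ∀ g : G, Om p q (orderOf g)) : Function.Injective π := by
  rw [← MonoidHom.ker_eq_bot_iff]
  by_contra hne
  obtain ⟨N, hN, hNK, hKN, e, he, -, hc, hpow⟩ := H375.Cover.exists_elem π.ker hsol hne
  apply hKN
  let π' : G ⧸ N →* PSU 3 F q := QuotientGroup.lift N π (fun n hn => hNK hn)
  have hπ' : Function.Surjective π' := by
    intro l
    obtain ⟨g, hg⟩ := hπ l
    exact ⟨QuotientGroup.mk' N g, hg⟩
  have hcomm : ∀ v w : G ⧸ N, π' v = 1 → π' w = 1 → v * w = w * v := by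
    intro v w hv hw
    obtain ⟨v, rfl⟩ := QuotientGroup.mk'_surjective N v
    obtain ⟨w, rfl⟩ := QuotientGroup.mk'_surjective N w
    have h1 : QuotientGroup.mk' N (v * w * v⁻¹ * w⁻¹) = 1 := (QuotientGroup.eq_one_iff _).mpr (hc v hv w hw)
    rw [map_mul, map_mul, map_mul, map_inv, map_inv] at h1
    have h2 := eq_inv_of_mul_eq_one_left h1
    rw [inv_inv] at h2
    exact mul_inv_eq_iff_eq_mul.mp h2
  have hpv : ∀ v : G ⧸ N, π' v = 1 → v ^ e = 1 := by
    intro v hv
    obtain ⟨v, rfl⟩ := QuotientGroup.mk'_surjective N v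
    rw [← map_pow]
    exact (QuotientGroup.eq_one_iff _).mpr (hpow v hv)
  have hω' : ∀ x : G ⧸ N, Om p q (orderOf x) := by
    intro x
    obtain ⟨g, hg⟩ := H375.Cover.exists_orderOf_of_surj (QuotientGroup.mk' N) (QuotientGroup.mk'_surjective N) x
    rw [← hg]
    exact hω g
  intro k hk
  exact (QuotientGroup.eq_one_iff k).mp
    (cover hF h4 h3 hpq π' hπ' he hcomm hpv hω' (QuotientGroup.mk' N k) hk)

/-- If `G / K` has a normal self-centralizing subgroup `PSU₃(q)`, then `G ≅ PSU₃(q)`. -/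
theorem nonempty_equiv {G : Type*} [Group G] [Finite G] (hF : Fintype.card F = q ^ 2) (h4 : q % 4 = 1)
    (h3 : ¬ 3 ∣ q + 1) (hpq : p ∣ q) (K : Subgroup G) [K.Normal] (hK : Group.IsSolvable K)
    (S : Subgroup (G ⧸ K)) [S.Normal] (hC : Subgroup.centralizer (S : Set (G ⧸ K)) = ⊥) (e : S ≃* PSU 3 F q)
    (hω : ∀ g : G, Om p q (orderOf g)) : Nonempty (G ≃* PSU 3 F q) := by
  have hω' : ∀ x : G ⧸ K, Om p q (orderOf x) := by
    intro x
    obtain ⟨g, hg⟩ := H375.Cover.exists_orderOf_of_surj (QuotientGroup.mk' K) (QuotientGroup.mk'_surjective K) x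
    rw [← hg]
    exact hω g
  have hS := eq_top hF h4 h3 hpq S hC e hω'
  let E : G ⧸ K ≃* PSU 3 F q :=
    ((Subgroup.topEquiv (G := G ⧸ K)).symm.trans (MulEquiv.subgroupCongr hS).symm).trans e
  let π : G →* PSU 3 F q := E.toMonoidHom.comp (QuotientGroup.mk' K)
  have hπ : Function.Surjective π := by
    intro y
    obtain ⟨g, hg⟩ := QuotientGroup.mk'_surjective K (E.symm y)
    refine ⟨g, ?_⟩
    show E (QuotientGroup.mk' K g) = y
    rw [hg, E.apply_symm_apply]
  have hker : π.ker = K := by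
    ext g
    rw [MonoidHom.mem_ker]
    show E (QuotientGroup.mk' K g) = 1 ↔ _
    rw [map_eq_one_iff E E.injective]
    exact QuotientGroup.eq_one_iff g
  exact ⟨MulEquiv.ofBijective π ⟨injective_of_solvable hF h4 h3 hpq π hπ (by rw [hker]; exact hK) hω, hπ⟩⟩

end

end Cfsg.Agent.H127.U3
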