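import Cfsg.Agent.H127.FrobExp
import Cfsg.Agent.H220.CaseB
import Cfsg.Agent.H348.SolvableFPF
import Cfsg.Agent.H456.FourF
import Cfsg.Agent.Solvable.FpfComplement
import Cfsg.Agent.S0058
import Cfsg.Agent.Lib.HallHigman
import Cfsg.Agent.Lib.Cores

/-!
# Groups with the element orders of `PSU₃(9)` are not soluble (helper127)

The element orders divide `30`, `80` or `73`. Structure of the proof as in H220 (the orders
`1, 2, 3, 4, 6, 8, 13`).
-/

set_option autoImplicit false

namespace Cfsg.Agent.H127.Nine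

/-- Conjugation on a normal cyclic subgroup is a power map. -/
theorem exists_pow {T : Type*} [Group T] [Finite T] (A : Subgroup T) [A.Normal] (hA : IsCyclic A) (y : T) :
    ∃ m : ℕ, ∀ w ∈ A, y * w * y⁻¹ = w ^ m := by
  obtain ⟨g, hg⟩ := hA.exists_generator
  have h1 : y * (g : T) * y⁻¹ ∈ A := ‹A.Normal›.conj_mem g g.2 y
  obtain ⟨m, hm⟩ := (isOfFinOrder_of_finite g).mem_powers_iff_mem_zpowers.2 (hg ⟨_, h1⟩)
  refine ⟨m, fun w hw => ?_⟩
  obtain ⟨i, hi⟩ := (isOfFinOrder_of_finite g).mem_powers_iff_mem_zpowers.2 (hg ⟨w, hw⟩)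
  have hm' : (g : T) ^ m = y * g * y⁻¹ := congrArg Subtype.val hm
  have hi' : (g : T) ^ i = w := congrArg Subtype.val hi
  rw [← hi', ← conj_pow, ← hm', ← pow_mul, ← pow_mul, mul_comm]

theorem conj_iter {T : Type*} [Group T] {y w : T} {m : ℕ} (A : Subgroup T) (hw : w ∈ A)
    (h : ∀ w ∈ A, y * w * y⁻¹ = w ^ m) (j : ℕ) : y ^ j * w * (y ^ j)⁻¹ = w ^ (m ^ j) := by
  induction j with
  | zero => simp
  | succ j ih =>
    calc y ^ (j + 1) * w * (y ^ (j + 1))⁻¹ = y * (y ^ j * w * (y ^ j)⁻¹) * y⁻¹ := by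
          rw [pow_succ']; group
      _ = y * w ^ (m ^ j) * y⁻¹ := by rw [ih]
      _ = (w ^ (m ^ j)) ^ m := h _ (pow_mem hw _)
      _ = w ^ (m ^ (j + 1)) := by rw [← pow_mul, pow_succ]

set_option maxRecDepth 20000 in
theorem perm_check0 : ∀ s : Equiv.Perm (Fin 4), s * s * (s * s) = 1 ∨ s * s * s = 1 := by decide

theorem perm_check (s : Equiv.Perm (Fin 4)) (h : s ^ 16 = 1) : s ^ 4 = 1 := by
  rcases perm_check0 s with h' | h'
  · rw [← h', ← pow_two, ← pow_two, ← pow_mul]
  · have h3 : s ^ 3 = 1 := by rw [← h', pow_succ, pow_two]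
    have h1 : s ^ 16 = (s ^ 3) ^ 5 * s := by rw [← pow_mul, ← pow_succ]
    rw [h, h3, one_pow, one_mul] at h1
    rw [← h1, one_pow]

/-- A soluble `{2, 3}`-group acting fixed-point-freely with an element of order 16 and one of order 3 has an
element of order 9 or 12. -/
theorem core {T : Type*} [Group T] [Finite T] (hT : H348.HasFPF T) [Group.IsSolvable T]
    (hpr : ∀ p : ℕ, p.Prime → p ∣ Nat.card T → p = 2 ∨ p = 3) (h12 : ∀ t : T, ¬ 12 ∣ orderOf t)
    (h9 : ∀ t : T, ¬ 9 ∣ orderOf t) {x y : T} (hx : orderOf x = 16) (hy : orderOf y = 3) : False := by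
  classical
  have : Fact (Nat.Prime 3) := ⟨by norm_num⟩
  have : Fact (Nat.Prime 2) := ⟨by norm_num⟩
  have no12 : ∀ a b : T, orderOf a = 4 → orderOf b = 3 → Commute a b → False := by
    intro a b ha hb hab
    apply h12 (a * b)
    rw [hab.orderOf_mul_eq_mul_orderOf_of_coprime (by rw [ha, hb]; norm_num), ha, hb]
  have hx4 : orderOf (x ^ 4) = 4 := by
    rw [orderOf_pow_of_dvd (by norm_num) (by rw [hx]; norm_num), hx]
  -- no normal 3-subgroup
  have h3n : (Cfsg.pCore 3 T).Normal := Lib.Cores.pCore_normal 3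
  have h3 : Cfsg.pCore 3 T = ⊥ := by
    by_contra hne
    set R := Cfsg.pCore 3 T with hR
    have hRp : IsPGroup 3 R := Lib.Cores.pCore_isPGroup 3
    have hRc : IsCyclic R := by
      rcases (hT.subgroup R).cyclic_or_quaternion Nat.prime_three hRp with h | ⟨h, -⟩
      · exact h
      · omega
    obtain ⟨m, hm⟩ := exists_pow R hRc x
    -- an element of order 3
    obtain ⟨r, hr, hr1⟩ : ∃ r ∈ R, r ≠ 1 := by
      by_contra hcon
      push Not at hcon
      exact hne (eq_bot_iff.2 fun r hr => Subgroup.mem_bot.2 (hcon r hr))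
    have hr3 : orderOf r = 3 := by
      obtain ⟨k, hk⟩ := IsPGroup.iff_orderOf.mp hRp ⟨r, hr⟩
      rw [Subgroup.orderOf_mk] at hk
      have h1 : k = 1 := by
        rcases Nat.lt_or_ge k 2 with h | h
        · interval_cases k
          · rw [pow_zero, orderOf_eq_one_iff] at hk; exact absurd hk hr1
          · rfl
        · exact absurd (by rw [hk]; exact pow_dvd_pow 3 h : 3 ^ 2 ∣ orderOf r) (h9 r)
      rw [hk, h1, pow_one]
    have h2 := conj_iter R hr hm 4
    have h16 := conj_iter R hr hm 16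
    have hx16 : x ^ 16 = 1 := by rw [← hx]; exact pow_orderOf_eq_one x
    rw [hx16, one_mul, inv_one, mul_one] at h16
    have h16' : r ^ 1 = r ^ (m ^ 16) := by rw [pow_one]; exact h16
    rw [pow_eq_pow_iff_modEq, hr3] at h16'
    have hm3 : m % 3 = 1 ∨ m % 3 = 2 := by
      have : m % 3 ≠ 0 := by
        intro h
        have h5 : m ^ 16 % 3 = 0 := by rw [Nat.pow_mod, h]
        unfold Nat.ModEq at h16'
        omega
      omega
    have h4 : m ^ 4 % 3 = 1 := by
      rcases hm3 with h | h <;> simp [Nat.pow_mod, h]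
    have h5 : r ^ (m ^ 4) = r := by
      conv_rhs => rw [← pow_one r]
      rw [pow_eq_pow_iff_modEq, hr3]
      exact h4
    rw [h5] at h2
    exact no12 _ r hx4 hr3 (mul_inv_eq_iff_eq_mul.1 h2)
  obtain ⟨G₀, hG₀, ⟨f, hf⟩, hZ⟩ := hT.solvable
  have hx4G : x ^ 4 ∈ G₀ := by
    rw [← hf, MonoidHom.mem_ker, map_pow]
    apply perm_check
    rw [← map_pow, ← hx, pow_orderOf_eq_one, map_one]
  have hcyc : IsCyclic G₀ := by
    have h2 : 2 ∣ Nat.card G₀ := by
      have h5 := Subgroup.orderOf_dvd_natCard _ hx4G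
      rw [hx4] at h5
      exact (by norm_num : 2 ∣ 4).trans h5
    have hmf : (Nat.card G₀).minFac = 2 := by
      rw [Nat.minFac_eq_two_iff]; exact h2
    obtain ⟨P⟩ : Nonempty (Sylow 2 G₀) := inferInstance
    have hPc : IsCyclic P := hZ.isZGroup 2 Nat.prime_two P
    have hcompl := IsCyclic.isComplement' hmf hPc
    have hN2 := MonoidHom.not_dvd_card_ker_transferSylow P (hPc.normalizer_le_centralizer hmf)
    set N := (MonoidHom.transferSylow P (hPc.normalizer_le_centralizer hmf)).ker with hN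
    have hNpr : ∀ d : ℕ, d.Prime → d ∣ Nat.card N → d = 3 := by
      intro d hd hdN
      have h6 : d ∣ Nat.card T :=
        (hdN.trans (Subgroup.card_subgroup_dvd_card N)).trans (Subgroup.card_subgroup_dvd_card G₀)
      rcases hpr d hd h6 with rfl | rfl
      · exact absurd hdN hN2
      · rfl
    have hN3 : IsPGroup 3 N :=
      IsPGroup.of_card (Nat.eq_prime_pow_of_unique_prime_dvd Nat.card_pos.ne' fun {d} hd h => hNpr d hd h)
    have hNi : ¬ 3 ∣ N.index := by
      intro h
      rw [hcompl.symm.index_eq_card] at h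
      obtain ⟨k, hk⟩ := IsPGroup.iff_card.mp P.isPGroup'
      rw [hk] at h
      exact absurd (Nat.prime_three.dvd_of_dvd_pow h) (by norm_num)
    have hNn : N.Normal := MonoidHom.normal_ker _
    have hNch : N.Characteristic :=
      Sylow.characteristic_of_normal (hN3.toSylow hNi) hNn
    have hNT : (N.map G₀.subtype).Normal := inferInstance
    have hNbot : N.map G₀.subtype = ⊥ := by
      rw [eq_bot_iff, ← h3]
      exact Lib.HallHigman.le_pCore hNT (hN3.map _)
    rw [Subgroup.map_eq_bot_iff_of_injective _ G₀.subtype_injective] at hNbot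
    rw [hNbot, Subgroup.isComplement'_bot_left] at hcompl
    have e : P ≃* G₀ := (MulEquiv.subgroupCongr hcompl).trans Subgroup.topEquiv
    exact isCyclic_of_surjective e e.surjective
  obtain ⟨m, hm⟩ := exists_pow G₀ hcyc y
  have h3' := conj_iter G₀ hx4G hm 3
  have hy3 : y ^ 3 = 1 := by rw [← hy]; exact pow_orderOf_eq_one y
  rw [hy3, one_mul, inv_one, mul_one] at h3'
  have h3'' : (x ^ 4) ^ 1 = (x ^ 4) ^ (m ^ 3) := by rw [pow_one]; exact h3'
  rw [pow_eq_pow_iff_modEq, hx4] at h3''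
  have hm4 : m % 4 = 1 := by
    have h5 : m ^ 3 % 4 = 1 := h3''.symm
    have h6 : m % 4 = 0 ∨ m % 4 = 1 ∨ m % 4 = 2 ∨ m % 4 = 3 := by omega
    rw [Nat.pow_mod] at h5
    rcases h6 with h | h | h | h
    · rw [h] at h5; norm_num at h5
    · exact h
    · rw [h] at h5; norm_num at h5
    · rw [h] at h5; norm_num at h5
  have h5 : (x ^ 4) ^ m = x ^ 4 := by
    conv_rhs => rw [← pow_one (x ^ 4)]
    rw [pow_eq_pow_iff_modEq, hx4]
    exact hm4
  have h6 := hm _ hx4G
  rw [h5] at h6
  exact no12 _ y hx4 hy (Commute.symm (mul_inv_eq_iff_eq_mul.1 h6))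

/-- The element orders of `PSU₃(9)`. -/
def On (n : ℕ) : Prop := n ∣ 30 ∨ n ∣ 80 ∨ n ∣ 73

theorem not_on_twelve {n : ℕ} (h : 12 ∣ n) : ¬ On n := by
  rintro (h' | h' | h')
  · exact absurd (h.trans h') (by norm_num)
  · exact absurd (h.trans h') (by norm_num)
  · exact absurd (h.trans h') (by norm_num)

theorem not_on_nine {n : ℕ} (h : 9 ∣ n) : ¬ On n := by
  rintro (h' | h' | h')
  · exact absurd (h.trans h') (by norm_num)
  · exact absurd (h.trans h') (by norm_num)
  · exact absurd (h.trans h') (by norm_num)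

theorem eq_of_dvd {n : ℕ} (hn : On n) (h : 73 ∣ n) : n = 73 := by
  rcases hn with h' | h' | h'
  · exact absurd (h.trans h') (by norm_num)
  · exact absurd (h.trans h') (by norm_num)
  · exact Nat.dvd_antisymm h' h

instance fact73 : Fact (Nat.Prime 73) := ⟨by norm_num⟩

set_option linter.unusedSectionVars false

variable {G : Type*} [Group G] [Finite G]

/-- An element of order 73 commutes with no nontrivial `73'`-element. -/
theorem eq_one_of_comm (hω : ∀ g : G, On (orderOf g)) {x y : G} (hx : orderOf x = 73)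
    (hxy : Commute x y) (hy : ¬ 73 ∣ orderOf y) : y = 1 := by
  have h1 := hxy.orderOf_mul_eq_mul_orderOf_of_coprime
    (by rw [hx]; exact (Nat.Prime.coprime_iff_not_dvd (by norm_num)).mpr hy)
  have h2 := eq_of_dvd (hω (x * y)) (by rw [h1, hx]; exact dvd_mul_right _ _)
  rw [h1, hx] at h2
  have h3 : orderOf y = 1 := by omega
  exact orderOf_eq_one_iff.mp h3

theorem no_twelve (hω : ∀ g : G, On (orderOf g)) {x y : G} (hx : orderOf x = 4) (hy : orderOf y = 3)
    (hxy : Commute x y) : False := by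
  apply not_on_twelve (n := orderOf (x * y)) _ (hω _)
  rw [hxy.orderOf_mul_eq_mul_orderOf_of_coprime (by rw [hx, hy]; norm_num), hx, hy]

theorem orderOf_eq_of_pGroup (hω : ∀ g : G, On (orderOf g)) {M : Subgroup G}
    (hM : IsPGroup 73 M) {x : G} (hx : x ∈ M) (hx1 : x ≠ 1) : orderOf x = 73 := by
  obtain ⟨k, hk⟩ := IsPGroup.iff_orderOf.mp hM ⟨x, hx⟩
  rw [Subgroup.orderOf_mk] at hk
  apply eq_of_dvd (hω x)
  rw [hk]
  apply dvd_pow_self
  rintro rfl
  rw [pow_zero, orderOf_eq_one_iff] at hk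
  exact hx1 hk

/-- **Case A**: a normal subgroup of order a power of `73`. -/
theorem caseA {G : Type} [Group G] [Finite G] [Group.IsSolvable G] (hω : ∀ g : G, On (orderOf g))
    {x y : G} (hx : orderOf x = 16) (hy : orderOf y = 3) (M : Subgroup G) [M.Normal]
    (hM : IsPGroup 73 M) (hM1 : M ≠ ⊥) : False := by
  classical
  have hnil : Group.IsNilpotent M := hM.isNilpotent
  have h73 : 73 ∣ Nat.card M := by
    obtain ⟨k, hk⟩ := IsPGroup.iff_card.mp hM
    rw [hk]
    apply dvd_pow_self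
    rintro rfl
    rw [pow_zero] at hk
    exact hM1 (Subgroup.card_eq_one.1 hk)
  set Z := H220.Spec.omegaCenter M 73 with hZ
  have hZn : Z.Normal := H220.Spec.omegaCenter_normal M 73
  have hZc : IsMulCommutative Z := H220.Spec.omegaCenter_comm M 73
  have hZ1 : Z ≠ ⊥ := H220.Spec.omegaCenter_ne_bot M hnil (by norm_num) h73
  have hZo : ∀ v ∈ Z, v ≠ 1 → orderOf v = 73 := fun v hv hv1 => orderOf_eq_prime hv.2.2 hv1
  obtain ⟨T, hTp, hTc⟩ := H456.exists_hall (G := G) (fun t => t = 2 ∨ t = 3)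
  have hconj : ∀ (g : G) (n : ℕ), orderOf g = n → (∀ t : ℕ, t.Prime → t ∣ n → t = 2 ∨ t = 3) →
      ∃ t : T, orderOf t = n := by
    intro g n hg hn
    obtain ⟨a, ha⟩ := hTc (Subgroup.zpowers g) (fun t ht h => hn t ht (by rwa [Nat.card_zpowers, hg] at h))
    refine ⟨⟨a * g * a⁻¹, ha g (Subgroup.mem_zpowers g)⟩, ?_⟩
    rw [Subgroup.orderOf_mk, ← hg]
    exact (MulAut.conj a).orderOf_eq g
  obtain ⟨x', hx'⟩ := hconj x 16 hx (fun t ht h => Or.inl
    ((Nat.prime_dvd_prime_iff_eq ht Nat.prime_two).1 (ht.dvd_of_dvd_pow (n := 4) (by norm_num; exact h))))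
  obtain ⟨y', hy'⟩ := hconj y 3 hy (fun t ht h => Or.inr ((Nat.prime_dvd_prime_iff_eq ht Nat.prime_three).1 h))
  have hfpf : ∀ g ∈ T, g ≠ 1 → Z ⊓ Subgroup.centralizer {g} = ⊥ := by
    intro g hg hg1
    rw [eq_bot_iff]
    rintro v ⟨hv, hv'⟩
    rw [Subgroup.mem_bot]
    by_contra hv1
    have h1 : Commute v g := Subgroup.mem_centralizer_singleton_iff.1 hv'
    apply hg1
    apply eq_one_of_comm hω (hZo v hv hv1) h1
    intro h
    have h2 : orderOf g ∣ Nat.card T := by
      rw [← Subgroup.orderOf_mk g hg]; exact orderOf_dvd_natCard _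
    have h3 := hTp 73 (by norm_num) (h.trans h2)
    omega
  have hF : H348.HasFPF T := by
    have hZnt : Nontrivial Z := (Subgroup.nontrivial_iff_ne_bot Z).2 hZ1
    let _ : CommGroup Z := { (inferInstance : Group Z) with mul_comm := isMulCommutative_iff.1 hZc }
    have hTZ : T ≤ Subgroup.normalizer (Z : Set G) := by
      rw [Subgroup.normalizer_eq_top]; exact le_top
    exact ⟨Z, inferInstance, inferInstance, inferInstance,
      Cfsg.Agent.Solvable.FixedPointFree.conjHom T Z hTZ,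
      Cfsg.Agent.Solvable.FixedPointFree.conjHom_fpf T Z hTZ hfpf⟩
  exact core hF (fun p hp h => hTp p hp h) (fun t h => not_on_twelve h (by rw [← Subgroup.orderOf_coe]; exact hω t))
    (fun t h => not_on_nine h (by rw [← Subgroup.orderOf_coe]; exact hω t)) hx' hy'

theorem pow_eq_pow_zmod {ρ : G} (hρ : orderOf ρ = 73) {a b : ℕ} :
    ρ ^ a = ρ ^ b ↔ (a : ZMod 73) = b := by
  rw [pow_eq_pow_iff_modEq, hρ, ZMod.natCast_eq_natCast_iff]

/-- **Case B**: no normal subgroup of order a power of `73`. -/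
theorem caseB (hω : ∀ g : G, On (orderOf g)) {x y : G} (hx : orderOf x = 16) (hy : orderOf y = 3)
    (K : Subgroup G) [hKn : K.Normal] (hK73 : ¬ 73 ∣ Nat.card K) (hKs : Group.IsSolvable K) {ρ : G}
    (hρ : orderOf ρ = 73) (hC : ∀ g, g * ρ = ρ * g → g ∈ Subgroup.zpowers ρ)
    (hfact : ∀ g : G, ∃ k ∈ K, ∃ n : G, n * ρ * n⁻¹ ∈ Subgroup.zpowers ρ ∧ g = k * n) : False := by
  classical
  have : Fact (Nat.Prime 3) := ⟨by norm_num⟩
  have : Fact (Nat.Prime 2) := ⟨by norm_num⟩
  have hρ73 : ρ ^ 73 = 1 := by rw [← hρ]; exact pow_orderOf_eq_one ρ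
  have hρfin : IsOfFinOrder ρ := isOfFinOrder_of_finite ρ
  -- no fixed points on `K`
  have hKord : ∀ k ∈ K, ¬ 73 ∣ orderOf k := fun k hk h =>
    hK73 (h.trans (Subgroup.orderOf_dvd_natCard K hk))
  have hKfix : ∀ k ∈ K, k * ρ = ρ * k → k = 1 := fun k hk hkρ =>
    eq_one_of_comm hω hρ hkρ.symm (hKord k hk)
  have hKfix' : ∀ k ∈ K, ρ * k * ρ⁻¹ = k → k = 1 := by
    intro k hk h
    apply hKfix k hk
    calc k * ρ = (ρ * k * ρ⁻¹) * ρ := by rw [h]
      _ = ρ * k := by group
  -- `K ∩ N = 1`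
  have hKN : ∀ k ∈ K, k * ρ * k⁻¹ ∈ Subgroup.zpowers ρ → k = 1 := by
    intro k hk h
    apply hKfix k hk
    have h1 : k * ρ * k⁻¹ * ρ⁻¹ ∈ K := by
      have h2 : k * (ρ * k⁻¹ * ρ⁻¹) ∈ K := mul_mem hk (hKn.conj_mem _ (inv_mem hk) ρ)
      have h3 : k * ρ * k⁻¹ * ρ⁻¹ = k * (ρ * k⁻¹ * ρ⁻¹) := by group
      rwa [h3]
    have h2 : k * ρ * k⁻¹ * ρ⁻¹ ∈ Subgroup.zpowers ρ :=
      mul_mem h (inv_mem (Subgroup.mem_zpowers ρ))
    have h3 : k * ρ * k⁻¹ * ρ⁻¹ = 1 := by
      have h4 : orderOf (k * ρ * k⁻¹ * ρ⁻¹) ∣ 73 := by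
        have h5 := Subgroup.orderOf_dvd_natCard _ h2
        rwa [Nat.card_zpowers, hρ] at h5
      rcases (Nat.dvd_prime (by norm_num)).mp h4 with h5 | h5
      · exact orderOf_eq_one_iff.mp h5
      · exact absurd (by rw [h5]) (hKord _ h1)
    calc k * ρ = (k * ρ * k⁻¹ * ρ⁻¹) * (ρ * k) := by group
      _ = ρ * k := by rw [h3, one_mul]
  -- exponents
  have hexp : ∀ n : G, n * ρ * n⁻¹ ∈ Subgroup.zpowers ρ → ∃ a : ℕ, n * ρ * n⁻¹ = ρ ^ a := by
    intro n hn
    obtain ⟨a, ha⟩ := hρfin.mem_powers_iff_mem_zpowers.mpr hn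
    exact ⟨a, ha.symm⟩
  have hpowK : ∀ (g k n : G), k ∈ K → g = k * n → ∀ j : ℕ, g ^ j * (n ^ j)⁻¹ ∈ K := by
    intro g k n hk hg j
    have h1 : (QuotientGroup.mk' K) (g ^ j * (n ^ j)⁻¹) = 1 := by
      rw [hg, map_mul, map_inv, map_pow, map_pow, map_mul,
        show (QuotientGroup.mk' K) k = 1 from (QuotientGroup.eq_one_iff k).mpr hk, one_mul,
        mul_inv_cancel]
    exact (QuotientGroup.eq_one_iff _).mp h1
  -- if `g ^ j = 1` then `n ^ j = 1`
  have hpow1 : ∀ (g k n : G) (a j : ℕ), k ∈ K → g = k * n → n * ρ * n⁻¹ = ρ ^ a → g ^ j = 1 →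
      n ^ j = 1 := by
    intro g k n a j hk hg hn hgj
    have h1 := hpowK g k n hk hg j
    rw [hgj, one_mul] at h1
    have h2 : n ^ j ∈ K := by
      have := inv_mem h1
      rwa [inv_inv] at this
    apply hKN _ h2
    rw [H220.Spec.conj_pow_pow hn]
    exact Subgroup.npow_mem_zpowers ρ _
  -- `a = 1` forces `n ∈ ⟨ρ⟩`
  have hone : ∀ (n : G) (a j : ℕ), n * ρ * n⁻¹ = ρ ^ a → (a : ZMod 73) = 1 → n ^ j = 1 →
      Nat.Coprime j 73 → n = 1 := by
    intro n a j hn ha hj hcop
    have h1 : n * ρ * n⁻¹ = ρ := by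
      rw [hn]
      conv_rhs => rw [← pow_one ρ]
      rw [pow_eq_pow_zmod hρ, ha, Nat.cast_one]
    have h2 : n ∈ Subgroup.zpowers ρ := by
      apply hC
      calc n * ρ = (n * ρ * n⁻¹) * n := by group
        _ = ρ * n := by rw [h1]
    have h3 : orderOf n ∣ 73 := by
      have h5 := Subgroup.orderOf_dvd_natCard _ h2
      rwa [Nat.card_zpowers, hρ] at h5
    exact orderOf_eq_one_iff.mp (Nat.eq_one_of_dvd_coprimes hcop (orderOf_dvd_of_pow_eq_one hj) h3)
  -- the exponent of a power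
  have hpz : ∀ (n : G) (a j : ℕ), n * ρ * n⁻¹ = ρ ^ a → n ^ j = 1 → (a : ZMod 73) ^ j = 1 := by
    intro n a j hn hj
    have h1 := H220.Spec.conj_pow_pow hn j
    rw [hj, one_mul, inv_one, mul_one] at h1
    have h2 : ρ ^ 1 = ρ ^ (a ^ j) := by rw [pow_one]; exact h1
    rw [pow_eq_pow_zmod hρ] at h2
    push_cast at h2
    exact h2.symm
  -- the element of order 16
  have hx16 : x ^ 16 = 1 := by rw [← hx]; exact pow_orderOf_eq_one x
  obtain ⟨k₀, hk₀, n, hnN, hxn⟩ := hfact x
  obtain ⟨a, ha⟩ := hexp n hnN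
  have hn16 := hpow1 x k₀ n a 16 hk₀ hxn ha hx16
  have ha16 : (a : ZMod 73) ^ 16 = 1 := hpz n a 16 ha hn16
  have ha0 : (a : ZMod 73) ≠ 0 := by
    intro h
    rw [h] at ha16
    norm_num at ha16
  have ha8 : (a : ZMod 73) ^ 8 = 1 := by
    have h1 : (a : ZMod 73) ^ 72 = 1 := ZMod.pow_card_sub_one_eq_one ha0
    calc (a : ZMod 73) ^ 8 = (a : ZMod 73) ^ 72 * (a : ZMod 73) ^ 8 := by rw [h1, one_mul]
      _ = ((a : ZMod 73) ^ 16) ^ 5 := by rw [← pow_add, ← pow_mul]
      _ = 1 := by rw [ha16, one_pow]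
  have hn8 : n ^ 8 = 1 := by
    have h1 := H220.Spec.conj_pow_pow ha 8
    refine hone (n ^ 8) (a ^ 8) 2 h1 ?_ (by rw [← pow_mul]; exact hn16) (by norm_num)
    push_cast
    exact ha8
  -- nilpotency of `K`
  have hnil : Group.IsNilpotent K := by
    apply Cfsg.Agent.OddOrderLocal.FpfSolvable.isNilpotent_of_fpf_elem K hKs ρ
      (by rw [Subgroup.normalizer_eq_top]; trivial) (show Nat.Prime 73 by norm_num) hρ73
    intro x hx h
    exact hKfix x hx h.symm
  by_cases h3K : 3 ∣ Nat.card K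
  · -- (i)
    set V := H220.Spec.omegaCenter K 3 with hV
    have hVn : V.Normal := H220.Spec.omegaCenter_normal K 3
    have hVc : IsMulCommutative V := H220.Spec.omegaCenter_comm K 3
    have hVb : V ≠ ⊥ := H220.Spec.omegaCenter_ne_bot K hnil Nat.prime_three h3K
    have hV3 : ∀ v ∈ V, v ≠ 1 → orderOf v = 3 := fun v hv hv1 => orderOf_eq_prime hv.2.2 hv1
    obtain ⟨v₀, hv₀, hv₀1⟩ : ∃ v ∈ V, v ≠ 1 := by
      by_contra hcon
      push Not at hcon
      exact hVb (eq_bot_iff.2 fun r hr => Subgroup.mem_bot.2 (hcon r hr))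
    have hn4 : n ^ 4 ≠ 1 := by
      intro h
      have h1 := hpowK x k₀ n hk₀ hxn 4
      rw [h, inv_one, mul_one] at h1
      have hx4 : orderOf (x ^ 4) = 4 := by
        rw [orderOf_pow_of_dvd (by norm_num) (by rw [hx]; norm_num), hx]
      exact no_twelve hω hx4 (hV3 v₀ hv₀ hv₀1) (hv₀.2.1 _ h1).symm
    have hno : orderOf n = 8 := by
      have h1 : orderOf n = 2 ^ (2 + 1) := orderOf_eq_prime_pow hn4 hn8
      exact h1
    have hn2 : orderOf (n ^ 2) = 4 := by
      rw [orderOf_pow_of_dvd (by norm_num) (by rw [hno]; norm_num), hno]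
    let _ : CommGroup V := { (inferInstance : Group V) with mul_comm := isMulCommutative_iff.1 hVc }
    let φ : G →* MulAut V := MulAut.conjNormal (H := V)
    have hφ : ∀ (g : G) (v : V), ((φ g v : V) : G) = g * v * g⁻¹ := fun _ _ => rfl
    have key := Cfsg.Agent.Solvable.FpfComplement.pow_card_eq_one φ (Subgroup.zpowers ρ) (Subgroup.zpowers n)
      (by
        intro b hb r hr
        obtain ⟨j, rfl⟩ := (isOfFinOrder_of_finite n).mem_powers_iff_mem_zpowers.2 hb
        obtain ⟨i, rfl⟩ := hρfin.mem_powers_iff_mem_zpowers.2 hr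
        change n ^ j * ρ ^ i * (n ^ j)⁻¹ ∈ Subgroup.zpowers ρ
        rw [← conj_pow, H220.Spec.conj_pow_pow ha, ← pow_mul]
        exact Subgroup.npow_mem_zpowers ρ _)
      (by
        intro b hb hb1 r hr hrb
        by_contra hr1
        apply hb1
        have h1 : orderOf r = 73 := by
          have h5 := Subgroup.orderOf_dvd_natCard _ hr
          rw [Nat.card_zpowers, hρ] at h5
          rcases (Nat.dvd_prime (by norm_num)).mp h5 with h6 | h6
          · exact absurd (orderOf_eq_one_iff.mp h6) hr1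
          · exact h6
        apply eq_one_of_comm hω h1 hrb
        intro h
        have h5 := Subgroup.orderOf_dvd_natCard _ hb
        rw [Nat.card_zpowers, hno] at h5
        exact absurd (h.trans h5) (by norm_num))
      (by
        intro v hv
        have h1 := congrArg Subtype.val (hv ρ (Subgroup.mem_zpowers ρ))
        rw [hφ] at h1
        exact Subtype.ext (hKfix' v v.2.1 h1))
      (by
        intro v hv
        by_contra hv1
        have h1 := congrArg Subtype.val (hv (n ^ 2) (pow_mem (Subgroup.mem_zpowers n) 2))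
        rw [hφ] at h1
        exact no_twelve hω hn2 (hV3 v v.2 (fun h => hv1 (Subtype.ext h))) (mul_inv_eq_iff_eq_mul.1 h1))
      ⟨v₀, hv₀⟩
    rw [Nat.card_zpowers, hρ] at key
    have h1 : v₀ ^ 73 = 1 := congrArg Subtype.val key
    have h2 := orderOf_dvd_of_pow_eq_one h1
    rw [hV3 v₀ hv₀ hv₀1] at h2
    exact absurd h2 (by norm_num)
  · -- (ii)
    have hy3 : y ^ 3 = 1 := by rw [← hy]; exact pow_orderOf_eq_one y
    obtain ⟨k₁, hk₁, z, hzN, hyz⟩ := hfact y
    obtain ⟨b, hb⟩ := hexp z hzN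
    have hz3 := hpow1 y k₁ z b 3 hk₁ hyz hb hy3
    have hz1 : z ≠ 1 := by
      intro h
      rw [h, mul_one] at hyz
      apply h3K
      rw [← hy, hyz]
      exact Subgroup.orderOf_dvd_natCard K hk₁
    have hzo : orderOf z = 3 := orderOf_eq_prime hz3 hz1
    have hb3 : (b : ZMod 73) ^ 3 = 1 := hpz z b 3 hb hz3
    have hb1 : (b : ZMod 73) ≠ 1 := fun h => hz1 (hone z b 3 hb h hz3 (by norm_num))
    have hbo : orderOf (b : ZMod 73) = 3 := orderOf_eq_prime hb3 hb1
    have ha2 : (a : ZMod 73) ^ 2 = 1 := by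
      by_contra hne
      have h1 : orderOf (a : ZMod 73) ∣ 2 ^ 3 := orderOf_dvd_of_pow_eq_one ha8
      obtain ⟨k, hk, hk'⟩ := (Nat.dvd_prime_pow Nat.prime_two).1 h1
      have hk2 : 2 ≤ k := by
        by_contra hlt
        apply hne
        rw [← orderOf_dvd_iff_pow_eq_one, hk']
        have : k ≤ 1 := by omega
        calc 2 ^ k ∣ 2 ^ 1 := pow_dvd_pow 2 this
          _ = 2 := by norm_num
      have h4 : 4 ∣ orderOf (a : ZMod 73) := by
        rw [hk']; exact pow_dvd_pow 2 hk2
      have hcop : Nat.Coprime (orderOf (a : ZMod 73)) (orderOf (b : ZMod 73)) := by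
        rw [hk', hbo]; exact Nat.Coprime.pow_left _ (by norm_num)
      have h5 := (Commute.all (a : ZMod 73) b).orderOf_mul_eq_mul_orderOf_of_coprime hcop
      have h6 : 12 ∣ orderOf ((a : ZMod 73) * b) := by
        rw [h5, hbo]
        obtain ⟨j, hj⟩ := h4
        rw [hj]
        exact ⟨j, by ring⟩
      have h7 : n * z * ρ * (n * z)⁻¹ = ρ ^ (a * b) := H220.Spec.conj_mul_pow ha hb
      have h8 := hpz (n * z) (a * b) (orderOf (n * z)) h7 (pow_orderOf_eq_one _)
      push_cast at h8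
      exact not_on_twelve (h6.trans (orderOf_dvd_of_pow_eq_one h8)) (hω (n * z))
    have hn2 : n ^ 2 = 1 := by
      have h1 := H220.Spec.conj_pow_pow ha 2
      refine hone (n ^ 2) (a ^ 2) 4 h1 ?_ (by rw [← pow_mul]; exact hn8) (by norm_num)
      push_cast
      exact ha2
    have hx2K : x ^ 2 ∈ K := by
      have h1 := hpowK x k₀ n hk₀ hxn 2
      rwa [hn2, inv_one, mul_one] at h1
    -- the Sylow subgroup
    obtain ⟨S⟩ : Nonempty (Sylow 2 K) := inferInstance
    have hSn : (S : Subgroup K).Normal := by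
      have h := (Group.isNilpotent_of_finite_tfae (G := K)).out 0 3
      exact h.mp hnil 2 inferInstance S
    have hSch : (S : Subgroup K).Characteristic := Sylow.characteristic_of_normal S hSn
    set E : Subgroup G := (S : Subgroup K).map K.subtype with hE
    have hEn : E.Normal := inferInstance
    have hEK : ∀ e ∈ E, e ∈ K := by
      rintro _ ⟨k, -, rfl⟩
      exact k.2
    have hE2 : IsPGroup 2 E := S.isPGroup'.map _
    have hxE : x ^ 2 ∈ E := by
      have h1 : IsPGroup 2 (Subgroup.zpowers (⟨x ^ 2, hx2K⟩ : K)) := by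
        apply IsPGroup.of_card (n := 3)
        have h5 : orderOf (x ^ 2) = 16 / 2 := by
          rw [orderOf_pow_of_dvd (by norm_num) (by rw [hx]; norm_num), hx]
        rw [Nat.card_zpowers, Subgroup.orderOf_mk, h5]
        norm_num
      have h2 := h1.inf_normalizer_sylow S
      have h6 : Subgroup.normalizer ((S : Subgroup K) : Set K) = ⊤ := Subgroup.normalizer_eq_top _
      have h7 : Subgroup.normalizer (S : Set K) = ⊤ := h6
      rw [h7, inf_top_eq] at h2
      have h3 : (⟨x ^ 2, hx2K⟩ : K) ∈ Subgroup.zpowers (⟨x ^ 2, hx2K⟩ : K) ⊓ (S : Subgroup K) := by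
        rw [← h2]; exact Subgroup.mem_zpowers _
      exact ⟨_, h3.2, rfl⟩
    have h3 : (b : ZMod 73) ^ 2 + b + 1 = 0 := by
      have h4 : ((b : ZMod 73) - 1) * ((b : ZMod 73) ^ 2 + b + 1) = 0 := by linear_combination hb3
      exact (mul_eq_zero.1 h4).resolve_left (sub_ne_zero.2 hb1)
    have hl : 73 ∣ (b ^ 2) ^ 2 + b ^ 2 + 1 := by
      rw [← ZMod.natCast_eq_zero_iff]
      push_cast
      linear_combination (b : ZMod 73) * hb3 + h3
    have hρz : ρ * z = z * ρ ^ (b ^ 2) := by
      have h1 : z * ρ ^ (b ^ 2) * z⁻¹ = ρ := by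
        rw [← conj_pow, hb, ← pow_mul]
        conv_rhs => rw [← pow_one ρ]
        rw [pow_eq_pow_zmod hρ]
        push_cast
        linear_combination hb3
      calc ρ * z = (z * ρ ^ (b ^ 2) * z⁻¹) * z := by rw [h1]
        _ = z * ρ ^ (b ^ 2) := by group
    let P : E →* E := ((MulAut.conjNormal ρ : E ≃* E) : E →* E)
    let Y : E →* E := ((MulAut.conjNormal z : E ≃* E) : E →* E)
    have hP : ∀ k : E, ((P k : E) : G) = ρ * k * ρ⁻¹ := fun k => MulAut.conjNormal_apply ρ k
    have hY : ∀ k : E, ((Y k : E) : G) = z * k * z⁻¹ := fun k => MulAut.conjNormal_apply z k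
    have hPi : ∀ (j : ℕ) (k : E), ((P^[j] k : E) : G) = ρ ^ j * k * (ρ ^ j)⁻¹ := by
      intro j
      induction j with
      | zero => intro k; simp
      | succ j ih =>
        intro k
        rw [Function.iterate_succ_apply, ih, hP]
        group
    have hYi : ∀ (j : ℕ) (k : E), ((Y^[j] k : E) : G) = z ^ j * k * (z ^ j)⁻¹ := by
      intro j
      induction j with
      | zero => intro k; simp
      | succ j ih =>
        intro k
        rw [Function.iterate_succ_apply, ih, hY]
        group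
    have h4 := FrobExp.pow_four (r := 73) (by norm_num) (by norm_num) hl hE2 P Y
      (fun k => Subtype.ext (by rw [hPi, hρ73]; group))
      (fun k => Subtype.ext (by rw [hYi, hz3]; group))
      (fun k => Subtype.ext (by
        rw [hP, hY, hY, hPi]
        calc ρ * (z * k * z⁻¹) * ρ⁻¹ = (ρ * z) * k * (ρ * z)⁻¹ := by group
          _ = (z * ρ ^ (b ^ 2)) * k * (z * ρ ^ (b ^ 2))⁻¹ := by rw [hρz]
          _ = z * (ρ ^ b ^ 2 * k * (ρ ^ b ^ 2)⁻¹) * z⁻¹ := by
            simp only [mul_inv_rev, mul_assoc]))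
      (fun k hk => by
        have h1 := congrArg Subtype.val hk
        rw [hP] at h1
        exact Subtype.ext (hKfix' k (hEK k k.2) h1))
      (fun k hk => by
        have h1 := congrArg Subtype.val hk
        rw [hY] at h1
        by_contra hk2
        obtain ⟨m, hm⟩ := IsPGroup.iff_orderOf.mp hE2 k
        have h2 : 4 ∣ orderOf k := by
          rw [hm, show 4 = 2 ^ 2 by norm_num]
          apply pow_dvd_pow
          by_contra hlt
          push Not at hlt
          apply hk2
          apply orderOf_dvd_iff_pow_eq_one.mp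
          rw [hm]
          conv_rhs => rw [← pow_one 2]
          exact pow_dvd_pow 2 (by omega)
        obtain ⟨j, hj⟩ := H220.BinOct.exists_pow_orderOf k h2
        refine no_twelve hω (x := ((k ^ j : E) : G)) (by rw [Subgroup.orderOf_coe, hj]) hzo ?_
        have h3 : z * (k : G) = k * z := mul_inv_eq_iff_eq_mul.1 h1
        rw [Subgroup.coe_pow]
        exact ((show Commute z (k : G) from h3).pow_right j).symm)
      ⟨x ^ 2, hxE⟩
    have h5 : (x ^ 2) ^ 4 = 1 := congrArg Subtype.val h4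
    rw [← pow_mul] at h5
    have h6 := orderOf_dvd_of_pow_eq_one h5
    rw [hx] at h6
    exact absurd h6 (by norm_num)

theorem card_sylow_eq (hω : ∀ g : G, On (orderOf g)) (h73 : ∃ g : G, orderOf g = 73)
    (K : Subgroup G) [hKn : K.Normal] (hK73 : ¬ 73 ∣ Nat.card K) (hK : K ≠ ⊥) (P : Sylow 73 G) :
    Nat.card P = 73 := by
  obtain ⟨n, hn⟩ := IsPGroup.iff_card.mp P.isPGroup'
  have hn0 : n ≠ 0 := by
    rintro rfl
    obtain ⟨g, hg⟩ := h73
    have h1 := P.dvd_card_of_dvd_card (by rw [← hg]; exact orderOf_dvd_natCard g)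
    rw [hn] at h1
    exact absurd h1 (by norm_num)
  by_contra hne
  have hn2 : 2 ≤ n := by
    by_contra hlt
    have h1 : n = 1 := by omega
    rw [h1, pow_one] at hn
    exact hne hn
  obtain ⟨A, hA⟩ := Sylow.exists_subgroup_card_pow_prime (G := P) 73 (n := 2)
    (by rw [hn]; exact pow_dvd_pow 73 hn2)
  have hAc : IsMulCommutative A := IsPGroup.isMulCommutative_of_card_eq_prime_sq hA
  let B : Subgroup G := A.map (P : Subgroup G).subtype
  have hBP : B ≤ (P : Subgroup G) := Subgroup.map_subtype_le A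
  have hBc : IsMulCommutative B := inferInstance
  have hBcard : Nat.card B = 73 ^ 2 := by
    rw [← hA]
    exact Nat.card_congr (A.equivMapOfInjective _ (P : Subgroup G).subtype_injective).toEquiv.symm
  have hB73 : IsPGroup 73 B := IsPGroup.of_card hBcard
  have hBnc : ¬ IsCyclic B := by
    intro h
    obtain ⟨g, hg⟩ := h.exists_ofOrder_eq_natCard
    have h2 : orderOf (g : G) = 73 ^ 2 := by rw [Subgroup.orderOf_coe, hg, hBcard]
    have h1 := eq_of_dvd (hω (g : G)) (by rw [h2]; norm_num)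
    rw [h2] at h1
    norm_num at h1
  have hcop : (Nat.card B).Coprime (Nat.card K) := by
    rw [hBcard]
    exact Nat.Coprime.pow_left _ ((Nat.Prime.coprime_iff_not_dvd (by norm_num)).mpr hK73)
  have h1 := Cfsg.Agent.S0058.result B K hBnc (by rw [Subgroup.normalizer_eq_top]; exact le_top) hcop
  apply hK
  rw [← h1, eq_bot_iff]
  refine iSup_le fun a => iSup_le fun ha => ?_
  rintro k ⟨hk, hka⟩
  rw [Subgroup.mem_bot]
  have h2 : k * a = a * k := Subgroup.mem_centralizer_singleton_iff.mp hka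
  have h3 : orderOf a = 73 := orderOf_eq_of_pGroup hω hB73 ha.1 ha.2
  exact eq_one_of_comm hω h3 h2.symm (fun h => hK73 (h.trans (Subgroup.orderOf_dvd_natCard K hk)))

theorem not_solvable_aux {G : Type} [Group G] [Finite G] (hω : ∀ g : G, On (orderOf g))
    (h73 : ∃ g : G, orderOf g = 73) {x y : G} (hx : orderOf x = 16) (hy : orderOf y = 3) :
    ¬ Group.IsSolvable G := by
  classical
  intro hsol
  have hcn : (Cfsg.pCore 73 G).Normal := Lib.Cores.pCore_normal 73
  by_cases hM : Cfsg.pCore 73 G = ⊥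
  swap
  · exact caseA hω hx hy (Cfsg.pCore 73 G) (Lib.Cores.pCore_isPGroup 73) hM
  set K := Cfsg.pPrimeCore 73 G with hKdef
  have hKn : K.Normal := Lib.Cores.pPrimeCore_normal 73
  have hKc : (Nat.card K).Coprime 73 := Lib.Cores.pPrimeCore_coprime 73
  have hK : K ≠ ⊥ := by
    intro hK
    have h1 := Lib.HallHigman.centralizer_pCore_le_of_solvable 73 hK
    rw [hM] at h1
    obtain ⟨g, hg⟩ := h73
    have h2 : g ∈ (⊥ : Subgroup G) := by
      apply h1
      rw [Subgroup.mem_centralizer_iff]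
      intro k hk
      rw [SetLike.mem_coe, Subgroup.mem_bot] at hk
      rw [hk, one_mul, mul_one]
    rw [Subgroup.mem_bot] at h2
    rw [h2, orderOf_one] at hg
    exact absurd hg (by norm_num)
  have hK73 : ¬ 73 ∣ Nat.card K := fun h => by
    have := Nat.Coprime.eq_one_of_dvd (Nat.coprime_comm.mp hKc) h
    exact absurd this (by norm_num)
  obtain ⟨P⟩ : Nonempty (Sylow 73 G) := inferInstance
  have hP : Nat.card P = 73 := card_sylow_eq hω h73 K hK73 hK P
  obtain ⟨ρ, hρP, hρ⟩ : ∃ ρ : G, ρ ∈ (P : Subgroup G) ∧ orderOf ρ = 73 := by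
    obtain ⟨ρ', hρ'⟩ := exists_prime_orderOf_dvd_card' (G := P) 73 (dvd_of_eq hP.symm)
    exact ⟨(ρ' : P), ρ'.2, by rw [Subgroup.orderOf_coe, hρ']⟩
  have hPρ : (P : Subgroup G) = Subgroup.zpowers ρ := by
    symm
    apply Subgroup.eq_of_le_of_card_ge
    · rw [Subgroup.zpowers_le]; exact hρP
    · rw [Nat.card_zpowers, hρ]; exact hP.le
  have hC : ∀ g, g * ρ = ρ * g → g ∈ Subgroup.zpowers ρ := by
    intro g hg
    by_cases h1 : 73 ∣ orderOf g
    · have h2 : orderOf g = 73 := eq_of_dvd (hω g) h1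
      have h3 : IsPGroup 73 (Subgroup.zpowers g) :=
        IsPGroup.of_card (n := 1) (by rw [Nat.card_zpowers, h2, pow_one])
      have h4 := h3.inf_normalizer_sylow P
      have h5 : g ∈ Subgroup.zpowers g ⊓ (P : Subgroup G) := by
        rw [← h4]
        refine ⟨Subgroup.mem_zpowers g, ?_⟩
        change g ∈ Subgroup.normalizer ((P : Subgroup G) : Set G)
        rw [hPρ, Subgroup.mem_normalizer_iff]
        have h6 : ∀ h : G, h ∈ Subgroup.zpowers ρ → g * h * g⁻¹ = h := by
          intro h hh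
          obtain ⟨k, rfl⟩ := Subgroup.mem_zpowers_iff.mp hh
          have h7 : Commute g (ρ ^ k) := (show Commute g ρ from hg).zpow_right k
          rw [h7.eq]; group
        intro h
        constructor
        · intro hh
          rw [h6 h hh]; exact hh
        · intro hh
          have h7 : Commute g (g * h * g⁻¹) := by
            obtain ⟨k, hk⟩ := Subgroup.mem_zpowers_iff.mp hh
            rw [← hk]
            exact (show Commute g ρ from hg).zpow_right k
          have h8 : h = g * h * g⁻¹ := by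
            calc h = g⁻¹ * (g * h * g⁻¹ * g) := by group
              _ = g⁻¹ * (g * (g * h * g⁻¹)) := by rw [h7.eq]
              _ = g * h * g⁻¹ := by group
          rw [h8]; exact hh
      rw [← hPρ]
      exact h5.2
    · rw [eq_one_of_comm hω hρ (Commute.symm hg) h1]
      exact one_mem _
  -- `K P` is normal
  set f := QuotientGroup.mk' K with hf
  have hfs : Function.Surjective f := QuotientGroup.mk'_surjective K
  have hsolq : Group.IsSolvable (G ⧸ K) := inferInstance
  have hbar : Cfsg.pPrimeCore 73 (G ⧸ K) = ⊥ := Lib.Cores.pPrimeCore_quotient_pPrimeCore 73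
  have hcen := Lib.HallHigman.centralizer_pCore_le_of_solvable (G := G ⧸ K) 73 hbar
  set M := Cfsg.pCore 73 (G ⧸ K) with hM
  have hMn : M.Normal := Lib.Cores.pCore_normal 73
  have hMP : M = (P : Subgroup G).map f := by
    have h1 : M ≤ (P : Subgroup G).map f := by
      have := Lib.Cores.pCore_le_sylow (P.mapSurjective hfs)
      rwa [Sylow.coe_mapSurjective] at this
    have h2 : Nat.card ((P : Subgroup G).map f) ∣ 73 := by
      have h5 := Subgroup.card_map_dvd (P : Subgroup G) f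
      rwa [show Nat.card (P : Subgroup G) = 73 from hP] at h5
    have h3 : M ≠ ⊥ := by
      intro h
      have h4 : ∀ g : G, g ∈ K := by
        intro g
        have h5 : f g ∈ M := by
          apply hcen
          rw [h, Subgroup.mem_centralizer_iff]
          intro k hk
          rw [SetLike.mem_coe, Subgroup.mem_bot] at hk
          rw [hk, one_mul, mul_one]
        rw [h, Subgroup.mem_bot] at h5
        exact (QuotientGroup.eq_one_iff g).mp h5
      obtain ⟨g, hg⟩ := h73
      exact hK73 (by rw [← hg]; exact Subgroup.orderOf_dvd_natCard K (h4 g))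
    apply Subgroup.eq_of_le_of_card_ge h1
    have h4 : Nat.card M ∣ 73 := (Subgroup.card_dvd_of_le h1).trans h2
    rcases (Nat.dvd_prime (by norm_num)).mp h4 with h5 | h5
    · exact absurd (Subgroup.card_eq_one.mp h5) h3
    · rw [h5]; exact Nat.le_of_dvd (by norm_num) h2
  set L := M.comap f with hL
  have hLn : L.Normal := inferInstance
  have hPL : (P : Subgroup G) ≤ L := by
    rw [hL, hMP]; exact Subgroup.le_comap_map _ _
  have hLeq : L = (P : Subgroup G) ⊔ K := by
    rw [hL, hMP, Subgroup.comap_map_eq, QuotientGroup.ker_mk']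
  have hFr2 : Subgroup.normalizer ((P : Subgroup G) : Set G) ⊔ L = ⊤ :=
    Sylow.normalizer_sup_eq_top' P hPL
  refine caseB hω hx hy K hK73 inferInstance hρ hC ?_
  intro g
  have h1 : Subgroup.normalizer ((P : Subgroup G) : Set G) ⊔ K = ⊤ := by
    rw [eq_top_iff, ← hFr2, hLeq]
    refine sup_le le_sup_left (sup_le ?_ le_sup_right)
    exact Subgroup.le_normalizer.trans le_sup_left
  have h2 : g ∈ K ⊔ Subgroup.normalizer ((P : Subgroup G) : Set G) := by
    rw [sup_comm, h1]; trivial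
  rw [Subgroup.mem_sup_of_normal_left] at h2
  obtain ⟨k, hk, n, hn, hkn⟩ := h2
  refine ⟨k, hk, n, ?_, hkn.symm⟩
  have h3 := (Subgroup.mem_normalizer_iff.mp hn ρ).mp hρP
  rwa [hPρ] at h3

/-- **Groups with the element orders of `PSU₃(9)` are not soluble.** -/
theorem not_solvable {G : Type*} [Group G] [Finite G] (hω : ∀ g : G, On (orderOf g))
    (h73 : ∃ g : G, orderOf g = 73) (h16 : ∃ g : G, orderOf g = 16) (h3 : ∃ g : G, orderOf g = 3) :
    ¬ Group.IsSolvable G := by
  intro hsol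
  have hsm : Small.{0} G := inferInstance
  let e : G ≃* Shrink.{0} G := Shrink.mulEquiv.symm
  have hfin : Finite (Shrink.{0} G) := Finite.of_equiv G e.toEquiv
  have hs : Group.IsSolvable (Shrink.{0} G) := Group.isSolvable_of_surjective (f := e.toMonoidHom) e.surjective
  obtain ⟨g, hg⟩ := h73
  obtain ⟨x, hx⟩ := h16
  obtain ⟨y, hy⟩ := h3
  exact not_solvable_aux (G := Shrink.{0} G) (fun a => by rw [← e.symm.orderOf_eq]; exact hω _)
    ⟨e g, by rw [e.orderOf_eq, hg]⟩ (x := e x) (y := e y) (by rw [e.orderOf_eq, hx]) (by rw [e.orderOf_eq, hy]) hs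

end Cfsg.Agent.H127.Nine
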