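import Cfsg.Agent.S3633
import Cfsg.Agent.S4008
import Cfsg.Agent.S2366
import Cfsg.Agent.SignalizersComponents.ComponentExists
import Cfsg.Agent.H127.U3Main
import Cfsg.Agent.H127.U3Nine

/-!
# `PSU₃(q)`, `q ≡ 1, 9 mod 12`, from its element orders and its composition factors (helper127)
-/

set_option autoImplicit false

namespace Cfsg.Agent.H127.U3

open Cfsg

/-! ### numbers -/

theorem nine_pow {j : ℕ} (hj : 2 ≤ j) : ∃ r : ℕ, r.Prime ∧ r ≠ 2 ∧ r ∣ 9 ^ j - 1 := by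
  by_contra hcon
  push Not at hcon
  have h0 : 9 ^ j - 1 ≠ 0 := by
    have : 9 ^ 1 ≤ 9 ^ j := Nat.pow_le_pow_right (by norm_num) (by omega)
    omega
  have h1 := Nat.eq_prime_pow_of_unique_prime_dvd (p := 2) h0 (fun {d} hd hdd => by
    by_contra hne
    exact hcon d hd hne hdd)
  set m := (9 ^ j - 1).primeFactorsList.length with hm
  -- `(3 ^ j - 1) (3 ^ j + 1) = 2 ^ m`
  have h3 : 3 ^ 2 ≤ 3 ^ j := Nat.pow_le_pow_right (by norm_num) hj
  have h2 : (3 ^ j - 1) * (3 ^ j + 1) = 2 ^ m := by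
    rw [← h1]
    obtain ⟨t, ht⟩ : ∃ t, 3 ^ j = t + 1 := ⟨3 ^ j - 1, by omega⟩
    have h4 : 9 ^ j = (t + 1) * (t + 1) := by
      rw [← ht, show (9 : ℕ) = 3 * 3 by norm_num, mul_pow]
    rw [h4, ht, Nat.add_sub_cancel]
    have h5 : (t + 1) * (t + 1) = t * (t + 1 + 1) + 1 := by ring
    rw [h5, Nat.add_sub_cancel]
  obtain ⟨a, -, ha⟩ := (Nat.dvd_prime_pow Nat.prime_two).1 (Dvd.intro _ h2 : 3 ^ j - 1 ∣ 2 ^ m)
  obtain ⟨b, -, hb⟩ := (Nat.dvd_prime_pow Nat.prime_two).1 (Dvd.intro_left _ h2 : 3 ^ j + 1 ∣ 2 ^ m)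
  have ha2 : 2 ≤ a := by
    by_contra hlt
    have : 2 ^ a ≤ 2 ^ 1 := Nat.pow_le_pow_right (by norm_num) (by omega)
    omega
  have hb2 : 2 ≤ b := by
    by_contra hlt
    have : 2 ^ b ≤ 2 ^ 1 := Nat.pow_le_pow_right (by norm_num) (by omega)
    omega
  have h4a : 4 ∣ 2 ^ a := pow_dvd_pow 2 ha2
  have h4b : 4 ∣ 2 ^ b := pow_dvd_pow 2 hb2
  omega

/-- the third prime of a coclique -/
theorem exists_r {p q : ℕ} (hp : p.Prime) (hq : q % 12 = 1 ∨ q % 12 = 9) (h9 : q ≠ 9) {k : ℕ}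
    (hqp : q = p ^ k) (hq1 : 1 < q) : ∃ r : ℕ, r.Prime ∧ r ≠ 2 ∧ r ∣ q - 1 := by
  rcases hq with hq | hq
  · exact ⟨3, Nat.prime_three, by norm_num, by omega⟩
  · have h3 : 3 ∣ q := by omega
    have hp3 : p = 3 := by
      rw [hqp] at h3
      exact ((Nat.prime_dvd_prime_iff_eq Nat.prime_three hp).1 (Nat.prime_three.dvd_of_dvd_pow h3)).symm
    subst hp3
    -- `k` is even
    have hk : k % 2 = 0 := by
      by_contra hk
      obtain ⟨i, hi⟩ : ∃ i, k = 2 * i + 1 := ⟨k / 2, by omega⟩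
      rw [hi, pow_succ, pow_mul] at hqp
      have h4 : (3 ^ 2) ^ i * 3 % 4 = 3 := by
        rw [Nat.mul_mod, Nat.pow_mod]
        norm_num
      omega
    obtain ⟨j, hj⟩ : ∃ j, k = 2 * j := ⟨k / 2, by omega⟩
    rw [hj, pow_mul] at hqp
    norm_num at hqp
    have hj2 : 2 ≤ j := by
      by_contra hlt
      interval_cases j
      · omega
      · omega
    rw [hqp]
    exact nine_pow hj2

/-- **Insolubility.** -/
theorem not_isSolvable {G : Type*} [Group G] [Finite G] {p q k : ℕ} (hp : p.Prime)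
    (hq : q % 12 = 1 ∨ q % 12 = 9) (hqp : q = p ^ k) (hq1 : 1 < q) (hk : k ≠ 0)
    (hω : ∀ g : G, Om p q (orderOf g)) (hex : ∀ n, Om p q n → ∃ g : G, orderOf g = n) :
    ¬ Group.IsSolvable G := by
  have hpq : p ∣ q := by rw [hqp]; exact dvd_pow_self p hk
  have h3 : ¬ 3 ∣ q + 1 := by omega
  have hq2 : 2 ≤ q := hq1
  by_cases h9 : q = 9
  · subst h9
    have hp3 : p = 3 := by
      have h5 : p ∣ 3 ^ 2 := by norm_num; exact hpq
      exact (Nat.prime_dvd_prime_iff_eq hp Nat.prime_three).1 (hp.dvd_of_dvd_pow h5)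
    subst hp3
    refine Nine.not_solvable (fun g => ?_) (hex 73 (Or.inl (by norm_num)))
      (hex 16 (Or.inr (Or.inl (by norm_num)))) (hex 3 (Or.inr (Or.inr (by norm_num))))
    rcases hω g with h | h | h
    · right; right; exact h
    · right; left; exact h
    · left; exact h
  obtain ⟨r, hr, hr2, hrq⟩ := exists_r hp hq h9 hqp hq1
  have hn1 : q ^ 2 - q + 1 ≠ 1 := by
    have h5 : q ^ 2 - q = q * (q - 1) := by rw [Nat.mul_sub, pow_two, mul_one]
    have h6 : 0 < q * (q - 1) := Nat.mul_pos (by omega) (by omega)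
    omega
  obtain ⟨s, hs, hsn⟩ := Nat.exists_prime_and_dvd hn1
  have hpn := not_dvd_nn hp hpq hq2
  have hsp : s ≠ p := by rintro rfl; exact hpn hsn
  have hrn : ¬ r ∣ q ^ 2 - q + 1 := by
    intro h
    have h5 : q ^ 2 - q = q * (q - 1) := by rw [Nat.mul_sub, pow_two, mul_one]
    rw [h5] at h
    exact hr.one_lt.ne' (Nat.dvd_one.mp ((Nat.dvd_add_right (hrq.mul_left _)).1 h))
  have hrs : r ≠ s := by rintro rfl; exact hrn hsn
  have hrp : r ≠ p := by
    rintro rfl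
    have h5 : r ∣ q - (q - 1) := Nat.dvd_sub hpq hrq
    have h6 : q - (q - 1) = 1 := by omega
    rw [h6] at h5
    exact hr.one_lt.ne' (Nat.dvd_one.mp h5)
  have hr1 : ¬ r ∣ q + 1 := by
    intro h
    have h5 := Nat.dvd_sub h hrq
    have h6 : q + 1 - (q - 1) = 2 := by omega
    rw [h6] at h5
    exact hr2 ((Nat.prime_dvd_prime_iff_eq hr Nat.prime_two).1 h5)
  have hs1 : ¬ s ∣ q + 1 := by
    intro h
    exact hs.one_lt.ne' (Nat.dvd_one.mp (by rw [← cop_succ hq2 h3]; exact Nat.dvd_gcd hsn h))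
  have omrq : Om p q r := by
    right; left
    rw [sq_sub_one q (by omega)]
    exact hrq.mul_left _
  -- the non-edges
  have e1 : ¬ Om p q (p * r) := by
    rintro (h | h | h)
    · exact hpn ((Dvd.intro _ rfl : p ∣ p * r).trans h)
    · exact not_dvd_sq hp hpq hq2 ((Dvd.intro _ rfl : p ∣ p * r).trans h)
    · exact hr1 (Nat.dvd_of_mul_dvd_mul_left hp.pos h)
  have e2 : ¬ Om p q (p * s) := fun h =>
    hpn ((Dvd.intro _ rfl : p ∣ p * s).trans (om_nn hp hpq hq2 h3 hs hsn (dvd_mul_left _ _) h))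
  have e3 : ¬ Om p q (r * s) := fun h =>
    hrn ((Dvd.intro _ rfl : r ∣ r * s).trans (om_nn hp hpq hq2 h3 hs hsn (dvd_mul_left _ _) h))
  have hdvd : ∀ n, Om p q n → n ∣ Nat.card G := by
    intro n hn
    obtain ⟨g, hg⟩ := hex n hn
    rw [← hg]
    exact orderOf_dvd_natCard g
  have aux : ∀ a b : ℕ, ¬ Om p q (a * b) → ¬ ∃ x : G, orderOf x = a * b := by
    rintro a b h ⟨x, hx⟩
    exact h (hx ▸ hω x)
  refine (S3633.result ({p, r, s} : Finset ℕ) ?_ ⟨?_, ?_⟩ (⊥ : Subgroup G) inferInstance).2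
  · rw [Finset.card_insert_of_notMem (by
        simp only [Finset.mem_insert, Finset.mem_singleton, not_or]
        exact ⟨fun h => hrp h.symm, fun h => hsp h.symm⟩), Finset.card_pair hrs]
  · intro r' hr'
    simp only [Finset.mem_insert, Finset.mem_singleton] at hr'
    rcases hr' with rfl | rfl | rfl
    · exact ⟨hp, hdvd _ (Or.inr (Or.inr (dvd_mul_right _ _)))⟩
    · exact ⟨hr, hdvd _ omrq⟩
    · exact ⟨hs, hdvd _ (Or.inl hsn)⟩
  · intro r' hr' s' hs' hne
    simp only [Finset.mem_insert, Finset.mem_singleton] at hr' hs'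
    rcases hr' with rfl | rfl | rfl <;> rcases hs' with rfl | rfl | rfl
    · exact absurd rfl hne
    · exact aux _ _ e1
    · exact aux _ _ e2
    · exact aux _ _ (by rw [mul_comm]; exact e1)
    · exact absurd rfl hne
    · exact aux _ _ e3
    · exact aux _ _ (by rw [mul_comm]; exact e2)
    · exact aux _ _ (by rw [mul_comm]; exact e3)
    · exact absurd rfl hne

/-- **Recognition modulo the composition factors.** -/
theorem recognise {G : Type*} [Group G] [Finite G] {F : Type*} [Field F] [Fintype F] (q : ℕ)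
    (hq : q % 12 = 1 ∨ q % 12 = 9) (hF : Fintype.card F = q ^ 2)
    (h : Set.range (orderOf : G → ℕ) = Set.range (orderOf : Cfsg.PSU 3 F q → ℕ))
    (hcf : ¬ Group.IsSolvable G → IsPrimePow q → Odd q → 5 < q → ∀ (H : Subgroup G), H.IsSubnormal →
      ∀ (N : Subgroup ↥H) [N.Normal], IsSimpleGroup (↥H ⧸ N) → ¬ IsMulCommutative (↥H ⧸ N) →
      Nonempty ((↥H ⧸ N) ≃* Cfsg.PSU 3 F q)) : Nonempty (G ≃* Cfsg.PSU 3 F q) := by
  classical
  obtain ⟨p, hch⟩ := CharP.exists F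
  have hpp : Fact p.Prime := ⟨CharP.char_is_prime F p⟩
  have hp := hpp.out
  obtain ⟨n, -, hn⟩ := FiniteField.card F p
  have hqn : q ^ 2 = p ^ (n : ℕ) := by rw [← hF, hn]
  obtain ⟨k, -, hqk⟩ := (Nat.dvd_prime_pow hp).1 (by rw [← hqn]; exact dvd_pow_self q (by norm_num) : q ∣ p ^ (n : ℕ))
  have hF1 : 1 < Fintype.card F := Fintype.one_lt_card
  have hq1 : 1 < q := by
    by_contra hlt
    have : q = 0 ∨ q = 1 := by omega
    rcases this with rfl | rfl
    · omega
    · omega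
  have hk : k ≠ 0 := by
    rintro rfl
    rw [pow_zero] at hqk
    omega
  have hpq : p ∣ q := by rw [hqk]; exact dvd_pow_self p hk
  have hodd : Odd q := Nat.odd_iff.2 (by omega)
  have hp2 : p ≠ 2 := by
    rintro rfl
    have := Nat.odd_iff.1 hodd
    omega
  have h3 : ¬ 3 ∣ q + 1 := by omega
  have h4 : q % 4 = 1 := by omega
  have hgcd : Nat.gcd 3 (q + 1) = 1 := (Nat.Prime.coprime_iff_not_dvd Nat.prime_three).2 h3
  have hspec := S2366.result (F := F) p hp2 q hF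
  rw [hgcd, Nat.div_one, Nat.div_one, Nat.div_one] at hspec
  rw [hspec] at h
  have hω : ∀ g : G, Om p q (orderOf g) := by
    intro g
    have h1 : orderOf g ∈ Set.range (orderOf : G → ℕ) := ⟨g, rfl⟩
    rw [h] at h1
    rcases h1 with ((h1 | h1) | h1) | h1
    · exact Or.inr (Or.inr (Dvd.dvd.mul_left h1 p))
    · exact Or.inr (Or.inr h1)
    · exact Or.inr (Or.inl h1)
    · exact Or.inl h1
  have hex : ∀ n, Om p q n → ∃ g : G, orderOf g = n := by
    intro n hn
    have h1 : n ∈ Set.range (orderOf : G → ℕ) := by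
      rw [h]
      rcases hn with h1 | h1 | h1
      · exact Or.inr h1
      · exact Or.inl (Or.inr h1)
      · exact Or.inl (Or.inl (Or.inr h1))
    exact h1
  have hns := not_isSolvable hp hq hqk hq1 hk hω hex
  obtain ⟨K, hKc, hKs, hKmax⟩ := SignalizersComponents.ComponentExists.exists_solvableRadical G
  have hKn : K.Normal := inferInstance
  have hq2 : 2 ≤ q := hq1
  have hn1 : q ^ 2 - q + 1 ≠ 1 := by
    have h5 : q ^ 2 - q = q * (q - 1) := by rw [Nat.mul_sub, pow_two, mul_one]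
    have h6 : 0 < q * (q - 1) := Nat.mul_pos (by omega) (by omega)
    omega
  obtain ⟨s, hs, hsn⟩ := Nat.exists_prime_and_dvd hn1
  have hs2 : s ≠ 2 := by
    rintro rfl
    exact Nat.not_even_iff_odd.2 (nn_odd hq2) (even_iff_two_dvd.2 hsn)
  have hdvd : ∀ n, Om p q n → n ∣ Nat.card G := by
    intro n hn
    obtain ⟨g, hg⟩ := hex n hn
    rw [← hg]
    exact orderOf_dvd_natCard g
  have h2 : 2 ∣ Nat.card G := by
    apply hdvd
    right; right
    exact Dvd.dvd.mul_left (by omega) p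
  have h2s : ∀ g : G, orderOf g ≠ 2 * s := by
    intro g hg
    have h5 := om_nn hp hpq hq2 h3 hs hsn (m := 2 * s) (dvd_mul_left _ _) (hg ▸ hω g)
    exact Nat.not_even_iff_odd.2 (nn_odd hq2) (even_iff_two_dvd.2 ((Dvd.intro _ rfl : 2 ∣ 2 * s).trans h5))
  obtain ⟨S, hSn, hSs, hSna, hSc⟩ := S4008.result hns (even_iff_two_dvd.2 h2) s hs hs2
    (hdvd _ (Or.inl hsn)) h2s K hKs (fun N hN hNs => hKmax N hN hNs)
  -- the composition factor
  let H : Subgroup G := S.comap (QuotientGroup.mk' K)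
  have hHn : H.Normal := inferInstance
  let φ : H →* S := (QuotientGroup.mk' K).subgroupComap S
  have hφ : Function.Surjective φ := by
    rintro ⟨y, hy⟩
    obtain ⟨g, rfl⟩ := QuotientGroup.mk'_surjective K y
    exact ⟨⟨g, hy⟩, rfl⟩
  let e₁ : H ⧸ φ.ker ≃* S := QuotientGroup.quotientKerEquivOfSurjective φ hφ
  have hsimp : IsSimpleGroup (H ⧸ φ.ker) := by
    have := hSs
    exact e₁.isSimpleGroup
  have hnc : ¬ IsMulCommutative (H ⧸ φ.ker) := by
    intro hc
    apply hSna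
    refine ⟨⟨fun a b => ?_⟩⟩
    apply e₁.symm.injective
    rw [map_mul, map_mul]
    exact hc.1.1 _ _
  have hsub : H.IsSubnormal := Subgroup.Normal.isSubnormal hHn
  obtain ⟨e₂⟩ := hcf hns ((isPrimePow_nat_iff _).2 ⟨p, k, hp, Nat.pos_of_ne_zero hk, hqk.symm⟩) hodd (by omega)
    H hsub φ.ker hsimp hnc
  exact nonempty_equiv hF h4 h3 hpq K hKs S hSc (e₁.symm.trans e₂) hω

end Cfsg.Agent.H127.U3
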