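import Cfsg.Agent.ClassicalGeometry.PSUAutTorus
import Cfsg.Agent.ClassicalGeometry.PSUAutDelta
import Cfsg.Agent.ClassicalGeometry.PSUAutExt
import Cfsg.Agent.ClassicalGeometry.PSUAutFix

/-!
# The Borel subgroup of `PSU₃(q)`, `q` odd, `3 ∤ q + 1` (helper127)

`BorelP L p q`: a `p`-subgroup `U`, a subgroup `Z` of the centre of `U`, an element `c` of order `q² - 1`
normalising both, with the usual action.
-/

set_option autoImplicit false

namespace Cfsg.Agent.H127.U3

open Cfsg Cfsg.Agent.LieClassical.HermBasic Cfsg.Agent.LieClassical.HermSiegel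
  Cfsg.Agent.LieClassical.HermGen Cfsg.Agent.LieClassical.SUBasic Matrix
  Cfsg.Agent.ClassicalGeometry.PSUAutBasic Cfsg.Agent.ClassicalGeometry.PSUAutPhi
  Cfsg.Agent.ClassicalGeometry.PSUAutExt Cfsg.Agent.ClassicalGeometry.PSUAutDelta
  Cfsg.Agent.ClassicalGeometry.PSUAutTorus

/-- the data of a Borel subgroup of `PSU₃(q)` -/
def BorelP (L : Type*) [Group L] (p q : ℕ) : Prop :=
  ∃ (U Z : Subgroup L) (c : L), IsPGroup p U ∧ Z ≤ U ∧ orderOf c = q ^ 2 - 1 ∧
    (∀ a, a ∈ U ↔ c * a * c⁻¹ ∈ U) ∧ (∀ a ∈ Z, c * a * c⁻¹ ∈ Z) ∧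
    (∀ i : ℕ, (∀ a ∈ U, c ^ i * a = a * c ^ i) → c ^ i = 1) ∧
    (∀ i : ℕ, ∀ a ∈ Z, a ≠ 1 → c ^ i * a = a * c ^ i → q - 1 ∣ i) ∧
    (∀ i : ℕ, q - 1 ∣ i → ∀ a ∈ Z, c ^ i * a = a * c ^ i) ∧ (∃ a ∈ Z, a ≠ 1) ∧
    (∀ u ∈ U, ∀ a ∈ Z, u * a = a * u) ∧
    ∃ u ∈ U, ∃ w ∈ U, (c ^ ((q ^ 2 - 1) / 2) * u * (c ^ ((q ^ 2 - 1) / 2))⁻¹ * u⁻¹) * w *
        (c ^ ((q ^ 2 - 1) / 2) * u * (c ^ ((q ^ 2 - 1) / 2))⁻¹ * u⁻¹)⁻¹ * w⁻¹ ∈ Z ∧
      (c ^ ((q ^ 2 - 1) / 2) * u * (c ^ ((q ^ 2 - 1) / 2))⁻¹ * u⁻¹) * w *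
        (c ^ ((q ^ 2 - 1) / 2) * u * (c ^ ((q ^ 2 - 1) / 2))⁻¹ * u⁻¹)⁻¹ * w⁻¹ ≠ 1

theorem BorelP.congr {L L' : Type*} [Group L] [Group L'] {p q : ℕ} (h : BorelP L p q) (e : L ≃* L') :
    BorelP L' p q := by
  obtain ⟨U, Z, c, h1, h2, h3, h4, h5, h6, h7, h8, ⟨a, ha, ha1⟩, h10, u, hu, w, hw, h11, h12⟩ := h
  have hU : ∀ x, x ∈ U.map e.toMonoidHom ↔ e.symm x ∈ U := by
    intro x
    rw [Subgroup.mem_map_equiv]
  have hZ : ∀ x, x ∈ Z.map e.toMonoidHom ↔ e.symm x ∈ Z := by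
    intro x
    rw [Subgroup.mem_map_equiv]
  have hcs : e.symm (e c) = c := e.symm_apply_apply c
  refine ⟨U.map e.toMonoidHom, Z.map e.toMonoidHom, e c, h1.map _, Subgroup.map_mono h2, ?_, ?_, ?_, ?_, ?_, ?_,
    ⟨e a, ?_, ?_⟩, ?_, e u, ?_, e w, ?_, ?_, ?_⟩
  · rw [MulEquiv.orderOf_eq]; exact h3
  · intro x
    rw [hU, hU, map_mul, map_mul, map_inv, hcs]
    exact h4 _
  · intro x hx
    rw [hZ] at hx ⊢
    rw [map_mul, map_mul, map_inv, hcs]
    exact h5 _ hx
  · intro i hi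
    rw [← map_pow, h6 i, map_one]
    intro x hx
    have := hi (e x) (by rw [hU, e.symm_apply_apply]; exact hx)
    rw [← map_pow, ← map_mul, ← map_mul] at this
    exact e.injective this
  · intro i x hx hx1 hc
    rw [hZ] at hx
    apply h7 i _ hx
    · intro h
      apply hx1
      rw [← e.apply_symm_apply x, h, map_one]
    · apply e.injective
      rw [map_mul, map_mul, e.apply_symm_apply, map_pow]
      exact hc
  · intro i hi x hx
    rw [hZ] at hx
    have := congrArg e (h8 i hi _ hx)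
    rw [map_mul, map_mul, e.apply_symm_apply, map_pow] at this
    exact this
  · rw [hZ, e.symm_apply_apply]; exact ha
  · intro h
    apply ha1
    apply e.injective
    rw [h, map_one]
  · intro x hx y hy
    rw [hU] at hx
    rw [hZ] at hy
    have := congrArg e (h10 _ hx _ hy)
    rw [map_mul, map_mul, e.apply_symm_apply, e.apply_symm_apply] at this
    exact this
  · rw [hU, e.symm_apply_apply]; exact hu
  · rw [hU, e.symm_apply_apply]; exact hw
  · rw [hZ]
    simp only [map_mul, map_inv, map_pow, e.symm_apply_apply]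
    exact h11
  · intro h
    apply h12
    apply e.injective
    simp only [map_mul, map_inv, map_pow, map_one]
    exact h

section
variable {F : Type*} [Field F] [Fintype F] {q : ℕ}

theorem pow_q_two_pow (hF : Fintype.card F = q ^ 2) (x : F) : x ^ (q ^ 2) = x := by
  rw [← hF, FiniteField.pow_card]

/-- action on Siegel transformations -/
theorem conj_siegel_smul (hF : Fintype.card F = q ^ 2) {u w : Fin 3 → F} {μ a b : F} (h : IsSiegel q u w μ)
    {g : SU 3 F q} (hg : act g u = a • u) (hw : act g w = b • w)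
    (h' : IsSiegel q u ((a ^ q * b) • w) (a * a ^ q * μ)) :
    g * siegel hF u w μ h * g⁻¹ = siegel hF u ((a ^ q * b) • w) (a * a ^ q * μ) h' := by
  rw [conj_siegel]
  have h1 : IsSiegel q u (act g w) μ := by
    refine ⟨h.iso, ?_, ?_⟩
    · rw [hw, herm_smul_left, h.orth, mul_zero]
    · rw [herm_act]; exact h.tr
  have h2 : IsSiegel q (a • u) (act g w) μ := h1.smul
  rw [siegel_congr hF _ h2 hg rfl rfl, siegel_smul hF h1]
  apply siegel_congr
  · rfl
  · rw [hw, smul_smul]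
  · rfl

/-- commutators of Siegel transformations -/
theorem siegel_comm (hF : Fintype.card F = q ^ 2) {u w w' : Fin 3 → F} {μ μ' : F} (h : IsSiegel q u w μ)
    (h' : IsSiegel q u w' μ')
    (hν : (hermForm 3 F q w w' - hermForm 3 F q w' w) + (hermForm 3 F q w w' - hermForm 3 F q w' w) ^ q = 0) :
    siegel hF u w μ h * siegel hF u w' μ' h' * (siegel hF u w μ h)⁻¹ * (siegel hF u w' μ' h')⁻¹ =
      transv hF u h.iso (hermForm 3 F q w w' - hermForm 3 F q w' w) hν := by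
  have h1 : siegel hF u w μ h * siegel hF u w' μ' h' =
      transv hF u h.iso (hermForm 3 F q w w' - hermForm 3 F q w' w) hν *
        (siegel hF u w' μ' h' * siegel hF u w μ h) := by
    rw [transv, siegel_mul, siegel_mul, siegel_mul]
    apply siegel_congr
    · rfl
    · rw [zero_add, add_comm]
    · rw [herm_zero_right hF]
      ring
  rw [h1]
  group

theorem comm_trace (hF : Fintype.card F = q ^ 2) (w w' : Fin 3 → F) :
    (hermForm 3 F q w w' - hermForm 3 F q w' w) + (hermForm 3 F q w w' - hermForm 3 F q w' w) ^ q = 0 := by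
  rw [sub_pow_q hF, ← herm_swap hF, ← herm_swap hF]
  ring

end

section
variable {F : Type*} [Field F] [Fintype F] {q : ℕ}

theorem sq_sub_one (q : ℕ) (hq : 1 ≤ q) : q ^ 2 - 1 = (q + 1) * (q - 1) := by
  obtain ⟨s, rfl⟩ : ∃ s, q = s + 1 := ⟨q - 1, by omega⟩
  have : (s + 1) ^ 2 = (s + 1 + 1) * (s + 1 - 1) + 1 := by
    rw [Nat.add_sub_cancel]; ring
  omega

theorem gcd_aux (hq : 2 ≤ q) (h3 : ¬ 3 ∣ q + 1) : Nat.Coprime (2 * q - 1) (q ^ 2 - 1) := by
  by_contra hc
  obtain ⟨r, hr, h1, h2⟩ := Nat.Prime.not_coprime_iff_dvd.mp hc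
  have e1 : q ^ 2 - 1 = (q + 1) * (q - 1) := by
    obtain ⟨t, rfl⟩ : ∃ t, q = t + 1 := ⟨q - 1, by omega⟩
    have : (t + 1) ^ 2 = (t + 1 + 1) * (t + 1 - 1) + 1 := by
      rw [Nat.add_sub_cancel]; ring
    omega
  rw [e1] at h2
  rcases hr.dvd_mul.mp h2 with h | h
  · have h4 : r ∣ 3 := by
      have h5 : 3 = 2 * (q + 1) - (2 * q - 1) := by omega
      rw [h5]
      exact Nat.dvd_sub (h.mul_left 2) h1
    rw [(Nat.prime_dvd_prime_iff_eq hr Nat.prime_three).1 h4] at h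
    exact h3 h
  · have h4 : r ∣ 1 := by
      have h5 : 1 = (2 * q - 1) - 2 * (q - 1) := by omega
      rw [h5]
      exact Nat.dvd_sub h1 (h.mul_left 2)
    exact hr.one_lt.ne' (Nat.dvd_one.mp h4)

/-- **The Borel subgroup.** -/
theorem borel_SU (hF : Fintype.card F = q ^ 2) (hodd : Odd q) (h3 : ¬ 3 ∣ q + 1) (p : ℕ) [Fact p.Prime]
    [CharP F p] : BorelP (SU 3 F q) p q := by
  have hq2 := two_le hF
  have hne2 : (2 : F) ≠ 0 := by
    intro h0
    have : CharP F 2 := CharTwo.of_one_ne_zero_of_two_eq_zero one_ne_zero h0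
    obtain ⟨k, -, hk⟩ := FiniteField.card F 2
    have h1 : Odd (Fintype.card F) := by rw [hF]; exact hodd.pow
    rw [hk] at h1
    exact Nat.not_odd_iff_even.2 ((Nat.even_pow.2 ⟨even_two, k.ne_zero⟩)) h1
  obtain ⟨e, f, H⟩ := exists_frame (F := F) (q := q) (n := 3) hF (by norm_num)
  set z : Fin 3 → F := Pi.single 0 1 with hz
  have hzm : z ∈ coordSub F 3 (3 - 2) := single_zero_mem
  have hzz : hermForm 3 F q z z = 1 := herm_single_zero hF
  have hze : hermForm 3 F q z e = 0 := ((H.mem z).1 hzm).1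
  have he0 : e ≠ 0 := frame_ne_zero H
  obtain ⟨t, ht⟩ := IsCyclic.exists_generator (α := Fˣ)
  have hord : orderOf t = q ^ 2 - 1 := by
    rw [orderOf_eq_card_of_forall_mem_zpowers ht, card_units_eq hF, sq_sub_one q (by omega)]
  have ht0 : (t : F) ≠ 0 := t.ne_zero
  obtain ⟨l, hle, hlf, hlz, -⟩ := exists_torus_unit hF H hzm hzz ht0
  -- powers
  have hpe : ∀ i : ℕ, act (l ^ i) e = ((t : F) ^ i) • e := by
    intro i
    induction i with
    | zero => rw [pow_zero, act_one, pow_zero, one_smul]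
    | succ i ih => rw [pow_succ', act_mul, ih, act_smul, hle, smul_smul, pow_succ]
  have hpf : ∀ i : ℕ, act (l ^ i) f = ((((t : F) ^ q)⁻¹) ^ i) • f := by
    intro i
    induction i with
    | zero => rw [pow_zero, act_one, pow_zero, one_smul]
    | succ i ih => rw [pow_succ', act_mul, ih, act_smul, hlf, smul_smul, pow_succ]
  have hpz : ∀ i : ℕ, act (l ^ i) z = (((t : F) ^ q * (t : F)⁻¹) ^ i) • z := by
    intro i
    induction i with
    | zero => rw [pow_zero, act_one, pow_zero, one_smul]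
    | succ i ih => rw [pow_succ', act_mul, ih, act_smul, hlz, smul_smul, pow_succ]
  have htq : (t : F) ^ (q ^ 2 - 1) = 1 := by
    rw [← hord, ← Units.val_pow_eq_pow_val, pow_orderOf_eq_one, Units.val_one]
  have hti : ∀ i : ℕ, (t : F) ^ i = 1 → q ^ 2 - 1 ∣ i := by
    intro i hi
    rw [← hord]
    apply orderOf_dvd_of_pow_eq_one
    apply Units.ext
    rw [Units.val_pow_eq_pow_val, hi, Units.val_one]
  -- an element acting trivially on the frame is trivial
  have htriv : ∀ g : SU 3 F q, act g e = e → act g f = f → act g z = z → g = 1 := by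
    intro g he hf hgz
    apply ext_act
    intro v
    rw [act_one]
    conv_rhs => rw [decomp hF H v]
    conv_lhs => rw [decomp hF H v]
    rw [act_add, act_add, act_smul, act_smul, he, hf, coordSub_three (prV hF H v), act_smul, ← hz, hgz]
  have hlone : l ^ (q ^ 2 - 1) = 1 := by
    apply htriv
    · rw [hpe, htq, one_smul]
    · rw [hpf, inv_pow, ← pow_mul, mul_comm q, pow_mul, htq, one_pow, inv_one, one_smul]
    · rw [hpz, mul_pow, inv_pow, ← pow_mul, mul_comm q, pow_mul, htq, one_pow, inv_one, one_mul, one_smul]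
  have hlord : orderOf l = q ^ 2 - 1 := by
    apply Nat.dvd_antisymm (orderOf_dvd_of_pow_eq_one hlone)
    apply hti
    have h1 := hpe (orderOf l)
    rw [pow_orderOf_eq_one, act_one] at h1
    have h2 : ((t : F) ^ orderOf l - 1) • e = 0 := by rw [sub_smul, one_smul, ← h1, sub_self]
    rcases smul_eq_zero.1 h2 with h3 | h3
    · exact sub_eq_zero.1 h3
    · exact absurd h3 he0
  -- Siegel transformations
  have hS : ∀ (x μ : F), μ + μ ^ q + x * x ^ q = 0 → IsSiegel q e (x • z) μ := by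
    intro x μ h
    refine ⟨H.ee, ?_, ?_⟩
    · rw [herm_smul_left, hze, mul_zero]
    · rw [herm_smul_left, herm_smul_right, hzz, mul_one]; exact h
  have hconj : ∀ (g : SU 3 F q) (a b : F), act g e = a • e → act g z = b • z → b * b ^ q = 1 → ∀ (x μ : F)
      (h : μ + μ ^ q + x * x ^ q = 0),
      ∃ h' : (a * a ^ q * μ) + (a * a ^ q * μ) ^ q + (a ^ q * b * x) * (a ^ q * b * x) ^ q = 0,
      g * siegel hF e (x • z) μ (hS x μ h) * g⁻¹ =
        siegel hF e ((a ^ q * b * x) • z) (a * a ^ q * μ) (hS _ _ h') := by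
    intro g a b hge hgz hb x μ h
    have h' : (a * a ^ q * μ) + (a * a ^ q * μ) ^ q + (a ^ q * b * x) * (a ^ q * b * x) ^ q = 0 := by
      rw [mul_pow, norm_pow_q hF, mul_pow, mul_pow, pow_q_pow_q hF]
      linear_combination (a * a ^ q) * h + (a * a ^ q * x * x ^ q) * hb
    refine ⟨h', ?_⟩
    have h4 : (a ^ q * b * x) • z = (a ^ q * b) • x • z := by rw [smul_smul]
    have h5 : IsSiegel q e ((a ^ q * b) • x • z) (a * a ^ q * μ) := by rw [← h4]; exact hS _ _ h'
    rw [conj_siegel_smul hF (hS x μ h) hge (b := b) (by rw [act_smul, hgz, smul_comm]) h5]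
    exact siegel_congr hF _ _ rfl h4.symm rfl
  -- every element of `siegG` has this form
  have hform : ∀ g ∈ siegG hF e H.ee, ∃ (x μ : F) (h : μ + μ ^ q + x * x ^ q = 0),
      g = siegel hF e (x • z) μ (hS x μ h) := by
    rintro g ⟨w, μ, hw, rfl⟩
    -- `w = α e + x z`
    have h1 : hermForm 3 F q w e = 0 := hw.orth
    have h2 := decomp hF H w
    rw [h1, zero_smul, add_zero, coordSub_three (prV hF H w)] at h2
    set α := hermForm 3 F q w f with hα
    set x := (prV hF H w : Fin 3 → F) 0 with hx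
    have h4 : w = α • e + x • z := h2
    have h5 : hermForm 3 F q w w = x * x ^ q := by
      conv_lhs => rw [h4]
      simp only [herm_add_left, herm_add_right hF, herm_smul_left, herm_smul_right, H.ee, hze, hzz,
        herm_eq_zero_swap hF hze]
      ring
    have h6 : (μ + α - α ^ q) + (μ + α - α ^ q) ^ q + x * x ^ q = 0 := by
      have := hw.tr
      rw [h5] at this
      rw [sub_pow_q hF, add_pow_q hF, pow_q_pow_q hF]
      linear_combination this
    refine ⟨x, μ + α - α ^ q, h6, ?_⟩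
    apply ext_act
    intro v
    rw [act_siegel, act_siegel]
    have h7 : hermForm 3 F q v w = α ^ q * hermForm 3 F q v e + x ^ q * hermForm 3 F q v z := by
      conv_lhs => rw [h4]
      rw [herm_add_right hF, herm_smul_right, herm_smul_right]
    rw [h7, herm_smul_right]
    conv_lhs => rw [h4]
    funext i
    simp only [Pi.add_apply, Pi.smul_apply, smul_eq_mul]
    ring
  have hformZ : ∀ g ∈ transvG hF e H.ee, ∃ (μ : F) (hμ : μ + μ ^ q = 0) (h : μ + μ ^ q + 0 * 0 ^ q = 0),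
      g = siegel hF e ((0 : F) • z) μ (hS 0 μ h) := by
    rintro g ⟨μ, hμ, rfl⟩
    have h : μ + μ ^ q + 0 * 0 ^ q = 0 := by rw [zero_mul, add_zero]; exact hμ
    exact ⟨μ, hμ, h, siegel_congr hF _ _ rfl (by rw [zero_smul]) rfl⟩
  have hmemU : ∀ (x μ : F) (h : μ + μ ^ q + x * x ^ q = 0), siegel hF e (x • z) μ (hS x μ h) ∈ siegG hF e H.ee :=
    fun x μ h => ⟨_, _, _, rfl⟩
  have hmemZ : ∀ (μ : F) (h : μ + μ ^ q + 0 * 0 ^ q = 0),
      siegel hF e ((0 : F) • z) μ (hS 0 μ h) ∈ transvG hF e H.ee := by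
    intro μ h
    refine ⟨μ, by rw [zero_mul, add_zero] at h; exact h, ?_⟩
    exact siegel_congr hF _ _ rfl (by rw [zero_smul]) rfl
  have hinj : ∀ (x μ x' μ' : F) (h : μ + μ ^ q + x * x ^ q = 0) (h' : μ' + μ' ^ q + x' * x' ^ q = 0),
      siegel hF e (x • z) μ (hS x μ h) = siegel hF e (x' • z) μ' (hS x' μ' h') → x = x' ∧ μ = μ' := by
    intro x μ x' μ' h h' heq
    obtain ⟨h1, h2⟩ := siegel_inj hF H (Submodule.smul_mem _ _ hzm) (Submodule.smul_mem _ _ hzm) _ _ heq
    refine ⟨?_, h2⟩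
    have h4 : (x - x') • z = 0 := by rw [sub_smul, h1, sub_self]
    rcases smul_eq_zero.1 h4 with h5 | h5
    · exact sub_eq_zero.1 h5
    · exfalso
      rw [h5, herm_zero_left] at hzz
      exact zero_ne_one hzz
  -- the norm of `t ^ q / t`
  have hb1 : ∀ i : ℕ, (((t : F) ^ q * (t : F)⁻¹) ^ i) * (((t : F) ^ q * (t : F)⁻¹) ^ i) ^ q = 1 := by
    intro i
    have h0 : (t : F) ^ q ≠ 0 := pow_ne_zero _ ht0
    have h1 : ((t : F) ^ q * (t : F)⁻¹) ^ q = (t : F) * ((t : F) ^ q)⁻¹ := by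
      rw [mul_pow, pow_q_pow_q hF, inv_pow]
    rw [← pow_mul, mul_comm i q, pow_mul, ← mul_pow, h1]
    rw [show (t : F) ^ q * (t : F)⁻¹ * ((t : F) * ((t : F) ^ q)⁻¹) = 1 by field_simp, one_pow]
  have hbi : ∀ i : ℕ, ∃ h : True, ((t : F) ^ i) ^ q * (((t : F) ^ q * (t : F)⁻¹) ^ i) = (t : F) ^ ((2 * q - 1) * i) := by
    intro i
    refine ⟨trivial, ?_⟩
    have h1 : (t : F) ^ q * (t : F)⁻¹ = (t : F) ^ (q - 1) := by
      rw [pow_sub₀ _ ht0 (by omega : 1 ≤ q), pow_one]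
    rw [h1, ← pow_mul, ← pow_mul, ← pow_add]
    congr 1
    have : 2 * q - 1 = q + (q - 1) := by omega
    rw [this]; ring
  have hconji := fun i : ℕ => hconj (l ^ i) _ _ (hpe i) (hpz i) (hb1 i)
  have hpowq : ∀ i : ℕ, q - 1 ∣ i → (t : F) ^ i * ((t : F) ^ i) ^ q = 1 := by
    rintro i ⟨j, rfl⟩
    rw [← pow_succ', ← pow_mul]
    have : (q - 1) * j * (q + 1) = (q ^ 2 - 1) * j := by
      have e1 : q ^ 2 - 1 = (q + 1) * (q - 1) := by
        obtain ⟨s, rfl⟩ : ∃ s, q = s + 1 := ⟨q - 1, by omega⟩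
        have : (s + 1) ^ 2 = (s + 1 + 1) * (s + 1 - 1) + 1 := by
          rw [Nat.add_sub_cancel]; ring
        omega
      rw [e1]; ring
    rw [this, pow_mul, htq, one_pow]
  refine ⟨siegG hF e H.ee, transvG hF e H.ee, l, isPGroup_siegG hF p H.ee, transvG_le_siegG hF H.ee, hlord,
    ?_, ?_, ?_, ?_, ?_, ?_, ?_, ?_⟩
  · intro a
    constructor
    · intro ha
      obtain ⟨x, μ, h, rfl⟩ := hform a ha
      have h1 := hconji 1 x μ h
      rw [pow_one l] at h1
      obtain ⟨h', h1⟩ := h1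
      rw [h1]
      exact hmemU _ _ h'
    · intro ha
      obtain ⟨x, μ, h, hx⟩ := hform _ ha
      have h1 := hconji (q ^ 2 - 2) x μ h
      obtain ⟨h', h1⟩ := h1
      have h2 : l ^ (q ^ 2 - 2) = l⁻¹ := by
        rw [eq_inv_iff_mul_eq_one, ← pow_succ]
        have : 4 ≤ q ^ 2 := by nlinarith
        rw [show q ^ 2 - 2 + 1 = q ^ 2 - 1 by omega, hlone]
      rw [← hx, h2] at h1
      have h4 : l⁻¹ * (l * a * l⁻¹) * l⁻¹⁻¹ = a := by group
      rw [h4] at h1
      rw [h1]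
      exact hmemU _ _ h'
  · intro a ha
    obtain ⟨μ, hμ, h, rfl⟩ := hformZ a ha
    have h1 := hconji 1 0 μ h
    rw [pow_one l] at h1
    obtain ⟨h', h1⟩ := h1
    rw [h1]
    simp only [mul_zero] at h' ⊢
    exact hmemZ _ h'
  · intro i hi
    -- `x = 1`
    obtain ⟨μ, hμ⟩ := exists_trace_eq hF (c := -1) (by rw [neg_pow_q hF, one_pow])
    have h : μ + μ ^ q + 1 * 1 ^ q = 0 := by rw [hμ, one_pow]; ring
    have h1 := hi _ (hmemU 1 μ h)
    obtain ⟨h', h2⟩ := hconji i 1 μ h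
    rw [h1, mul_inv_cancel_right] at h2
    obtain ⟨h4, -⟩ := hinj _ _ _ _ h h' h2
    obtain ⟨-, h5⟩ := hbi i
    rw [h5, mul_one] at h4
    have h6 := hti _ h4.symm
    have h7 : q ^ 2 - 1 ∣ i := (gcd_aux hq2 h3).symm.dvd_of_dvd_mul_left h6
    rw [← hlord] at h7
    exact orderOf_dvd_iff_pow_eq_one.1 h7
  · intro i a ha ha1 hcomm
    obtain ⟨μ, hμ, h, rfl⟩ := hformZ a ha
    obtain ⟨h', h2⟩ := hconji i 0 μ h
    rw [hcomm, mul_inv_cancel_right] at h2
    obtain ⟨-, h4⟩ := hinj _ _ _ _ h h' h2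
    have hμ0 : μ ≠ 0 := by
      rintro rfl
      apply ha1
      have h5 : IsSiegel q e 0 (0 : F) := IsSiegel.zero hF H.ee
      rw [siegel_congr hF _ h5 rfl (by rw [zero_smul]) rfl, siegel_zero]
    have h5 : (t : F) ^ i * ((t : F) ^ i) ^ q = 1 := by
      apply mul_right_cancel₀ hμ0
      rw [one_mul]; exact h4.symm
    rw [← pow_succ', ← pow_mul] at h5
    have h6 := hti _ h5
    have e1 : q ^ 2 - 1 = (q + 1) * (q - 1) := by
      obtain ⟨s, rfl⟩ : ∃ s, q = s + 1 := ⟨q - 1, by omega⟩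
      have : (s + 1) ^ 2 = (s + 1 + 1) * (s + 1 - 1) + 1 := by
        rw [Nat.add_sub_cancel]; ring
      omega
    rw [e1, mul_comm i] at h6
    exact Nat.dvd_of_mul_dvd_mul_left (by omega) h6
  · intro i hi a ha
    obtain ⟨μ, hμ, h, rfl⟩ := hformZ a ha
    obtain ⟨h', h2⟩ := hconji i 0 μ h
    have h4 : siegel hF e ((((t : F) ^ i) ^ q * (((t : F) ^ q * (t : F)⁻¹) ^ i) * 0) • z)
        ((t : F) ^ i * ((t : F) ^ i) ^ q * μ) (hS _ _ h') = siegel hF e ((0 : F) • z) μ (hS 0 μ h) := by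
      apply siegel_congr
      · rfl
      · rw [mul_zero]
      · rw [hpowq i hi, one_mul]
    rw [h4] at h2
    exact mul_inv_eq_iff_eq_mul.1 h2
  · obtain ⟨μ, hμ0, hμ⟩ := exists_trace_zero_ne hF
    have h : μ + μ ^ q + 0 * 0 ^ q = 0 := by rw [zero_mul, add_zero]; exact hμ
    refine ⟨_, hmemZ μ h, ?_⟩
    intro h1
    have h0 : (0 : F) + 0 ^ q + 0 * 0 ^ q = 0 := by rw [zero_pow_q hF]; ring
    have h2 : siegel hF e ((0 : F) • z) μ (hS 0 μ h) = siegel hF e ((0 : F) • z) 0 (hS 0 0 h0) := by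
      rw [h1]
      have h5 : IsSiegel q e 0 (0 : F) := IsSiegel.zero hF H.ee
      rw [siegel_congr hF (hS 0 0 h0) h5 rfl (by rw [zero_smul]) rfl, siegel_zero]
    exact hμ0 (hinj 0 μ 0 0 h h0 h2).2
  · intro u hu a ha
    obtain ⟨x, μ, h, rfl⟩ := hform u hu
    obtain ⟨ν, hν, h', rfl⟩ := hformZ a ha
    rw [siegel_mul, siegel_mul]
    apply siegel_congr
    · rfl
    · rw [add_comm]
    · rw [zero_smul, herm_zero_left, herm_zero_right hF]
      ring
  · -- the commutator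
    set m := (q ^ 2 - 1) / 2 with hm
    have h2m : 2 * m = q ^ 2 - 1 := by
      obtain ⟨k, hk⟩ := hodd
      have h1 : q ^ 2 - 1 = 2 * (2 * k ^ 2 + 2 * k) := by
        rw [hk]
        have : (2 * k + 1) ^ 2 = 2 * (2 * k ^ 2 + 2 * k) + 1 := by ring
        omega
      rw [hm, h1, Nat.mul_div_cancel_left _ (by norm_num)]
    have hqm : q - 1 ∣ m := by
      obtain ⟨k, hk⟩ := hodd
      refine ⟨k + 1, ?_⟩
      have h1 : q ^ 2 - 1 = 2 * ((q - 1) * (k + 1)) := by
        rw [hk]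
        have h5 : (2 * k + 1) ^ 2 = 2 * ((2 * k) * (k + 1)) + 1 := by ring
        have h6 : 2 * k + 1 - 1 = 2 * k := by omega
        rw [h6]; omega
      omega
    have htm : (t : F) ^ m = -1 := by
      have h1 : ((t : F) ^ m) * ((t : F) ^ m) = 1 := by
        rw [← pow_add, ← two_mul, h2m, htq]
      rcases mul_self_eq_one_iff.1 h1 with h | h
      · exfalso
        have h4 := hti _ h
        have h5 : 0 < m := by
          have : 4 ≤ q ^ 2 := by nlinarith
          omega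
        have h6 := Nat.le_of_dvd h5 h4
        omega
      · exact h
    obtain ⟨y, hy⟩ := exists_not_fixed hF
    obtain ⟨μ, hμ⟩ := exists_trace_eq hF (c := -1) (by rw [neg_pow_q hF, one_pow])
    obtain ⟨ν, hν⟩ := exists_trace_eq hF (c := -(y * y ^ q)) (by rw [neg_pow_q hF, norm_pow_q hF])
    have h1 : μ + μ ^ q + 1 * 1 ^ q = 0 := by rw [hμ, one_pow]; ring
    have h2 : ν + ν ^ q + y * y ^ q = 0 := by rw [hν]; ring
    refine ⟨_, hmemU 1 μ h1, _, hmemU y ν h2, ?_⟩
    obtain ⟨h', h4⟩ := hconji m 1 μ h1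
    obtain ⟨-, h5⟩ := hbi m
    have h6 : ((t : F) ^ m) ^ q * (((t : F) ^ q * (t : F)⁻¹) ^ m) * 1 = -1 := by
      have h7 : (t : F) ^ q * (t : F)⁻¹ = (t : F) ^ (q - 1) := by
        rw [pow_sub₀ _ ht0 (by omega : 1 ≤ q), pow_one]
      rw [h7, ← pow_mul (t : F) (q - 1) m, mul_comm (q - 1) m, pow_mul, htm]
      have h8 : Even (q - 1) := by
        obtain ⟨k, hk⟩ := hodd
        exact ⟨k, by omega⟩
      rw [hodd.neg_one_pow, h8.neg_one_pow]; ring
    have h7 : (t : F) ^ m * ((t : F) ^ m) ^ q * μ = μ := by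
      rw [htm, hodd.neg_one_pow]; ring
    have h8 : μ + μ ^ q + (-1 : F) * (-1) ^ q = 0 := by
      rw [hodd.neg_one_pow, hμ]; ring
    have h9 : l ^ m * siegel hF e ((1 : F) • z) μ (hS 1 μ h1) * (l ^ m)⁻¹ =
        siegel hF e ((-1 : F) • z) μ (hS (-1) μ h8) := by
      rw [h4]
      exact siegel_congr hF _ _ rfl (by rw [h6]) h7
    rw [h9]
    -- `[s, u]`
    have h10 : ∃ (κ : F) (hκ : κ + κ ^ q + (-2 : F) * (-2) ^ q = 0),
        siegel hF e ((-1 : F) • z) μ (hS (-1) μ h8) * (siegel hF e ((1 : F) • z) μ (hS 1 μ h1))⁻¹ =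
          siegel hF e ((-2 : F) • z) κ (hS (-2) κ hκ) := by
      rw [siegel_inv, siegel_mul]
      have e1 : (-1 : F) • z + -((1 : F) • z) = (-2 : F) • z := by
        rw [← neg_smul, ← add_smul]; norm_num
      set κ := μ + μ ^ q - hermForm 3 F q (-((1 : F) • z)) ((-1 : F) • z) with hκd
      have hκs := IsSiegel.mul hF (hS (-1) μ h8) (IsSiegel.inv hF (hS 1 μ h1))
      rw [← hκd, e1] at hκs
      have hκ : κ + κ ^ q + (-2 : F) * (-2) ^ q = 0 := by
        have := hκs.tr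
        rwa [herm_smul_left, herm_smul_right, hzz, mul_one] at this
      exact ⟨κ, hκ, siegel_congr hF _ _ rfl e1 rfl⟩
    obtain ⟨κ, hκ, h11⟩ := h10
    rw [h11, siegel_comm hF (hS (-2) κ hκ) (hS y ν h2) (comm_trace hF _ _)]
    refine ⟨⟨_, _, rfl⟩, ?_⟩
    intro h12
    have h13 := congrArg (fun g => act g f) h12
    simp only [act_transv, act_one, frame_fe hF H, mul_one] at h13
    have h14 : (hermForm 3 F q ((-2 : F) • z) (y • z) - hermForm 3 F q (y • z) ((-2 : F) • z)) • e = 0 := by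
      have := congrArg (fun v => v - f) h13
      simpa using this
    rcases smul_eq_zero.1 h14 with h15 | h15
    · rw [herm_smul_left, herm_smul_right, herm_smul_left, herm_smul_right, hzz] at h15
      have h16 : (-2 : F) ^ q = -2 := by
        have h17 : (2 : F) ^ q = 2 := by
          have h18 : ((1 : F) + 1) ^ q = 1 + 1 := by rw [add_pow_q hF, one_pow]
          norm_num at h18
          exact h18
        rw [neg_pow_q hF, h17]
      rw [h16] at h15
      apply hy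
      have h17 : (2 : F) * (y ^ q - y) = 0 := by linear_combination -h15
      rcases mul_eq_zero.1 h17 with h18 | h18
      · exact absurd h18 hne2
      · exact sub_eq_zero.1 h18
    · exact he0 h15

end

end Cfsg.Agent.H127.U3
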