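import Cfsg.Agent.ClassicalGeometry.PSUAutBasic
import Cfsg.Agent.H375.Cover

/-!
# Quaternion groups in `SU₃(q)`, `q ≡ 1 mod 4` (helper127)
-/

set_option autoImplicit false

namespace Cfsg.Agent.H127.U3

open Cfsg Cfsg.Agent.LieClassical.HermBasic Cfsg.Agent.LieClassical.HermSiegel
  Cfsg.Agent.LieClassical.SUBasic Matrix Cfsg.Agent.H375.Cover

theorem _root_.Cfsg.Agent.H375.Cover.FourSq.map {L L' : Type*} [Group L] [Group L'] {z : L} (h : FourSq z)
    (f : L →* L') (hf : Function.Injective f) : FourSq (f z) := by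
  obtain ⟨x, y, h1, h2, h3, h4, h5⟩ := h
  exact ⟨f x, f y, by rw [orderOf_injective f hf, h1], by rw [orderOf_injective f hf, h2],
    by rw [← map_mul, orderOf_injective f hf, h3], by rw [← map_pow, h4], by rw [← map_pow, h5]⟩

theorem _root_.Cfsg.Agent.H375.Cover.FourSq.conj {L : Type*} [Group L] {z : L} (h : FourSq z) (g : L) :
    FourSq (g * z * g⁻¹) :=
  h.map (MulAut.conj g).toMonoidHom (MulAut.conj g).injective

section
variable {F : Type*} [Field F] [Fintype F] {q : ℕ}

theorem orderOf_four {G : Type*} [Group G] {x z : G} (h1 : x * x = z) (h2 : z * z = 1) (h3 : z ≠ 1) :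
    orderOf x = 4 := by
  have : orderOf x = 2 ^ (1 + 1) := by
    apply orderOf_eq_prime_pow
    · rw [pow_one, pow_two, h1]; exact h3
    · rw [show 2 ^ (1 + 1) = 2 * 2 by norm_num, pow_mul, pow_two x, h1, pow_two, h2]
  rw [this]; norm_num

theorem fourSq_SU (hF : Fintype.card F = q ^ 2) (hq : q % 4 = 1) :
    ∃ z₁ z₂ : SU 3 F q, FourSq z₁ ∧ FourSq z₂ ∧ FourSq (z₁ * z₂) := by
  have hodd : Odd q := Nat.odd_iff.2 (by omega)
  have hq2 := two_le hF
  have hq0 : q ≠ 0 := by omega
  have h0q : (0 : F) ^ q = 0 := zero_pow hq0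
  have hm1 : (-1 : F) ^ q = -1 := hodd.neg_one_pow
  have hne2 : (2 : F) ≠ 0 := by
    intro h0
    have : CharP F 2 := CharTwo.of_one_ne_zero_of_two_eq_zero one_ne_zero h0
    obtain ⟨k, -, hk⟩ := FiniteField.card F 2
    have h1 : Odd (Fintype.card F) := by rw [hF]; exact hodd.pow
    rw [hk] at h1
    exact Nat.not_odd_iff_even.2 ((Nat.even_pow.2 ⟨even_two, k.ne_zero⟩)) h1
  have h11 : (-1 : F) ≠ 1 := by
    intro h
    apply hne2
    linear_combination -h
  -- a square root of `-1` in the fixed field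
  obtain ⟨ι, hι⟩ : ∃ ι : F, ι * ι = -1 := by
    have h1 : IsSquare (-1 : F) := by
      rw [FiniteField.isSquare_neg_one_iff, hF]
      obtain ⟨k, hk⟩ : ∃ k, q = 4 * k + 1 := ⟨q / 4, by omega⟩
      rw [hk]
      have : (4 * k + 1) ^ 2 = 4 * (4 * k ^ 2 + 2 * k) + 1 := by ring
      omega
    obtain ⟨ι, h⟩ := h1
    exact ⟨ι, h.symm⟩
  have hι0 : ι ≠ 0 := by
    rintro rfl
    rw [mul_zero] at hι
    exact one_ne_zero (neg_eq_zero.1 hι.symm)
  have hιq : ι ^ q = ι := by
    obtain ⟨k, hk⟩ : ∃ k, q = 4 * k + 1 := ⟨q / 4, by omega⟩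
    have h4 : ι ^ 4 = 1 := by
      calc ι ^ 4 = (ι * ι) * (ι * ι) := by ring
        _ = 1 := by rw [hι]; ring
    rw [hk, pow_succ, pow_mul, h4, one_pow, one_mul]
  obtain ⟨ε, hε0, hε⟩ := exists_trace_zero_ne hF
  have hεq : ε ^ q = -ε := by linear_combination hε
  have h2q : (2 : F) ^ q = 2 := by
    have h18 : ((1 : F) + 1) ^ q = 1 + 1 := by rw [add_pow_q hF, one_pow]
    norm_num at h18
    exact h18
  set a : F := (ε - ε⁻¹) / 2 with ha
  set b : F := (ε + ε⁻¹) / (2 * ι) with hb
  have haq : a ^ q = -a := by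
    rw [ha, div_pow, sub_pow_q hF, inv_pow, hεq, h2q]
    field_simp
    ring
  have hbq : b ^ q = -b := by
    rw [hb, div_pow, add_pow_q hF, inv_pow, hεq, mul_pow, h2q, hιq]
    field_simp
    ring
  have hab : a * a + b * b = -1 := by
    have h1 : (2 * ι) * (2 * ι) = -4 := by linear_combination 4 * hι
    have h4 : (4 : F) ≠ 0 := by
      have : (4 : F) = 2 * 2 := by norm_num
      rw [this]; exact mul_ne_zero hne2 hne2
    have h2 : b * b = (ε + ε⁻¹) * (ε + ε⁻¹) / (-4) := by
      rw [hb, div_mul_div_comm, h1]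
    rw [h2, ha]
    field_simp
    ring
  -- the elements
  let X : SU 3 F q := mkSU !![0, 1, 0; -1, 0, 0; 0, 0, 1] (by simp [Matrix.det_fin_three]) (by
    intro u v
    simp only [herm_def, Fin.sum_univ_three, Matrix.mulVec, dotProduct, Matrix.of_apply, Matrix.cons_val', Matrix.cons_val_zero, Matrix.cons_val_one,
      Matrix.cons_val, zero_mul, one_mul, zero_add, add_zero, neg_mul]
    rw [neg_pow_q hF]; ring)
  let Y : SU 3 F q := mkSU !![a, b, 0; b, -a, 0; 0, 0, 1] (by
      simp [Matrix.det_fin_three]; linear_combination -hab) (by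
    intro u v
    simp only [herm_def, Fin.sum_univ_three, Matrix.mulVec, dotProduct, Matrix.of_apply, Matrix.cons_val', Matrix.cons_val_zero, Matrix.cons_val_one,
      Matrix.cons_val, zero_mul, one_mul, zero_add, add_zero, neg_mul]
    rw [add_pow_q hF, add_pow_q hF, mul_pow, mul_pow, mul_pow, neg_pow_q hF, mul_pow, haq, hbq]
    linear_combination (-(u 0 * v 0 ^ q) - u 1 * v 1 ^ q) * hab)
  let P : SU 3 F q := mkSU !![0, 1, 0; 0, 0, 1; 1, 0, 0] (by simp [Matrix.det_fin_three]) (by
    intro u v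
    simp only [herm_def, Fin.sum_univ_three, Matrix.mulVec, dotProduct, Matrix.of_apply, Matrix.cons_val', Matrix.cons_val_zero, Matrix.cons_val_one,
      Matrix.cons_val, zero_mul, one_mul, zero_add, add_zero, neg_mul]
    ring)
  have mX : mat X = !![0, 1, 0; -1, 0, 0; 0, 0, 1] := mat_mkSU _ _ _
  have mY : mat Y = !![a, b, 0; b, -a, 0; 0, 0, 1] := mat_mkSU _ _ _
  have mP : mat P = !![0, 1, 0; 0, 0, 1; 1, 0, 0] := mat_mkSU _ _ _
  have hXX : mat (X * X) = !![-1, 0, 0; 0, -1, 0; 0, 0, 1] := by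
    rw [mat_mul, mX]
    ext i j
    fin_cases i <;> fin_cases j <;> simp [Matrix.mul_apply, Fin.sum_univ_three]
  have hYY : X * X = Y * Y := by
    apply mat_injective
    rw [hXX, mat_mul, mY]
    ext i j
    fin_cases i <;> fin_cases j <;> simp [Matrix.mul_apply, Fin.sum_univ_three] <;>
      first
        | linear_combination -hab
        | ring
  have hXY : X * X = (X * Y) * (X * Y) := by
    apply mat_injective
    rw [hXX, mat_mul, mat_mul, mX, mY]
    ext i j
    fin_cases i <;> fin_cases j <;> simp [Matrix.mul_apply, Fin.sum_univ_three] <;>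
      first
        | linear_combination -hab
        | ring
  have hzz : (X * X) * (X * X) = 1 := by
    apply mat_injective
    rw [mat_mul, hXX, mat_one]
    ext i j
    fin_cases i <;> fin_cases j <;> simp [Matrix.mul_apply, Fin.sum_univ_three]
  have hz1 : X * X ≠ 1 := by
    intro h
    have h1 := congrArg (fun g => mat g 0 0) h
    simp only [hXX, mat_one] at h1
    simp at h1
    exact h11 h1
  have hfour : FourSq (X * X) := ⟨X, Y, orderOf_four rfl hzz hz1, orderOf_four hYY.symm hzz hz1,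
    orderOf_four hXY.symm hzz hz1, pow_two X, by rw [pow_two, hYY]⟩
  refine ⟨X * X, P * (X * X) * P⁻¹, hfour, hfour.conj P, ?_⟩
  have h3 : (X * X) * (P * (X * X) * P⁻¹) = P⁻¹ * (X * X) * P⁻¹⁻¹ := by
    have h4 : P * ((X * X) * (P * (X * X))) = (X * X) * P * P := by
      apply mat_injective
      simp only [mat_mul P, mat_mul (X * X), mat_mul ((X * X) * P), hXX, mP]
      ext i j
      fin_cases i <;> fin_cases j <;> simp [Matrix.mul_apply, Fin.sum_univ_three]
    rw [inv_inv]
    calc (X * X) * (P * (X * X) * P⁻¹) = P⁻¹ * (P * ((X * X) * (P * (X * X)))) * P⁻¹ := by group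
      _ = P⁻¹ * ((X * X) * P * P) * P⁻¹ := by rw [h4]
      _ = _ := by group
  rw [h3]
  exact hfour.conj _

end

end Cfsg.Agent.H127.U3
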