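import Cfsg.Agent.H127.CovNorm
import Cfsg.Agent.H127.U3Borel
import Cfsg.Agent.H127.U3Four
import Cfsg.Agent.H127.PSUThreeEx
import Cfsg.Agent.H375.Reduce
import Cfsg.Agent.S0283

/-!
# Covers of `PSU₃(q)`, `q ≡ 1, 9 mod 12`, with the same element orders (helper127)
-/

set_option autoImplicit false

namespace Cfsg.Agent.H127.U3

open Cfsg Cfsg.Agent.H127.Cov Cfsg.Agent.H371.Frob

section
variable {G : Type*} [Group G] [Finite G]

/-- **Elements of order `e ^ (k + 1)`**, `e ^ k ∥ q² - 1`. -/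
theorem exists_prime_pow_order (V : Subgroup G) [V.Normal] (hV : IsMulCommutative V) {e p q : ℕ} (he : e.Prime)
    (hp : p.Prime) (hp2 : p ≠ 2) (hpe : p ≠ e) (hq : q % 4 = 1) (hq1 : 2 ≤ q) (heq : e ∣ q ^ 2 - 1)
    (hVe : ∀ v ∈ V, v ^ e = 1)
    (hB : BorelP (G ⧸ V) p q) (hθ : ∀ a : G ⧸ V, quotAct V hV a = 1 → a = 1) :
    ∃ (y : G) (k : ℕ), ¬ e ^ (k + 1) ∣ q ^ 2 - 1 ∧ orderOf y = e ^ (k + 1) := by
  have hfe : Fact e.Prime := ⟨he⟩
  have hfp : Fact p.Prime := ⟨hp⟩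
  have h12 := sq_sub_one q (by omega)
  have hN0 : q ^ 2 - 1 ≠ 0 := by
    rw [h12]
    exact Nat.mul_ne_zero (by omega) (by omega)
  obtain ⟨k, m, hm, hkm⟩ := Nat.exists_eq_pow_mul_and_not_dvd hN0 e he.ne_one
  have hm0 : m ≠ 0 := by rintro rfl; exact hm (dvd_zero _)
  have hk1 : 1 ≤ k := by
    rcases Nat.eq_zero_or_pos k with h | h
    · exfalso
      rw [h, pow_zero, one_mul] at hkm
      rw [hkm] at heq
      exact hm heq
    · exact h
  have hnot : ¬ e ^ (k + 1) ∣ q ^ 2 - 1 := by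
    rw [hkm, pow_succ]
    intro h
    exact hm (Nat.dvd_of_mul_dvd_mul_left (pow_pos he.pos k) h)
  obtain ⟨U, Z, c, hU, hZU, hc, hcU, hcZ, hfaith, hZfix, hZcomm, ⟨z, hz, hz1⟩, hUZ, u, hu, w, hw, hzz, hzz1⟩ := hB
  have hZp : IsPGroup p Z := hU.to_le hZU
  have hZcard : (Nat.card Z).Coprime e := by
    obtain ⟨j, hj⟩ := IsPGroup.iff_card.1 hZp
    rw [hj]
    exact Nat.Coprime.pow_left _ ((Nat.coprime_primes hp he).2 hpe)
  have hce : orderOf (c ^ m) = e ^ k := by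
    rw [orderOf_pow_of_dvd hm0 (by rw [hc, hkm]; exact Dvd.intro_left _ rfl), hc, hkm,
      Nat.mul_div_cancel _ (Nat.pos_of_ne_zero hm0)]
  have hcUi : ∀ j : ℕ, ∀ a, a ∈ U ↔ c ^ j * a * (c ^ j)⁻¹ ∈ U := by
    intro j
    induction j with
    | zero => intro a; simp
    | succ j ih =>
      intro a
      rw [ih a, hcU (c ^ j * a * (c ^ j)⁻¹)]
      have : c * (c ^ j * a * (c ^ j)⁻¹) * c⁻¹ = c ^ (j + 1) * a * (c ^ (j + 1))⁻¹ := by
        rw [pow_succ' c j]; group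
      rw [this]
  have hcZi : ∀ j : ℕ, ∀ a ∈ Z, c ^ j * a * (c ^ j)⁻¹ ∈ Z := by
    intro j
    induction j with
    | zero => intro a ha; simpa using ha
    | succ j ih =>
      intro a ha
      have := hcZ _ (ih a ha)
      have h2 : c * (c ^ j * a * (c ^ j)⁻¹) * c⁻¹ = c ^ (j + 1) * a * (c ^ (j + 1))⁻¹ := by
        rw [pow_succ' c j]; group
      rwa [h2] at this
  by_cases he2 : e = 2
  · -- `e = 2`
    subst he2
    obtain ⟨t, ht⟩ : ∃ t, q = 4 * t + 1 := ⟨q / 4, by omega⟩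
    -- `2 ^ (k - 1) ∣ q - 1`
    obtain ⟨j, hj⟩ : ∃ j, k = j + 1 := ⟨k - 1, by omega⟩
    have hjq : 2 ^ j ∣ q - 1 := by
      have h1 : 2 ^ (j + 1) ∣ (q + 1) * (q - 1) := by rw [← h12, hkm, hj]; exact Dvd.intro _ rfl
      have h2 : (q + 1) * (q - 1) = 2 * ((2 * t + 1) * (q - 1)) := by
        rw [show q + 1 = 2 * (2 * t + 1) by omega]; ring
      rw [h2, pow_succ'] at h1
      have h3 := Nat.dvd_of_mul_dvd_mul_left (by norm_num : 0 < 2) h1
      have h4 : Nat.Coprime (2 ^ j) (2 * t + 1) :=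
        Nat.Coprime.pow_left _ ((Nat.Prime.coprime_iff_not_dvd Nat.prime_two).2 (by omega))
      exact h4.dvd_of_dvd_mul_left h3
    have hmcop : Nat.Coprime (2 ^ j) m := Nat.Coprime.pow_left _ ((Nat.Prime.coprime_iff_not_dvd he).2 hm)
    have hhalf : m * 2 ^ j = (q ^ 2 - 1) / 2 := by
      rw [hkm, hj, pow_succ, show 2 ^ j * 2 * m = 2 * (m * 2 ^ j) by ring,
        Nat.mul_div_cancel_left _ (by norm_num)]
    have hhq : q - 1 ∣ (q ^ 2 - 1) / 2 := by
      rw [h12, show q + 1 = 2 * (2 * t + 1) by omega, mul_assoc, Nat.mul_div_cancel_left _ (by norm_num)]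
      exact Dvd.intro_left _ rfl
    have hpw : (c ^ m) ^ 2 ^ j = c ^ ((q ^ 2 - 1) / 2) := by rw [← pow_mul, hhalf]
    obtain ⟨y, hy⟩ := two_cover V hV hVe Z (c := c ^ m) (m := 2 ^ j) (by positivity)
      (by rw [hce, hj, pow_succ']) (hcZi m) (by
        intro i hi him a ha hcomm
        by_contra ha1
        rw [← pow_mul] at hcomm
        have h1 := hZfix (m * i) a ha ha1 hcomm
        have h2 : 2 ^ j ∣ i := hmcop.dvd_of_dvd_mul_left (hjq.trans h1)
        have := Nat.le_of_dvd hi h2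
        omega) (by
        intro a ha
        rw [hpw]
        exact hZcomm _ hhq a ha) hZcard u w (hUZ u hu) (hUZ w hw) (by rw [hpw]; exact hzz) (by
        rw [hpw]
        intro h
        exact hzz1 (hθ _ h))
    exact ⟨y, k, hnot, by rw [hy, hj]; ring⟩
  · by_cases hq1 : e ∣ q + 1
    · -- Hall-Higman
      obtain ⟨y, hy⟩ := hhb_cover V hV he hp hpe hp2 he2 hVe U hU (c := c ^ m) (hcUi m) (fun a _ => hθ a)
        hk1 hce (by
          by_contra hcon
          push Not at hcon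
          have h1 := hfaith (m * e ^ (k - 1)) (by
            intro a ha
            rw [pow_mul]
            exact hcon a ha)
          rw [pow_mul] at h1
          have h2 := orderOf_dvd_of_pow_eq_one h1
          rw [hce] at h2
          have h3 := (Nat.pow_dvd_pow_iff_le_right he.one_lt).1 h2
          omega)
      exact ⟨y, k, hnot, by rw [hy, pow_succ]⟩
    · -- Frobenius
      have hcop : Nat.Coprime (e ^ k) (q + 1) := Nat.Coprime.pow_left _ ((Nat.Prime.coprime_iff_not_dvd he).2 hq1)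
      have hkq : e ^ k ∣ q - 1 := by
        have h1 : e ^ k ∣ (q + 1) * (q - 1) := by rw [← h12, hkm]; exact Dvd.intro _ rfl
        exact hcop.dvd_of_dvd_mul_left h1
      have hmcop : Nat.Coprime (e ^ k) m := Nat.Coprime.pow_left _ ((Nat.Prime.coprime_iff_not_dvd he).2 hm)
      obtain ⟨y, hy⟩ := exists_orderOf V hV he hVe Z (c := c ^ m) (hcZi m) (by
          intro i hi him a ha hcomm
          by_contra ha1
          rw [← pow_mul] at hcomm
          have h1 := hZfix (m * i) a ha ha1 hcomm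
          have h2 : e ^ k ∣ i := hmcop.dvd_of_dvd_mul_left (hkq.trans h1)
          rw [hce] at him
          have := Nat.le_of_dvd hi h2
          omega) hZcard (by
          by_contra hcon
          push Not at hcon
          apply hz1
          apply hθ
          obtain ⟨g, rfl⟩ := QuotientGroup.mk_surjective z
          have h1 := hcon g hz
          ext v
          rw [quotAct_mk, MulAut.one_apply, h1 v.1 v.2, mul_inv_cancel_right])
      exact ⟨y, k, hnot, by rw [hy, hce, pow_succ]⟩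

end

/-- the element orders of `PSU₃(q)`, `q` odd, `3 ∤ q + 1` -/
def Om (p q m : ℕ) : Prop := m ∣ q ^ 2 - q + 1 ∨ m ∣ q ^ 2 - 1 ∨ m ∣ p * (q + 1)

section num
variable {p q : ℕ}

theorem nn_eq (hq : 1 ≤ q) : ∃ t, q = t + 1 ∧ q ^ 2 - q + 1 = t * (t + 1) + 1 ∧ q ^ 2 - 1 = t * (t + 2) := by
  obtain ⟨t, rfl⟩ : ∃ t, q = t + 1 := ⟨q - 1, by omega⟩
  refine ⟨t, rfl, ?_, ?_⟩
  · have h : (t + 1) ^ 2 = t * (t + 1) + (t + 1) := by ring
    rw [h, Nat.add_sub_cancel]
  · have h : (t + 1) ^ 2 = t * (t + 2) + 1 := by ring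
    rw [h, Nat.add_sub_cancel]

theorem cop_sq (hq : 2 ≤ q) (h3 : ¬ 3 ∣ q + 1) : Nat.Coprime (q ^ 2 - q + 1) (q ^ 2 - 1) := by
  by_contra hc
  obtain ⟨r, hr, h1, h2⟩ := Nat.Prime.not_coprime_iff_dvd.mp hc
  obtain ⟨t, rfl, e1, e2⟩ := nn_eq (q := q) (by omega)
  rw [e1] at h1
  rw [e2] at h2
  rcases hr.dvd_mul.mp h2 with h | h
  · have h4 : r ∣ 1 := (Nat.dvd_add_right (h.mul_right (t + 1))).1 h1
    exact hr.one_lt.ne' (Nat.dvd_one.mp h4)
  · have h5 : r ∣ 3 := by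
      have h6 : t * (t + 1) + 1 + (t + 2) = t * (t + 2) + 3 := by ring
      have h7 : r ∣ t * (t + 2) + 3 := by rw [← h6]; exact Nat.dvd_add h1 h
      exact (Nat.dvd_add_right (h.mul_left t)).1 h7
    rw [(Nat.prime_dvd_prime_iff_eq hr Nat.prime_three).1 h5] at h
    exact h3 h

theorem cop_succ (hq : 2 ≤ q) (h3 : ¬ 3 ∣ q + 1) : Nat.Coprime (q ^ 2 - q + 1) (q + 1) := by
  apply Nat.Coprime.coprime_dvd_right _ (cop_sq hq h3)
  rw [sq_sub_one q (by omega)]
  exact Dvd.intro _ rfl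

theorem nn_odd (hq : 2 ≤ q) : Odd (q ^ 2 - q + 1) := by
  obtain ⟨t, rfl, e1, -⟩ := nn_eq (q := q) (by omega)
  rw [e1]
  exact (Nat.even_mul_succ_self t).add_one

theorem not_dvd_nn (hp : p.Prime) (hpq : p ∣ q) (hq : 2 ≤ q) : ¬ p ∣ q ^ 2 - q + 1 := by
  intro h
  have h1 : q ^ 2 - q = q * (q - 1) := by rw [Nat.mul_sub, pow_two, mul_one]
  rw [h1] at h
  exact hp.one_lt.ne' (Nat.dvd_one.mp ((Nat.dvd_add_right (hpq.mul_right _)).1 h))

theorem not_dvd_succ (hp : p.Prime) (hpq : p ∣ q) : ¬ p ∣ q + 1 := fun h =>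
  hp.one_lt.ne' (Nat.dvd_one.mp ((Nat.dvd_add_right hpq).1 h))

theorem not_dvd_sq (hp : p.Prime) (hpq : p ∣ q) (hq : 2 ≤ q) : ¬ p ∣ q ^ 2 - 1 := by
  intro h
  have h1 : p ∣ q ^ 2 := dvd_pow hpq (by norm_num)
  have h2 : 1 = q ^ 2 - (q ^ 2 - 1) := by
    have : 1 ≤ q ^ 2 := Nat.one_le_pow _ _ (by omega)
    omega
  have h3 : p ∣ 1 := by
    rw [h2]; exact Nat.dvd_sub h1 h
  exact hp.one_lt.ne' (Nat.dvd_one.mp h3)

/-- no multiples of `4 p` -/
theorem not_om_four_p (hp : p.Prime) (hpq : p ∣ q) (hq : 2 ≤ q) (h4 : q % 4 = 1) {m : ℕ} (hm : 4 * p ∣ m) : ¬ Om p q m := by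
  rintro (h | h | h)
  · exact not_dvd_nn hp hpq hq ((Dvd.intro_left _ rfl : p ∣ 4 * p).trans (hm.trans h))
  · exact not_dvd_sq hp hpq hq ((Dvd.intro_left _ rfl : p ∣ 4 * p).trans (hm.trans h))
  · have h1 : p * 4 ∣ p * (q + 1) := by rw [mul_comm p 4]; exact hm.trans h
    have h2 := Nat.dvd_of_mul_dvd_mul_left hp.pos h1
    omega

/-- primes dividing `q² - q + 1` are isolated -/
theorem om_nn (hp : p.Prime) (hpq : p ∣ q) (hq : 2 ≤ q) (h3 : ¬ 3 ∣ q + 1) {s m : ℕ} (hs : s.Prime)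
    (hsn : s ∣ q ^ 2 - q + 1) (hsm : s ∣ m) (h : Om p q m) : m ∣ q ^ 2 - q + 1 := by
  rcases h with h | h | h
  · exact h
  · exfalso
    exact hs.one_lt.ne' (Nat.dvd_one.mp (by
      rw [← cop_sq hq h3]; exact Nat.dvd_gcd hsn (hsm.trans h)))
  · exfalso
    rcases hs.dvd_mul.1 (hsm.trans h) with h1 | h1
    · rw [(Nat.prime_dvd_prime_iff_eq hs hp).1 h1] at hsn
      exact not_dvd_nn hp hpq hq hsn
    · exact hs.one_lt.ne' (Nat.dvd_one.mp (by
        rw [← cop_succ hq h3]; exact Nat.dvd_gcd hsn h1))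

end num

section cov
variable {X : Type*} [Group X] [Finite X] {F : Type*} [Field F] [Fintype F]

/-- for `3 ∤ q + 1`, `SU₃(q) = PSU₃(q)` -/
theorem nonempty_SU_equiv {q : ℕ} (hF : Fintype.card F = q ^ 2) (h3 : ¬ 3 ∣ q + 1) :
    Nonempty (SU 3 F q ≃* PSU 3 F q) := by
  refine ⟨MulEquiv.ofBijective (ClassicalGeometry.PSUAutBasic.pr 3 F q) ⟨?_, ClassicalGeometry.PSUAutBasic.pr_surjective⟩⟩
  rw [injective_iff_map_eq_one]
  intro a ha
  rw [ClassicalGeometry.PSUAutBasic.pr_eq_one_iff, LieClassical.SUBasic.mem_center_SU_iff hF le_rfl] at ha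
  obtain ⟨c, hc3, hcq, rfl⟩ := ha
  have hcop : Nat.Coprime 3 (q + 1) := (Nat.Prime.coprime_iff_not_dvd Nat.prime_three).2 h3
  have hc : c = 1 := by
    have h1 := pow_gcd_eq_one.2 ⟨hc3, hcq⟩
    rwa [hcop, pow_one] at h1
  subst hc
  apply LieClassical.HermSiegel.mat_injective
  rw [LieClassical.HermSiegel.mat_one]
  show ((LieClassical.SUBasic.suScalar q (1 : F) hc3 hcq : Matrix.SpecialLinearGroup (Fin 3) F) : Matrix (Fin 3) (Fin 3) F) = 1
  rw [LieClassical.SUBasic.coe_suScalar]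
  simp

/-- **Covers.** -/
theorem cover {p q : ℕ} [Fact p.Prime] [CharP F p] (hF : Fintype.card F = q ^ 2) (h4 : q % 4 = 1)
    (h3 : ¬ 3 ∣ q + 1) (hpq : p ∣ q) (π : X →* PSU 3 F q) (hπ : Function.Surjective π) {e : ℕ} (he : e.Prime)
    (hcomm : ∀ v w, π v = 1 → π w = 1 → v * w = w * v) (hexp : ∀ v, π v = 1 → v ^ e = 1)
    (hω : ∀ x : X, Om p q (orderOf x)) (v : X) (hv : π v = 1) : v = 1 := by
  have hp : p.Prime := Fact.out
  have hq2 := LieClassical.HermBasic.two_le hF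
  have hodd : Odd q := Nat.odd_iff.2 (by omega)
  have hp2 : p ≠ 2 := by
    rintro rfl
    exact Nat.not_odd_iff_even.2 (even_iff_two_dvd.2 hpq) hodd
  have hfe : Fact e.Prime := ⟨he⟩
  by_contra hv1
  have hve : orderOf v = e := orderOf_eq_prime (hexp v hv) hv1
  have hee := hω v
  rw [hve] at hee
  obtain ⟨E⟩ := nonempty_SU_equiv (F := F) hF h3
  -- `e = p` or `e ∣ q² - q + 1`
  have hA : (e = p ∨ e ∣ q ^ 2 - q + 1) → False := by
    intro h
    have he2 : e ≠ 2 := by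
      rintro rfl
      rcases h with h | h
      · exact hp2 h.symm
      · exact Nat.not_even_iff_odd.2 (nn_odd hq2) (even_iff_two_dvd.2 h)
    obtain ⟨z₁, z₂, h₁, h₂, h₁₂⟩ := fourSq_SU (F := F) hF h4
    have h₃ : H375.Cover.FourSq (E z₁ * E z₂) := by
      rw [← map_mul]; exact h₁₂.map E.toMonoidHom E.injective
    apply hv1
    refine H375.Cover.odd_cover π hπ hcomm he he2 hexp ?_ (E z₁) (E z₂)
      (h₁.map E.toMonoidHom E.injective) (h₂.map E.toMonoidHom E.injective) h₃ v hv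
    intro g hg
    have hog := hω g
    rcases h with h | h
    · rw [h] at hg
      exact not_om_four_p hp hpq hq2 h4 (dvd_of_eq hg.symm) hog
    · rw [hg] at hog
      have h5 := om_nn hp hpq hq2 h3 he h (Dvd.intro_left _ rfl) hog
      have h6 : 2 ∣ q ^ 2 - q + 1 := (by omega : 2 ∣ 4 * e).trans h5
      exact Nat.not_even_iff_odd.2 (nn_odd hq2) (even_iff_two_dvd.2 h6)
  by_cases hep : e = p
  · exact hA (Or.inl hep)
  have hesq : e ∣ q ^ 2 - 1 := by
    rcases hee with h | h | h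
    · exact (hA (Or.inr h)).elim
    · exact h
    · rcases he.dvd_mul.1 h with h5 | h5
      · exact absurd ((Nat.prime_dvd_prime_iff_eq he hp).1 h5) hep
      · rw [sq_sub_one q (by omega)]; exact h5.mul_right _
  -- the normal subgroup
  have hVc : IsMulCommutative π.ker := isMulCommutative_iff.2 fun a b => Subtype.ext (hcomm a b a.2 b.2)
  have hVe : ∀ v ∈ π.ker, v ^ e = 1 := fun v hv => hexp v hv
  let Q : X ⧸ π.ker ≃* PSU 3 F q := QuotientGroup.quotientKerEquivOfSurjective π hπ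
  have hsimp : IsSimpleGroup (PSU 3 F q) := Cfsg.Agent.S0283.result hF 3 le_rfl (by omega)
  have hsimpQ : IsSimpleGroup (X ⧸ π.ker) := Q.isSimpleGroup
  let θ := quotAct π.ker hVc
  rcases hsimpQ.eq_bot_or_eq_top_of_normal θ.ker inferInstance with hk | hk
  · -- faithful
    obtain ⟨y, k, h5, h6⟩ := exists_prime_pow_order π.ker hVc he hp hp2 (Ne.symm hep) h4 hq2 hesq hVe
      ((borel_SU hF hodd h3 p).congr (E.trans Q.symm)) (fun a ha => by
        have h7 : a ∈ θ.ker := ha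
        rwa [hk, Subgroup.mem_bot] at h7)
    have h7 := hω y
    rw [h6] at h7
    rcases h7 with h8 | h8 | h8
    · exact hA (Or.inr ((dvd_pow_self e (Nat.succ_ne_zero k)).trans h8))
    · exact h5 h8
    · have h9 : Nat.Coprime (e ^ (k + 1)) p := Nat.Coprime.pow_left _ ((Nat.coprime_primes he hp).2 hep)
      have h10 := h9.dvd_of_dvd_mul_left h8
      apply h5
      rw [sq_sub_one q (by omega)]
      exact h10.mul_right _
  · -- central
    have hcen : ∀ (g : X) (w : X), π w = 1 → g * w = w * g := by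
      intro g w hw
      have h5 : (g : X ⧸ π.ker) ∈ θ.ker := by rw [hk]; trivial
      have h6 : θ (g : X ⧸ π.ker) = 1 := h5
      have h7 := congrArg (fun f : MulAut π.ker => ((f ⟨w, hw⟩ : π.ker) : X)) h6
      simp only [MulAut.one_apply] at h7
      rw [show ((θ (g : X ⧸ π.ker) ⟨w, hw⟩ : π.ker) : X) = g * w * g⁻¹ from quotAct_mk _ _ _ _] at h7
      exact mul_inv_eq_iff_eq_mul.1 h7
    obtain ⟨s, hs, hsn⟩ := Nat.exists_prime_and_dvd (n := q ^ 2 - q + 1) (by
      obtain ⟨t, ht, e1, -⟩ := nn_eq (q := q) (by omega)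
      rw [e1]
      have : 1 ≤ t := by omega
      have : 0 < t * (t + 1) := by positivity
      omega)
    have hd : Nat.gcd 3 (q + 1) = 1 := (Nat.Prime.coprime_iff_not_dvd Nat.prime_three).2 h3
    obtain ⟨z, hz⟩ := Cfsg.Agent.H127.PSUThreeEx.ex_four p hF s (by rw [hd, Nat.div_one]; exact hsn)
    obtain ⟨g, hg⟩ := hπ z
    have h5 : s ∣ orderOf g := by rw [← hz, ← hg]; exact orderOf_map_dvd π g
    have hse : s ≠ e := by
      rintro rfl
      exact hA (Or.inr hsn)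
    obtain ⟨y, hy⟩ := H375.Reduce.exists_orderOf_mul ((Nat.coprime_primes hs he).2 hse)
      (show Commute g v from hcen g v hv) h5 (by rw [hve])
    have h6 := hω y
    rw [hy] at h6
    have h7 := om_nn hp hpq hq2 h3 hs hsn (Dvd.intro _ rfl) h6
    exact hA (Or.inr ((Dvd.intro_left _ rfl : e ∣ s * e).trans h7))

end cov

end Cfsg.Agent.H127.U3
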