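import Cfsg.Agent.CpAutU.Fixed
import Cfsg.Agent.ClassicalGeometry.PSUAutMain
import Cfsg.Agent.H127.U3Cov
import Cfsg.Agent.S0278
import Cfsg.Agent.H371.AlgLemma

/-!
# Almost simple groups with socle `PSU₃(q)`, `q ≡ 1, 9 mod 12`, and the element orders of `PSU₃(q)` (helper127)
-/

set_option autoImplicit false

namespace Cfsg.Agent.H127.U3

open Cfsg Cfsg.Agent.LieClassical.HermBasic Cfsg.Agent.LieClassical.HermSiegel
  Cfsg.Agent.LieClassical.HermGen Cfsg.Agent.LieClassical.SUBasic Matrix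
open Cfsg.Agent.ClassicalGeometry.PSUAutBasic (IsFrame transv act_transv transv_mul exists_card_eq)
open Cfsg.Agent.ClassicalGeometry.UnitAutBasic (pr pr_surjective)
open Cfsg.Agent.ClassicalGeometry.PSUAutCount (gm herm_gm semiConj toAut act_semiConj sc gm_sc_mul toAut_sc_mul)
open Cfsg.Agent.Schreier.PSU (f₁ f₂ toAut_eq f₁_eq_conj)
open Cfsg.Agent.CpAutU

section
variable {F : Type*} [Field F] [Fintype F] {q : ℕ}

/-- `GU₃(q) = SU₃(q) × Z`. -/
theorem exists_conj (hF : Fintype.card F = q ^ 2) (h3 : ¬ 3 ∣ q + 1) (A : GU 3 F q) :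
    ∃ B : PSU 3 F q, f₁ A = MulAut.conj B := by
  have hcop : Nat.Coprime 3 (q + 1) := (Nat.Prime.coprime_iff_not_dvd Nat.prime_three).2 h3
  set δ := (gm A).det with hδ
  have hδq : δ ^ (q + 1) = 1 :=
    ClassicalGeometry.GUBasic.det_pow hF ((ClassicalGeometry.GUBasic.mem_GU_iff _).1 A.2)
  -- a cube root of `δ⁻¹`
  obtain ⟨j, hj⟩ : ∃ j : ℕ, (3 * j + 1) % (q + 1) = 0 := by
    have h1 : (q + 1) % 3 = 1 ∨ (q + 1) % 3 = 2 := by omega
    rcases h1 with h1 | h1
    · refine ⟨q / 3 * 1, ?_⟩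
      have : 3 * (q / 3 * 1) + 1 = q + 1 := by omega
      rw [this, Nat.mod_self]
    · refine ⟨(2 * (q + 1) - 1) / 3, ?_⟩
      have : 3 * ((2 * (q + 1) - 1) / 3) + 1 = (q + 1) * 2 := by omega
      rw [this, Nat.mul_mod_right]
  obtain ⟨k, hk⟩ : q + 1 ∣ 3 * j + 1 := Nat.dvd_of_mod_eq_zero hj
  have hc1 : δ ^ j * (δ ^ j) ^ q = 1 := by
    rw [← pow_succ', ← pow_mul, mul_comm j, pow_mul, hδq, one_pow]
  let c : {c : F // c * c ^ q = 1} := ⟨δ ^ j, hc1⟩
  have hdet : (gm (sc 3 c * A)).det = 1 := by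
    rw [gm_sc_mul, Matrix.det_smul, Fintype.card_fin, ← hδ]
    show (δ ^ j) ^ 3 * δ = 1
    rw [← pow_mul, mul_comm j 3, ← pow_succ, hk, pow_mul, hδq, one_pow]
  let g : SU 3 F q := mkSU (gm (sc 3 c * A)) hdet (fun u v => herm_gm _ u v)
  refine ⟨pr 3 F q g, ?_⟩
  rw [← f₁_eq_conj (sc 3 c * A) g rfl]
  exact (toAut_sc_mul c A 1).symm

theorem exists_order_four (q : ℕ) (hF : Fintype.card F = q ^ 2) (hodd : Odd q) :
    ∃ y : SU 3 F q, orderOf y = 4 ∧ ∀ ρ : F ≃+* F, semiConj 1 ρ y = y := by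
  have hq2 := two_le hF
  have h0q : (0 : F) ^ q = 0 := zero_pow (by omega)
  have hm1 : (-1 : F) ^ q = -1 := hodd.neg_one_pow
  have hne2 : (2 : F) ≠ 0 := by
    intro h0
    have : CharP F 2 := CharTwo.of_one_ne_zero_of_two_eq_zero one_ne_zero h0
    obtain ⟨k, -, hk⟩ := FiniteField.card F 2
    have h1 : Odd (Fintype.card F) := by rw [hF]; exact hodd.pow
    rw [hk] at h1
    exact Nat.not_odd_iff_even.2 ((Nat.even_pow.2 ⟨even_two, k.ne_zero⟩)) h1
  have h11 : (-1 : F) ≠ 1 := by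
    intro h
    apply hne2
    linear_combination -h
  let X : SU 3 F q := mkSU !![0, 1, 0; -1, 0, 0; 0, 0, 1] (by simp [Matrix.det_fin_three]) (by
    intro u v
    simp only [herm_def, Fin.sum_univ_three, Matrix.mulVec, dotProduct, Matrix.of_apply, Matrix.cons_val', Matrix.cons_val_zero, Matrix.cons_val_one,
      Matrix.cons_val, zero_mul, one_mul, zero_add, add_zero, neg_mul]
    rw [neg_pow_q hF]; ring)
  have mX : mat X = !![0, 1, 0; -1, 0, 0; 0, 0, 1] := mat_mkSU _ _ _
  have hXX : mat (X * X) = !![-1, 0, 0; 0, -1, 0; 0, 0, 1] := by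
    rw [mat_mul, mX]
    ext i j
    fin_cases i <;> fin_cases j <;> simp [Matrix.mul_apply, Fin.sum_univ_three]
  have hzz : (X * X) * (X * X) = 1 := by
    apply mat_injective
    rw [mat_mul, hXX, mat_one]
    ext i j
    fin_cases i <;> fin_cases j <;> simp [Matrix.mul_apply, Fin.sum_univ_three]
  have hz1 : X * X ≠ 1 := by
    intro h
    have h1 := congrArg (fun g => mat g 0 0) h
    simp only [hXX, mat_one] at h1
    simp at h1
    exact h11 h1
  refine ⟨X, orderOf_four rfl hzz hz1, ?_⟩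
  intro ρ
  apply mat_injective
  rw [CpAutU.Fixed.mat_semiConj, mX]
  ext i j
  fin_cases i <;> fin_cases j <;> simp

/-- For the involutory field automorphism: `y * ρ(y)` of order `2 p`. -/
theorem exists_two (hF : Fintype.card F = q ^ 2) (h4 : q % 4 = 1) (p : ℕ) [Fact p.Prime] [CharP F p] (hp2 : p ≠ 2)
    (ρ : F ≃+* F) (hρ : ∀ x, ρ x = x ^ q) :
    ∃ y : SU 3 F q, orderOf (y * semiConj 1 ρ y) = 2 * p := by
  have hodd : Odd q := Nat.odd_iff.2 (by omega)
  have hq2 := two_le hF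
  have h0q : (0 : F) ^ q = 0 := zero_pow (by omega)
  have hm1 : (-1 : F) ^ q = -1 := hodd.neg_one_pow
  have hne2 : (2 : F) ≠ 0 := by
    intro h0
    have h1 : ((2 : ℕ) : F) = 0 := by exact_mod_cast h0
    rw [CharP.cast_eq_zero_iff F p] at h1
    exact hp2 ((Nat.prime_dvd_prime_iff_eq (Fact.out : p.Prime) Nat.prime_two).1 h1)
  have h2q : (2 : F) ^ q = 2 := by
    have h18 : ((1 : F) + 1) ^ q = 1 + 1 := by rw [add_pow_q hF, one_pow]
    norm_num at h18
    exact h18
  obtain ⟨ι, hι⟩ : ∃ ι : F, ι * ι = -1 := by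
    have h1 : IsSquare (-1 : F) := by
      rw [FiniteField.isSquare_neg_one_iff, hF]
      obtain ⟨k, hk⟩ : ∃ k, q = 4 * k + 1 := ⟨q / 4, by omega⟩
      rw [hk]
      have : (4 * k + 1) ^ 2 = 4 * (4 * k ^ 2 + 2 * k) + 1 := by ring
      omega
    obtain ⟨ι, h⟩ := h1
    exact ⟨ι, h.symm⟩
  have hι0 : ι ≠ 0 := by
    rintro rfl
    rw [mul_zero] at hι
    exact one_ne_zero (neg_eq_zero.1 hι.symm)
  have hιq : ι ^ q = ι := by
    obtain ⟨k, hk⟩ : ∃ k, q = 4 * k + 1 := ⟨q / 4, by omega⟩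
    have h4 : ι ^ 4 = 1 := by
      calc ι ^ 4 = (ι * ι) * (ι * ι) := by ring
        _ = 1 := by rw [hι]; ring
    rw [hk, pow_succ, pow_mul, h4, one_pow, one_mul]
  set e : Fin 3 → F := ![0, 1, ι] with he
  set f : Fin 3 → F := ![0, 2⁻¹, -(ι * 2⁻¹)] with hf
  set z : Fin 3 → F := Pi.single 0 1 with hz
  have hfrm : IsFrame q e f := by
    refine ⟨?_, ?_, ?_, ?_⟩
    · simp [he, herm_def, Fin.sum_univ_three, h0q, hιq, hι]
    · simp only [hf, herm_def, Fin.sum_univ_three, Matrix.cons_val_zero, Matrix.cons_val_one, Matrix.cons_val]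
      rw [h0q, neg_pow_q hF, mul_pow, inv_pow, h2q, hιq]
      linear_combination (2⁻¹ * 2⁻¹ : F) * hι
    · simp only [he, hf, herm_def, Fin.sum_univ_three, Matrix.cons_val_zero, Matrix.cons_val_one, Matrix.cons_val]
      rw [h0q, neg_pow_q hF, mul_pow, inv_pow, h2q, hιq]
      have : (2 : F)⁻¹ * 2 = 1 := inv_mul_cancel₀ hne2
      linear_combination (-2⁻¹ : F) * hι + this
    · intro w
      have e1 : hermForm 3 F q w e = w 1 + w 2 * ι := by
        simp only [he, herm_def, Fin.sum_univ_three, Matrix.cons_val_zero, Matrix.cons_val_one, Matrix.cons_val]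
        rw [h0q, one_pow, hιq]; ring
      have e2 : hermForm 3 F q w f = (w 1 - w 2 * ι) * 2⁻¹ := by
        simp only [hf, herm_def, Fin.sum_univ_three, Matrix.cons_val_zero, Matrix.cons_val_one, Matrix.cons_val]
        rw [h0q, neg_pow_q hF, mul_pow, inv_pow, h2q, hιq]; ring
      rw [e1, e2]
      constructor
      · intro hw
        have h1 : w 1 = 0 := hw 1 (by norm_num)
        have h2 : w 2 = 0 := hw 2 (by norm_num)
        rw [h1, h2]; simp
      · rintro ⟨h1, h2⟩
        have h3 : w 1 - w 2 * ι = 0 := by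
          rcases mul_eq_zero.1 h2 with h | h
          · exact h
          · exact absurd (inv_eq_zero.1 h) hne2
        have h5 : w 1 = 0 := by
          have : (2 : F) * w 1 = 0 := by linear_combination h1 + h3
          rcases mul_eq_zero.1 this with h | h
          · exact absurd h hne2
          · exact h
        have h6 : w 2 = 0 := by
          rw [h5, zero_sub, neg_eq_zero] at h3
          rcases mul_eq_zero.1 h3 with h | h
          · exact h
          · exact absurd h hι0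
        intro i hi
        fin_cases i
        · simp at hi
        · exact h5
        · exact h6
  have hzm : z ∈ coordSub F 3 (3 - 2) := ClassicalGeometry.PSUAutDelta.single_zero_mem
  have hzz : hermForm 3 F q z z = 1 := ClassicalGeometry.PSUAutDelta.herm_single_zero hF
  have hze : hermForm 3 F q z e = 0 := ((hfrm.mem z).1 hzm).1
  have hfe : hermForm 3 F q f e = 1 := ClassicalGeometry.PSUAutPhi.frame_fe hF hfrm
  -- a torus element with `t ^ (q + 1) = -1`
  obtain ⟨t, ht⟩ := exists_norm_eq hF (c := (-1 : F)) hm1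
  have ht0 : t ≠ 0 := by
    rintro rfl
    rw [zero_mul] at ht
    exact one_ne_zero (neg_eq_zero.1 ht.symm)
  have htq : (t ^ q) ^ q = t := pow_q_pow_q hF t
  have htq0 : t ^ q ≠ 0 := pow_ne_zero _ ht0
  obtain ⟨l, hle, hlf, hlz, -⟩ := ClassicalGeometry.PSUAutTorus.exists_torus_unit hF hfrm hzm hzz ht0
  obtain ⟨μ, hμ0, hμ⟩ := exists_trace_zero_ne hF
  have hμq : μ ^ q = -μ := by linear_combination hμ
  set u := transv hF e hfrm.ee μ hμ with hu
  have hue : act u e = e := by
    rw [hu, act_transv, hfrm.ee, mul_zero, zero_smul, add_zero]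
  have huf : act u f = f + μ • e := by
    rw [hu, act_transv, hfe, mul_one]
  have huz : act u z = z := by
    rw [hu, act_transv, hze, mul_zero, zero_smul, add_zero]
  set y := l * u with hy
  have hye : act y e = t • e := by rw [hy, act_mul, hue, hle]
  have hyf : act y f = (t ^ q)⁻¹ • f + (μ * t) • e := by
    rw [hy, act_mul, huf, act_add, act_smul, hlf, hle, smul_smul]
  have hyz : act y z = (t ^ q * t⁻¹) • z := by rw [hy, act_mul, huz, hlz]
  -- the frame is fixed by `ρ`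
  have hρe : (fun i => ρ (e i)) = e := by
    funext i
    rw [hρ, he]
    fin_cases i
    · simp [h0q]
    · simp
    · simp [hιq]
  have hρf : (fun i => ρ (f i)) = f := by
    funext i
    rw [hρ, hf]
    fin_cases i
    · simp [h0q]
    · show (2⁻¹ : F) ^ q = 2⁻¹
      rw [inv_pow, h2q]
    · show (-(ι * 2⁻¹) : F) ^ q = -(ι * 2⁻¹)
      rw [neg_pow_q hF, mul_pow, inv_pow, h2q, hιq]
  have hρz : (fun i => ρ (z i)) = z := by
    funext i
    rw [hρ, hz]
    fin_cases i
    · simp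
    · simp [h0q]
    · simp [h0q]
  have hsc : ∀ (v : Fin 3 → F), act (semiConj 1 ρ y) (fun i => ρ (v i)) = fun i => ρ (act y v i) :=
    fun v => Cfsg.Agent.Schreier.PSU.act_semiConj_field ρ y v
  have hsm : ∀ (a : F) (v : Fin 3 → F), (fun i => ρ ((a • v) i)) = ρ a • (fun i => ρ (v i)) := by
    intro a v
    funext i
    simp [Pi.smul_apply, smul_eq_mul, map_mul]
  have hre : act (semiConj 1 ρ y) e = (t ^ q) • e := by
    have h1 := hsc e
    rw [hρe, hye, hsm, hρe, hρ] at h1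
    exact h1
  have hrf : act (semiConj 1 ρ y) f = t⁻¹ • f - (μ * t ^ q) • e := by
    have h1 := hsc f
    have h2 : (fun i => ρ (((t ^ q)⁻¹ • f + (μ * t) • e) i)) = ρ ((t ^ q)⁻¹) • f + ρ (μ * t) • e := by
      have : (fun i => ρ (((t ^ q)⁻¹ • f + (μ * t) • e) i)) =
          (fun i => ρ (((t ^ q)⁻¹ • f) i)) + fun i => ρ (((μ * t) • e) i) := by
        funext i
        simp only [Pi.add_apply, map_add]
      rw [this, hsm, hsm, hρe, hρf]
    rw [hρf, hyf, h2, hρ, hρ, inv_pow, htq, mul_pow, hμq] at h1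
    rw [h1, neg_mul, neg_smul]; abel
  have hrz : act (semiConj 1 ρ y) z = (t * (t ^ q)⁻¹) • z := by
    have h1 := hsc z
    rw [hρz, hyz, hsm, hρz, hρ, mul_pow, htq, inv_pow] at h1
    exact h1
  set w := y * semiConj 1 ρ y with hw
  have hwe : act w e = (-1 : F) • e := by
    rw [hw, act_mul, hre, act_smul, hye, smul_smul]
    congr 1
    linear_combination ht
  have hti : t⁻¹ * (t ^ q)⁻¹ = -1 := by
    rw [← mul_inv, ht, inv_neg, inv_one]
  have hwf : act w f = (-1 : F) • f + (2 * μ) • e := by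
    rw [hw, act_mul, hrf, act_sub, act_smul, act_smul, hye, hyf, smul_add, smul_smul, smul_smul, smul_smul, hti]
    have h1 : t⁻¹ * (μ * t) = μ := by field_simp
    have h2 : μ * t ^ q * t = -μ := by linear_combination μ * ht
    rw [h1, h2, neg_smul μ, sub_neg_eq_add, add_assoc, ← add_smul, two_mul]
  have hwz : act w z = z := by
    rw [hw, act_mul, hrz, act_smul, hyz, smul_smul]
    have : t * (t ^ q)⁻¹ * (t ^ q * t⁻¹) = 1 := by field_simp
    rw [this, one_smul]
  refine ⟨y, ?_⟩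
  have hpe : ∀ k : ℕ, act (w ^ k) e = ((-1 : F) ^ k) • e := by
    intro k
    induction k with
    | zero => rw [pow_zero, act_one, pow_zero, one_smul]
    | succ k ih => rw [pow_succ', act_mul, ih, act_smul, hwe, smul_smul, pow_succ]
  have hpf : ∀ k : ℕ, act (w ^ k) f = ((-1 : F) ^ k) • f + (-(-1 : F) ^ k * (2 * (k : F) * μ)) • e := by
    intro k
    induction k with
    | zero => simp [act_one]
    | succ k ih =>
      rw [pow_succ', act_mul, ih, act_add, act_smul, act_smul, hwe, hwf, smul_add, smul_smul, smul_smul, smul_smul,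
        add_assoc, ← add_smul]
      congr 1
      · rw [pow_succ]
      · congr 1
        push_cast
        ring
  have hpz : ∀ k : ℕ, act (w ^ k) z = z := by
    intro k
    induction k with
    | zero => rw [pow_zero, act_one]
    | succ k ih => rw [pow_succ', act_mul, ih, hwz]
  have hp0 : ((p : ℕ) : F) = 0 := CharP.cast_eq_zero F p
  have he0 : e ≠ 0 := by
    intro h
    have := congrFun h 1
    simp [he] at this
  have hw2p : w ^ (2 * p) = 1 := by
    apply ext_act
    intro v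
    rw [act_one]
    conv_rhs => rw [ClassicalGeometry.PSUAutExt.decomp hF hfrm v]
    conv_lhs => rw [ClassicalGeometry.PSUAutExt.decomp hF hfrm v]
    rw [act_add, act_add, act_smul, act_smul, hpe, hpf,
      ClassicalGeometry.PSUAutDelta.coordSub_three (ClassicalGeometry.PSUAutExt.prV hF hfrm v), act_smul, ← hz, hpz]
    rw [pow_mul, neg_one_sq, one_pow, one_smul, one_smul]
    push_cast
    rw [hp0]
    simp
  have hodd_p : Odd p := (Fact.out : p.Prime).odd_of_ne_two hp2
  have hw2 : w ^ 2 ≠ 1 := by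
    intro h
    have h1 := hpf 2
    rw [h, act_one] at h1
    have h2 : (4 * μ) • e = 0 := by
      have h3 : f = f + (-(4 * μ)) • e := by
        conv_lhs => rw [h1]
        rw [neg_one_sq, one_smul]
        congr 2
        push_cast
        ring
      have h5 : (-(4 * μ)) • e = 0 := by
        have := congrArg (fun v => v - f) h3
        simpa using this
      rw [neg_smul, neg_eq_zero] at h5
      exact h5
    rcases smul_eq_zero.1 h2 with h3 | h3
    · rcases mul_eq_zero.1 h3 with h5 | h5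
      · apply hne2
        have : (2 : F) * 2 = 0 := by linear_combination h5
        rcases mul_eq_zero.1 this with h | h <;> exact h
      · exact hμ0 h5
    · exact he0 h3
  have hwp : w ^ p ≠ 1 := by
    intro h
    have h1 := hpe p
    rw [h, act_one, hodd_p.neg_one_pow] at h1
    have h2 : (2 : F) • e = 0 := by
      rw [two_smul]
      nth_rewrite 1 [h1]
      rw [neg_smul, one_smul, neg_add_cancel]
    rcases smul_eq_zero.1 h2 with h3 | h3
    · exact hne2 h3
    · exact he0 h3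
  have hdvd : orderOf w ∣ 2 * p := orderOf_dvd_of_pow_eq_one hw2p
  have hp := (Fact.out : p.Prime)
  -- divisors of `2 p`
  obtain ⟨c, hc⟩ := hdvd
  by_contra hne
  have hc1 : c ≠ 1 := by rintro rfl; exact hne (by rw [hc, mul_one])
  obtain ⟨r, hr, hrc⟩ := Nat.exists_prime_and_dvd hc1
  have hr2 : r ∣ 2 * p := (hrc.mul_left _).trans (dvd_of_eq hc.symm)
  obtain ⟨d, rfl⟩ := hrc
  rcases hr.dvd_mul.1 hr2 with h | h
  · have : r = 2 := (Nat.prime_dvd_prime_iff_eq hr Nat.prime_two).1 h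
    subst this
    apply hwp
    apply orderOf_dvd_iff_pow_eq_one.1
    refine ⟨d, ?_⟩
    have : 2 * p = 2 * (orderOf w * d) := by rw [hc]; ring
    omega
  · have : r = p := (Nat.prime_dvd_prime_iff_eq hr hp).1 h
    subst this
    apply hw2
    apply orderOf_dvd_iff_pow_eq_one.1
    refine ⟨d, ?_⟩
    have : r * 2 = r * (orderOf w * d) := by rw [mul_comm, hc]; ring
    exact Nat.eq_of_mul_eq_mul_left hr.pos this

open Cfsg.Agent.CpAut.Psl in
/-- Fixed elements of prime order of a field automorphism of odd order. -/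
theorem exists_fixed (hF : Fintype.card F = q ^ 2) {ρ : F ≃+* F} {l : ℕ} (hρ : orderOf ρ = l) (hl : Odd l) :
    ∃ s, 2 ≤ s ∧ q = s ^ l ∧ ∀ r : ℕ, r.Prime → (r ∣ s ∨ r ∣ s ^ 2 - s + 1) →
      ∃ y : SU 3 F q, orderOf y = r ∧ semiConj 1 ρ y = y := by
  classical
  obtain ⟨s, hs2, hs, hq⟩ := Fld.exists_s' hF hρ hl
  let _ : Fintype ↥(fixf ρ) := Fintype.ofFinite _
  have hF₀ : Fintype.card ↥(fixf ρ) = s ^ 2 := by rw [← Nat.card_eq_fintype_card, hs]
  have hpow : ∀ a ∈ fixf ρ, a ^ q = a ^ s := fun a ha => Fld.pow_q hl hs hq ha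
  refine ⟨s, hs2, hq, ?_⟩
  intro r hr hrs
  have hcard : r ∣ Nat.card (SU 3 ↥(fixf ρ) s) := by
    have h1 := Cfsg.Agent.S0278.result hF₀ 3 (by norm_num)
    have h2 : (s + 1) * Nat.card (SU 3 ↥(fixf ρ) s) = (s + 1) * (s ^ 3 * ((s ^ 2 - 1) * (s ^ 3 + 1))) := by
      rw [h1]
      simp only [Finset.prod_range_succ, Finset.prod_range_zero]
      rw [if_pos (by decide : Even 0), if_neg (by decide : ¬ Even 1), if_pos (by decide : Even 2)]
      ring_nf
    have h3 := Nat.eq_of_mul_eq_mul_left (by omega) h2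
    rw [h3]
    rcases hrs with h | h
    · exact (h.trans (dvd_pow_self s (by norm_num))).mul_right _
    · have h4 : s ^ 3 + 1 = (s + 1) * (s ^ 2 - s + 1) := by
        obtain ⟨t, rfl, e1, -⟩ := nn_eq (q := s) (by omega)
        rw [e1]; ring
      rw [h4]
      exact (((h.mul_left (s + 1)).mul_left _).mul_left _)
  have : Fact r.Prime := ⟨hr⟩
  obtain ⟨g, hg⟩ := exists_prime_orderOf_dvd_card' (G := SU 3 ↥(fixf ρ) s) r hcard
  refine ⟨Fixed.embSU hF hpow g, ?_, Fixed.semiConj_embSU hF hpow g⟩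
  rw [orderOf_injective _ (Fixed.embSU_injective hF hpow), hg]

/-- `Φ₆(s) ∣ Φ₆(s ^ l)` for `l` prime to 6 -/
theorem phi_six_dvd {s l : ℕ} (hs : 2 ≤ s) (hl2 : ¬ 2 ∣ l) (hl3 : ¬ 3 ∣ l) :
    s ^ 2 - s + 1 ∣ (s ^ l) ^ 2 - s ^ l + 1 := by
  have hcast : ∀ a : ℕ, 1 ≤ a → ((a ^ 2 - a + 1 : ℕ) : ℤ) = (a : ℤ) ^ 2 - a + 1 := by
    intro a ha
    have : a ≤ a ^ 2 := by nlinarith
    push_cast [Nat.cast_sub this]
    ring
  have h1 : 1 ≤ s ^ l := Nat.one_le_pow _ _ (by omega)
  rw [← Int.natCast_dvd_natCast, hcast s (by omega), hcast (s ^ l) h1]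
  push_cast
  set x : ℤ := (s : ℤ)
  set N : ℤ := x ^ 2 - x + 1 with hN
  have h6 : x ^ 6 ≡ 1 [ZMOD N] := by
    rw [Int.modEq_iff_dvd]
    exact ⟨-(x ^ 4 + x ^ 3 - x - 1), by rw [hN]; ring⟩
  have h6k : ∀ k : ℕ, x ^ (6 * k) ≡ 1 [ZMOD N] := by
    intro k
    rw [pow_mul]
    simpa using h6.pow k
  have hmod : l % 6 = 1 ∨ l % 6 = 5 := by omega
  have hl : l = 6 * (l / 6) + l % 6 := (Nat.div_add_mod l 6).symm
  have key : ∀ i : ℕ, l % 6 = i → x ^ l ≡ x ^ i [ZMOD N] := by
    intro i hi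
    rw [hl, hi, pow_add]
    simpa using (h6k (l / 6)).mul_right (x ^ i)
  have hfin : ∀ y : ℤ, x ^ l ≡ y [ZMOD N] → N ∣ y ^ 2 - y + 1 → N ∣ (x ^ l) ^ 2 - x ^ l + 1 := by
    intro y hy hd
    have h2 : (x ^ l) ^ 2 - x ^ l + 1 ≡ y ^ 2 - y + 1 [ZMOD N] :=
      ((hy.pow 2).sub hy).add_right 1
    exact (Int.ModEq.dvd_iff h2).2 hd
  rcases hmod with h | h
  · apply hfin _ (key 1 h)
    rw [pow_one]
  · apply hfin _ (key 5 h)
    exact ⟨x ^ 8 + x ^ 7 - x ^ 5 - x ^ 4 - x ^ 3 + x + 1, by rw [hN]; ring⟩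

end

section main
variable {F : Type*} [Field F] [Fintype F] {q : ℕ} {G : Type*} [Group G] [Finite G]

/-- **The outer part.** -/
theorem eq_top {p : ℕ} [Fact p.Prime] [CharP F p] (hF : Fintype.card F = q ^ 2) (h4 : q % 4 = 1)
    (h3 : ¬ 3 ∣ q + 1) (hpq : p ∣ q) (S : Subgroup G) [S.Normal] (hC : Subgroup.centralizer (S : Set G) = ⊥)
    (e : S ≃* PSU 3 F q) (hω : ∀ g : G, Om p q (orderOf g)) : S = ⊤ := by
  classical
  have hp : p.Prime := Fact.out
  have hq2 := two_le hF
  have hodd : Odd q := Nat.odd_iff.2 (by omega)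
  have hp2 : p ≠ 2 := by
    rintro rfl
    exact Nat.not_odd_iff_even.2 (even_iff_two_dvd.2 hpq) hodd
  obtain ⟨E⟩ := nonempty_SU_equiv (F := F) hF h3
  have hprinj : Function.Injective (pr 3 F q) := by
    rw [injective_iff_map_eq_one]
    intro a ha
    obtain ⟨c, hc3, hcq, rfl⟩ := (mem_center_SU_iff hF le_rfl a).1 ((QuotientGroup.eq_one_iff a).1 ha)
    have hcop : Nat.Coprime 3 (q + 1) := (Nat.Prime.coprime_iff_not_dvd Nat.prime_three).2 h3
    have hc : c = 1 := by
      have h1 := pow_gcd_eq_one.2 ⟨hc3, hcq⟩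
      rwa [hcop, pow_one] at h1
    subst hc
    apply mat_injective
    rw [mat_one]
    show ((suScalar q (1 : F) hc3 hcq : Matrix.SpecialLinearGroup (Fin 3) F) : Matrix (Fin 3) (Fin 3) F) = 1
    rw [coe_suScalar]
    simp
  let ψ : G →* MulAut (PSU 3 F q) := (MulAut.congr e).toMonoidHom.comp MulAut.conjNormal
  have hψ : ∀ (g : G) (x : PSU 3 F q), ψ g x = e (MulAut.conjNormal g (e.symm x)) := fun g x => rfl
  have hψs : ∀ s : S, ψ s = MulAut.conj (e s) := by
    intro s
    ext x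
    rw [hψ, MulAut.conj_apply]
    have h1 : MulAut.conjNormal (s : G) (e.symm x) = s * e.symm x * s⁻¹ := Subtype.ext rfl
    rw [h1, map_mul, map_mul, map_inv, e.apply_symm_apply]
  have hψinj : Function.Injective ψ := by
    rw [injective_iff_map_eq_one]
    intro g hg
    have h1 : g ∈ Subgroup.centralizer (S : Set G) := by
      rw [Subgroup.mem_centralizer_iff]
      intro s hs
      have h2 := congrArg (fun f : MulAut (PSU 3 F q) => f (e ⟨s, hs⟩)) hg
      simp only [hψ, e.symm_apply_apply, MulAut.one_apply] at h2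
      have h3 := congrArg Subtype.val (e.injective h2)
      rw [MulAut.conjNormal_apply] at h3
      exact (mul_inv_eq_iff_eq_mul.1 h3).symm
    rw [hC] at h1
    exact Subgroup.mem_bot.1 h1
  by_contra hS
  obtain ⟨g, -, hgS⟩ := SetLike.exists_of_lt (lt_top_iff_ne_top.2 hS)
  obtain ⟨A, ρ₀, hA⟩ := Cfsg.Agent.ClassicalGeometry.PSUAutMain.exists_toAut hF le_rfl (by omega) (ψ g)
  obtain ⟨B, hB⟩ := exists_conj hF h3 A
  -- remove the inner part
  set g' := ((e.symm B : S) : G)⁻¹ * g with hg'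
  have hψg' : ψ g' = f₂ ρ₀ := by
    rw [hg', map_mul, map_inv, hψs, e.apply_symm_apply, hA, toAut_eq, hB, inv_mul_cancel_left]
  have hg'S : g' ∉ S := by
    intro h
    apply hgS
    have h1 := S.mul_mem (e.symm B).2 h
    rwa [hg', mul_inv_cancel_left] at h1
  have hρ₀ : ρ₀ ≠ 1 := by
    rintro rfl
    rw [map_one] at hψg'
    have h1 : g' = 1 := hψinj (by rw [hψg', map_one])
    exact hg'S (by rw [h1]; exact S.one_mem)
  have hfinA : Finite (F ≃+* F) :=
    Finite.of_injective (fun e : F ≃+* F => (e : F → F)) (fun a b h => RingEquiv.ext (congrFun h))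
  obtain ⟨s, hs, hsd⟩ := Nat.exists_prime_and_dvd (n := orderOf ρ₀) (by
    rw [Ne, orderOf_eq_one_iff]; exact hρ₀)
  obtain ⟨d, hd⟩ := hsd
  have hd0 : d ≠ 0 := by
    rintro rfl
    rw [mul_zero] at hd
    exact (orderOf_pos ρ₀).ne' hd
  set ρ := ρ₀ ^ d with hρd
  set x := g' ^ d with hxd
  have hρs : orderOf ρ = s := by
    rw [hρd, orderOf_pow_of_dvd hd0 (by rw [hd]; exact Dvd.intro_left _ rfl), hd,
      Nat.mul_div_cancel _ (Nat.pos_of_ne_zero hd0)]
  have hψx : ψ x = f₂ ρ := by rw [hxd, map_pow, hψg', hρd, map_pow]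
  have hxs : x ^ s = 1 := by
    apply hψinj
    rw [map_pow, hψx, ← map_pow, ← hρs, pow_orderOf_eq_one, map_one, map_one]
  have hfs : Fact s.Prime := ⟨hs⟩
  have hx1 : x ≠ 1 := by
    intro h
    have h1 : x ∈ S := by rw [h]; exact S.one_mem
    -- `f₂ ρ = 1`, so `ρ = 1`
    rw [h, map_one] at hψx
    obtain ⟨t, ht⟩ : ∃ t : F, ρ t ≠ t := by
      by_contra hcon
      push Not at hcon
      have : ρ = 1 := RingEquiv.ext hcon
      rw [this, orderOf_one] at hρs
      exact hs.one_lt.ne hρs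
    have h2 := (Cfsg.Agent.ClassicalGeometry.PSUAutCount.eq_of_toAut_eq hF le_rfl
      (A := (1 : GU 3 F q)) (A' := (1 : GU 3 F q)) (ρ := ρ) (ρ' := 1)
      (by
        have h5 : toAut (1 : GU 3 F q) ρ = f₂ ρ := rfl
        have h6 : toAut (1 : GU 3 F q) (1 : F ≃+* F) = f₂ 1 := rfl
        rw [h5, h6, ← hψx, map_one])).1
    apply ht
    rw [← h2]; rfl
  have hxord : orderOf x = s := orderOf_eq_prime hxs hx1
  -- fixed elements give elements of larger order
  have hψpr : ∀ y : SU 3 F q, ψ x (pr 3 F q y) = pr 3 F q (semiConj 1 ρ y) := by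
    intro y
    rw [hψx]; rfl
  have hconj : ∀ y : SU 3 F q, x * (e.symm (pr 3 F q y) : S) * x⁻¹ = (e.symm (pr 3 F q (semiConj 1 ρ y)) : S) := by
    intro y
    rw [← hψpr, hψ, e.symm_apply_apply, MulAut.conjNormal_apply]
  have hord : ∀ y : SU 3 F q, orderOf ((e.symm (pr 3 F q y) : S) : G) = orderOf y := by
    intro y
    rw [Subgroup.orderOf_coe, MulEquiv.orderOf_eq, orderOf_injective _ hprinj]
  have hfix : ∀ (y : SU 3 F q) (m : ℕ), semiConj 1 ρ y = y → orderOf y = m → Nat.Coprime m s →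
      Om p q (m * s) := by
    intro y m hy hym hms
    have h1 : Commute ((e.symm (pr 3 F q y) : S) : G) x := by
      have h2 := hconj y
      rw [hy] at h2
      exact (mul_inv_eq_iff_eq_mul.1 h2).symm
    have h2 := hω (((e.symm (pr 3 F q y) : S) : G) * x)
    rwa [h1.orderOf_mul_eq_mul_orderOf_of_coprime (by rw [hord, hym, hxord]; exact hms), hord, hym, hxord] at h2
  by_cases hs2 : s = 2
  · -- the involutory automorphism
    subst hs2
    have hρρ : ∀ a, ρ (ρ a) = a := by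
      intro a
      have h1 : ρ * ρ = 1 := by rw [← pow_two, ← hρs, pow_orderOf_eq_one]
      exact congrArg (fun f : F ≃+* F => f a) h1
    have hρne : ∃ a, ρ a ≠ a := by
      by_contra hcon
      push Not at hcon
      have : ρ = 1 := RingEquiv.ext hcon
      rw [this, orderOf_one] at hρs
      omega
    have hρq : ∀ a, ρ a = a ^ q :=
      Cfsg.Agent.H371.Alg.eq_pow_of_involutive (ρ : F →+* F) hρρ hρne
        (by rw [Nat.card_eq_fintype_card, hF, pow_two])
    obtain ⟨y, hy⟩ := exists_two hF h4 p hp2 ρ hρq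
    set w : G := ((e.symm (pr 3 F q y) : S) : G) * x with hw
    have h1 : w ^ 2 = ((e.symm (pr 3 F q (y * semiConj 1 ρ y)) : S) : G) := by
      rw [map_mul, map_mul, Subgroup.coe_mul, ← hconj y, hw, pow_two]
      have : x * x = 1 := by rw [← pow_two]; exact hxs
      have h2 : x⁻¹ = x := inv_eq_of_mul_eq_one_right this
      rw [h2]
      group
    have h2 : orderOf (w ^ 2) = 2 * p := by rw [h1, hord, hy]
    have h5 := hω w
    apply not_om_four_p hp hpq hq2 h4 _ h5
    rw [orderOf_pow' w (by norm_num : (2 : ℕ) ≠ 0)] at h2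
    have hpos := orderOf_pos w
    rcases Nat.even_or_odd (orderOf w) with h6 | h6
    · have h7 : Nat.gcd (orderOf w) 2 = 2 := Nat.gcd_eq_right (even_iff_two_dvd.1 h6)
      rw [h7] at h2
      obtain ⟨k, hk⟩ := even_iff_two_dvd.1 h6
      rw [hk, Nat.mul_div_cancel_left _ (by norm_num)] at h2
      rw [hk, h2]
      exact ⟨1, by ring⟩
    · exfalso
      have h7 : Nat.gcd (orderOf w) 2 = 1 := Nat.Coprime.symm ((Nat.coprime_two_left).2 h6)
      rw [h7, Nat.div_one] at h2
      rw [h2] at h6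
      exact Nat.not_even_iff_odd.2 h6 ⟨p, by ring⟩
  · have hsodd : Odd s := hs.odd_of_ne_two hs2
    obtain ⟨y4, hy4, hy4f⟩ := exists_order_four (F := F) q hF hodd
    obtain ⟨s₀, hs₀, hqs, hfx⟩ := exists_fixed hF hρs hsodd
    by_cases hsp : s = p
    · -- `4 p`
      have h1 := hfix y4 4 (hy4f ρ) hy4 (by
        rw [hsp]
        exact (Nat.Coprime.pow_left 2 ((Nat.coprime_primes Nat.prime_two hp).2 (Ne.symm hp2)) : Nat.Coprime (2 ^ 2) p))
      rw [hsp] at h1
      exact not_om_four_p hp hpq hq2 h4 dvd_rfl h1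
    · -- `p s`
      have hps₀ : p ∣ s₀ := by
        rw [hqs] at hpq
        exact hp.dvd_of_dvd_pow hpq
      obtain ⟨yp, hyp, hypf⟩ := hfx p hp (Or.inl hps₀)
      have h1 := hfix yp p hypf hyp ((Nat.coprime_primes hp hs).2 (Ne.symm hsp))
      have hsq1 : s ∣ q + 1 := by
        rcases h1 with h | h | h
        · exact absurd ((Dvd.intro _ rfl : p ∣ p * s).trans h) (not_dvd_nn hp hpq hq2)
        · exact absurd ((Dvd.intro _ rfl : p ∣ p * s).trans h) (not_dvd_sq hp hpq hq2)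
        · exact Nat.dvd_of_mul_dvd_mul_left hp.pos h
      have hs3 : s ≠ 3 := by rintro rfl; exact h3 hsq1
      have hs3' : ¬ 3 ∣ s := fun h => hs3 ((Nat.prime_dvd_prime_iff_eq Nat.prime_three hs).1 h).symm
      have hs2' : ¬ 2 ∣ s := fun h => hs2 ((Nat.prime_dvd_prime_iff_eq Nat.prime_two hs).1 h).symm
      obtain ⟨r, hr, hrn⟩ := Nat.exists_prime_and_dvd (n := s₀ ^ 2 - s₀ + 1) (by
        obtain ⟨t, ht, e1, -⟩ := nn_eq (q := s₀) (by omega)
        rw [e1]
        have : 1 ≤ t := by omega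
        have : 0 < t * (t + 1) := by positivity
        omega)
      have hrn' : r ∣ q ^ 2 - q + 1 := by
        rw [hqs]
        exact hrn.trans (phi_six_dvd hs₀ hs2' hs3')
      have hcop := cop_succ hq2 h3
      have hrs : r ≠ s := by
        rintro rfl
        exact hr.one_lt.ne' (Nat.dvd_one.mp (by rw [← hcop]; exact Nat.dvd_gcd hrn' hsq1))
      obtain ⟨yr, hyr, hyrf⟩ := hfx r hr (Or.inr hrn)
      have h2 := hfix yr r hyrf hyr ((Nat.coprime_primes hr hs).2 hrs)
      have h5 := om_nn hp hpq hq2 h3 hr hrn' (Dvd.intro _ rfl) h2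
      have h6 : s ∣ q ^ 2 - q + 1 := (Dvd.intro_left _ rfl : s ∣ r * s).trans h5
      exact hs.one_lt.ne' (Nat.dvd_one.mp (by rw [← hcop]; exact Nat.dvd_gcd h6 hsq1))

end main

end Cfsg.Agent.H127.U3
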