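import Cfsg.Agent.H127.UnitRoots
import Cfsg.Agent.H186.Unitary

/-!
# Existence of unitary matrices with given eigenvalues (helper127)

* `exists_elt` : `A` of determinant one with `st A * x * A = x`, `x` invertible, is similar to an element of `SU`;
* `singer_form` : for `n` odd and `ω` in the extension `E` of degree `n` of `F`, `|F| = q²`, with `ω ^ (q ^ n + 1) = 1`,
  multiplication by `ω` preserves a nondegenerate form `tr(τ(u) v)`.
-/

set_option autoImplicit false

namespace Cfsg.Agent.H127.UnitSinger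

open Matrix Cfsg.Agent.H127.UnitRoots Cfsg.Agent.H186

section exist

variable {F : Type*} [Field F] [Fintype F] {n q : ℕ}

/-- an isometry of some nondegenerate form, of determinant one, is similar to an element of `SU` -/
theorem exists_elt (hF : Fintype.card F = q ^ 2) (A x : Matrix (Fin n) (Fin n) F) (hx : IsUnit x) (hdet : A.det = 1)
    (h : st q A * x * A = x) :
    ∃ g : Cfsg.SU n F q, ∃ y : Matrix (Fin n) (Fin n) F, IsUnit y ∧ y * A = mat g * y := by
  have hA : IsUnit A := by
    rw [Matrix.isUnit_iff_isUnit_det, hdet]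
    exact isUnit_one
  obtain ⟨y, hy, B, hB, hyB⟩ := exists_isometry hF A x hx hA h
  have hdy : IsUnit y.det := (Matrix.isUnit_iff_isUnit_det y).1 hy
  have hBdet : B.det = 1 := by
    have h1 := congrArg Matrix.det hyB
    rw [Matrix.det_mul, Matrix.det_mul, hdet, mul_one, mul_comm] at h1
    exact (hdy.mul_left_cancel (h1.symm.trans (mul_one _).symm))
  let B' : GL (Fin n) F := ⟨B, st q B, mul_eq_one_comm.1 hB, hB⟩
  have hB' : B' ∈ Cfsg.GU n F q := (mem_GU_iff_st hF B').2 hB
  let B'' : Matrix.SpecialLinearGroup (Fin n) F := ⟨B, hBdet⟩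
  have hB'' : B'' ∈ Cfsg.SU n F q :=
    (Cfsg.Agent.LieClassical.SUBasic.mem_SU_iff B'').2 ((Cfsg.Agent.ClassicalGeometry.GUBasic.mem_GU_iff B').1 hB')
  exact ⟨⟨B'', hB''⟩, y, hy, hyB⟩

theorem pow_scalar_of_conj {A B y : Matrix (Fin n) (Fin n) F} (hy : IsUnit y) (h : y * A = B * y) {k : ℕ} {c : F}
    (hB : B ^ k = c • 1) : A ^ k = c • 1 := by
  have h1 : ∀ k : ℕ, y * A ^ k = B ^ k * y := by
    intro k
    induction k with
    | zero => simp
    | succ k ih => rw [pow_succ, ← mul_assoc, ih, mul_assoc, h, ← mul_assoc, ← pow_succ]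
  have h2 := h1 k
  rw [hB, Matrix.smul_mul, one_mul] at h2
  have h3 : y * A ^ k = y * (c • (1 : Matrix (Fin n) (Fin n) F)) := by
    rw [h2, Matrix.mul_smul, mul_one]
  exact hy.mul_left_cancel h3

/-- element orders of `PSU` from the scalar powers -/
theorem exists_order (hF : Fintype.card F = q ^ 2) (hn : 3 ≤ n) (A x : Matrix (Fin n) (Fin n) F) (hx : IsUnit x)
    (hdet : A.det = 1) (h : st q A * x * A = x) {N : ℕ} (hN : ∀ (k : ℕ) (c : F), A ^ k = c • 1 → N ∣ k) :
    ∀ s, s ∣ N → ∃ z : Cfsg.PSU n F q, orderOf z = s := by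
  intro s hs
  obtain ⟨g, y, hy, hyg⟩ := exists_elt hF A x hx hdet h
  set z : Cfsg.PSU n F q := QuotientGroup.mk g with hz
  have h1 : N ∣ orderOf z := by
    obtain ⟨c, hc⟩ := scalar_of_psu_pow hF hn g (k := orderOf z) (pow_orderOf_eq_one z)
    exact hN _ c (pow_scalar_of_conj hy hyg hc)
  have : Finite (Cfsg.SU n F q) := inferInstance
  have : Finite (Cfsg.PSU n F q) := inferInstance
  have h2 : orderOf z ≠ 0 := (orderOf_pos z).ne'
  exact ⟨z ^ (orderOf z / s), orderOf_pow_orderOf_div h2 (hs.trans h1)⟩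

end exist

section singer

variable {F : Type*} [Field F] [Fintype F] {n q : ℕ} {E : Type*} [Field E] [Algebra F E] [Finite E]

/-- multiplication by an element `ω` with `ω ^ (q ^ n + 1) = 1`, `n` odd, preserves a nondegenerate form -/
theorem singer_form (hF : Fintype.card F = q ^ 2) (hn : Odd n) (b : Module.Basis (Fin n) F E) {ω : E}
    (hω : ω ^ (q ^ n + 1) = 1) :
    ∃ x : Matrix (Fin n) (Fin n) F, IsUnit x ∧
      st q (Algebra.leftMulMatrix b ω) * x * (Algebra.leftMulMatrix b ω) = x := by
  classical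
  obtain ⟨σ, hσ⟩ := exists_pow_hom hF E
  have : Module.Finite F E := Module.Finite.of_basis b
  -- the `n`-th power of `σ`
  have hpow : ∀ (k : ℕ) (y : E), (σ ^ k) y = y ^ (q ^ k) := by
    intro k
    induction k with
    | zero => intro y; simp
    | succ k ih =>
      intro y
      rw [pow_succ', RingHom.coe_mul, Function.comp_apply, ih, hσ, ← pow_mul, pow_succ]
  set τ : E →+* E := σ ^ n with hτ
  have hFq : ∀ c : F, (c ^ q) ^ q = c := by
    intro c
    rw [← pow_mul, ← pow_two, ← hF, FiniteField.pow_card]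
  have hFn : ∀ c : F, c ^ (q ^ n) = c ^ q := by
    obtain ⟨m, rfl⟩ := hn
    intro c
    have h1 : ∀ m : ℕ, c ^ (q ^ (2 * m)) = c := by
      intro m
      induction m with
      | zero => simp
      | succ m ih =>
        rw [show 2 * (m + 1) = 2 * m + 2 by ring, pow_add, pow_mul, ih, pow_two, pow_mul, hFq]
    rw [pow_succ, pow_mul, h1]
  have hτF : ∀ c : F, τ (algebraMap F E c) = algebraMap F E (c ^ q) := by
    intro c
    rw [hτ, hpow, ← map_pow, hFn]
  have hτω : τ ω * ω = 1 := by
    rw [hτ, hpow, ← pow_succ, hω]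
  set A := Algebra.leftMulMatrix b ω with hA
  -- `ω b_j = Σ A_ij b_i`
  have hcol : ∀ j, ω * b j = ∑ i, algebraMap F E (A i j) * b i := by
    intro j
    have h1 := b.sum_repr (ω * b j)
    rw [← h1]
    refine Finset.sum_congr rfl fun i _ => ?_
    rw [hA, Algebra.leftMulMatrix_eq_repr_mul, Algebra.smul_def]
  let x : Matrix (Fin n) (Fin n) F := Matrix.of fun i j => Algebra.trace F E (τ (b i) * b j)
  have hxA : ∀ i j, (st q A * x * A) i j = Algebra.trace F E (τ (ω * b i) * (ω * b j)) := by
    intro i j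
    have e1 : τ (ω * b i) * (ω * b j) = ∑ k, ∑ l, ((A k i) ^ q * A l j) • (τ (b k) * b l) := by
      rw [hcol i, hcol j, map_sum, Finset.sum_mul_sum]
      refine Finset.sum_congr rfl fun k _ => Finset.sum_congr rfl fun l _ => ?_
      rw [map_mul, hτF, Algebra.smul_def, map_mul]
      ring
    rw [e1, map_sum, Matrix.mul_apply]
    simp only [Matrix.mul_apply, st_apply, map_sum, map_smul, smul_eq_mul, Finset.sum_mul]
    rw [Finset.sum_comm]
    refine Finset.sum_congr rfl fun k _ => Finset.sum_congr rfl fun l _ => ?_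
    show (A k i) ^ q * Algebra.trace F E (τ (b k) * b l) * A l j = _
    ring
  refine ⟨x, ?_, ?_⟩
  · -- nondegeneracy
    rw [← Matrix.mulVec_injective_iff_isUnit]
    intro v w hvw
    rw [← sub_eq_zero]
    set u := v - w with hu
    have h0 : x *ᵥ u = 0 := by rw [hu, Matrix.mulVec_sub, sub_eq_zero]; exact hvw
    -- the element of `E`
    set z : E := ∑ j, u j • b j with hz
    have h1 : ∀ i, Algebra.trace F E (τ (b i) * z) = 0 := by
      intro i
      have h2 := congrFun h0 i
      rw [Matrix.mulVec, dotProduct] at h2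
      rw [hz, Finset.mul_sum, map_sum]
      rw [Pi.zero_apply] at h2
      rw [← h2]
      refine Finset.sum_congr rfl fun j _ => ?_
      rw [mul_smul_comm, map_smul, smul_eq_mul, mul_comm]
      rfl
    have hτsurj : Function.Surjective τ := Finite.surjective_of_injective τ.injective
    have h3 : ∀ y : E, Algebra.trace F E (y * z) = 0 := by
      intro y
      obtain ⟨y', rfl⟩ := hτsurj y
      have h4 := b.sum_repr y'
      rw [← h4, map_sum, Finset.sum_mul, map_sum]
      apply Finset.sum_eq_zero
      intro i _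
      rw [Algebra.smul_def, map_mul τ, hτF, mul_assoc, ← Algebra.smul_def, map_smul, h1, smul_zero]
    have h5 : z = 0 := by
      have h6 := (traceForm_nondegenerate F E).2 z
      apply h6
      intro y
      exact h3 y
    have h7 : ∀ j, u j = 0 := Fintype.linearIndependent_iff.1 b.linearIndependent u h5
    funext j
    exact h7 j
  · ext i j
    rw [hxA, map_mul τ]
    show Algebra.trace F E (τ ω * τ (b i) * (ω * b j)) = Algebra.trace F E (τ (b i) * b j)
    congr 1
    calc τ ω * τ (b i) * (ω * b j) = (τ ω * ω) * (τ (b i) * b j) := by ring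
      _ = τ (b i) * b j := by rw [hτω, one_mul]

end singer

end Cfsg.Agent.H127.UnitSinger
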