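import Mathlib
import Cfsg.Agent.H127.ZPsuSwap

/-!
# Unitary matrices with `p`-th power one: eigenvectors in the natural field (helper127)

* `exists_h90`, `exists_trace`, `exists_norm` : the norm-one group, trace and norm of `K / F_q`;
* `Pj` : the projector onto an eigenspace of `A`, `A ^ p = 1`;
* `concl_two` : `p ∣ q + 1`; `concl_hyp` : `p ∣ q - 1`.
-/

set_option autoImplicit false
set_option linter.unusedSectionVars false

namespace Cfsg.Agent.H127.ZPsu

open Matrix Cfsg.Agent.H186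

section Fld

variable {K : Type*} [Field K] [Fintype K] {q : ℕ}

theorem exists_h90 (hK : Fintype.card K = q ^ 2) {u : K} (hu : u ^ (q + 1) = 1) : ∃ w : K, w ≠ 0 ∧ w = u * w ^ q := by
  obtain ⟨σ, hσ⟩ := ClassicalGeometry.GUBasic.exists_powHom hK
  have hq := ClassicalGeometry.GUBasic.two_le hK
  have hu0 : u ≠ 0 := by
    rintro rfl
    rw [zero_pow (by omega)] at hu
    exact zero_ne_one hu
  have key : ∀ t : K, (t + u * t ^ q) = u * (t + u * t ^ q) ^ q := by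
    intro t
    rw [← hσ (t + u * t ^ q), map_add, map_mul, hσ, hσ, hσ, pow_pow_q hK, mul_add, ← mul_assoc, ← pow_succ', hu,
      one_mul, add_comm]
  by_contra hcon
  push Not at hcon
  have h0 : ∀ t : K, t + u * t ^ q = 0 := by
    intro t
    by_contra h
    exact hcon _ h (key t)
  have h1 : u = -1 := by
    have := h0 1
    rw [one_pow, mul_one] at this
    linear_combination this
  obtain ⟨x, hx⟩ := exists_pow_ne hK
  apply hx
  have := h0 x
  rw [h1] at this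
  linear_combination -this

theorem exists_trace (hK : Fintype.card K = q ^ 2) : ∃ t : K, t + t ^ q = 1 := by
  obtain ⟨σ, hσ⟩ := ClassicalGeometry.GUBasic.exists_powHom hK
  have h1 : ∃ y : K, y + y ^ q ≠ 0 := by
    by_contra hcon
    push Not at hcon
    have h2 := hcon 1
    rw [one_pow] at h2
    obtain ⟨x, hx⟩ := exists_pow_ne hK
    apply hx
    have h3 := hcon x
    linear_combination h3 - x * h2
  obtain ⟨y, hy⟩ := h1
  refine ⟨y / (y + y ^ q), ?_⟩
  have h4 : (y + y ^ q) ^ q = y + y ^ q := by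
    rw [← hσ, map_add, hσ, hσ, pow_pow_q hK, add_comm]
  rw [div_pow, h4, ← add_div, div_self hy]

theorem exists_norm (hK : Fintype.card K = q ^ 2) {s : K} (hs0 : s ≠ 0) (hs : s ^ q = s) : ∃ l : K, l ^ q * l = s := by
  let S : Matrix (Fin 1) (Fin 1) K := fun _ _ => s
  have hS : IsUnit S := by
    rw [Matrix.isUnit_iff_isUnit_det, Matrix.det_fin_one]
    exact isUnit_iff_ne_zero.2 hs0
  obtain ⟨c, -, -, hc⟩ := exists_st_mul hK S hS (by ext i j; exact hs)
  refine ⟨c 0 0, ?_⟩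
  have h1 := congrFun (congrFun hc 0) 0
  rw [Matrix.mul_apply, Fin.sum_univ_one, st_apply] at h1
  exact h1

theorem exists_omega {p : ℕ} (hpp : p.Prime) (hp : p ∣ Fintype.card K - 1) : ∃ ω : K, IsPrimitiveRoot ω p := by
  classical
  have : Fact p.Prime := ⟨hpp⟩
  obtain ⟨ζ, hζ⟩ := exists_prime_orderOf_dvd_card (G := Kˣ) p (by rwa [Fintype.card_units])
  refine ⟨ζ, ?_⟩
  rw [← hζ, IsPrimitiveRoot.coe_units_iff]
  exact IsPrimitiveRoot.orderOf ζ

end Fld

variable {ι K : Type*} [Fintype ι] [DecidableEq ι] [Field K]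

/-- The projector onto the eigenspace of `A` with eigenvalue `c`. -/
noncomputable def Pj (p : ℕ) (c : K) (A : Matrix ι ι K) : Matrix ι ι K :=
  (p : K)⁻¹ • ∑ i ∈ Finset.range p, (c⁻¹) ^ i • A ^ i

theorem Pj_comm {p : ℕ} (c : K) (A : Matrix ι ι K) : A * Pj p c A = Pj p c A * A := by
  rw [Pj, mul_smul_comm, smul_mul_assoc, Finset.mul_sum, Finset.sum_mul]
  congr 1
  refine Finset.sum_congr rfl fun i _ => ?_
  rw [mul_smul_comm, smul_mul_assoc, ← pow_succ, ← pow_succ']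

theorem mul_Pj {p : ℕ} (hp0 : p ≠ 0) {c : K} (hc : c ^ p = 1) {A : Matrix ι ι K} (hA : A ^ p = 1) :
    A * Pj p c A = c • Pj p c A := by
  have hc0 : c ≠ 0 := by
    rintro rfl
    rw [zero_pow hp0] at hc
    exact zero_ne_one hc
  obtain ⟨m, rfl⟩ : ∃ m, p = m + 1 := ⟨p - 1, by omega⟩
  rw [Pj, mul_smul_comm, smul_comm c]
  congr 1
  have h1 : A * ∑ i ∈ Finset.range (m + 1), (c⁻¹) ^ i • A ^ i =
      c • ∑ i ∈ Finset.range (m + 1), (c⁻¹) ^ (i + 1) • A ^ (i + 1) := by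
    rw [Finset.mul_sum, Finset.smul_sum]
    refine Finset.sum_congr rfl fun i _ => ?_
    have e : c * (c⁻¹) ^ (i + 1) = (c⁻¹) ^ i := by
      rw [pow_succ' c⁻¹ i, ← mul_assoc, mul_inv_cancel₀ hc0, one_mul]
    rw [mul_smul_comm, ← pow_succ', smul_smul, e]
  rw [h1]
  congr 1
  rw [Finset.sum_range_succ, Finset.sum_range_succ', inv_pow, hc, inv_one, one_smul, hA, pow_zero, pow_zero, one_smul]

theorem Pj_mulVec {p : ℕ} (hp : (p : K) ≠ 0) {c : K} (hc0 : c ≠ 0) {A : Matrix ι ι K} {v : ι → K}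
    (hv : A *ᵥ v = c • v) : Pj p c A *ᵥ v = v := by
  have h1 : ∀ i : ℕ, A ^ i *ᵥ v = c ^ i • v := by
    intro i
    induction i with
    | zero => rw [pow_zero, pow_zero, Matrix.one_mulVec, one_smul]
    | succ i ih => rw [pow_succ', ← Matrix.mulVec_mulVec, ih, Matrix.mulVec_smul, hv, smul_smul, pow_succ]
  rw [Pj, Matrix.smul_mulVec, Matrix.sum_mulVec]
  have h2 : ∀ i ∈ Finset.range p, ((c⁻¹) ^ i • A ^ i) *ᵥ v = v := by
    intro i _
    rw [Matrix.smul_mulVec, h1, smul_smul, ← mul_pow, inv_mul_cancel₀ hc0, one_pow, one_smul]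
  rw [Finset.sum_congr rfl h2, Finset.sum_const, Finset.card_range, ← Nat.cast_smul_eq_nsmul K, smul_smul,
    inv_mul_cancel₀ hp, one_smul]

theorem vecMul_Pj {p : ℕ} (hp : (p : K) ≠ 0) {c : K} (hc0 : c ≠ 0) {A : Matrix ι ι K} {f : ι → K}
    (hf : f ᵥ* A = c • f) : f ᵥ* Pj p c A = f := by
  have h1 : ∀ i : ℕ, f ᵥ* A ^ i = c ^ i • f := by
    intro i
    induction i with
    | zero => rw [pow_zero, pow_zero, Matrix.vecMul_one, one_smul]
    | succ i ih => rw [pow_succ, ← Matrix.vecMul_vecMul, ih, Matrix.smul_vecMul, hf, smul_smul, pow_succ]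
  rw [Pj, Matrix.vecMul_smul, Matrix.vecMul_sum]
  have h2 : ∀ i ∈ Finset.range p, f ᵥ* ((c⁻¹) ^ i • A ^ i) = f := by
    intro i _
    rw [Matrix.vecMul_smul, h1, smul_smul, ← mul_pow, inv_mul_cancel₀ hc0, one_pow, one_smul]
  rw [Finset.sum_congr rfl h2, Finset.sum_const, Finset.card_range, ← Nat.cast_smul_eq_nsmul K, smul_smul,
    inv_mul_cancel₀ hp, one_smul]

theorem sum_Pj {p : ℕ} (hp : (p : K) ≠ 0) {ω : K} (hω : IsPrimitiveRoot ω p) (hp1 : 1 < p) (A : Matrix ι ι K) :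
    ∑ j ∈ Finset.range p, Pj p (ω ^ j) A = 1 := by
  have h0 : 0 < p := by omega
  simp only [Pj]
  rw [← Finset.smul_sum, Finset.sum_comm]
  have h1 : ∀ i ∈ Finset.range p, ∑ j ∈ Finset.range p, ((ω ^ j)⁻¹) ^ i • A ^ i =
      if i = 0 then (p : K) • (1 : Matrix ι ι K) else 0 := by
    intro i hi
    rw [Finset.mem_range] at hi
    rw [← Finset.sum_smul]
    have h2 : ∀ j ∈ Finset.range p, ((ω ^ j)⁻¹) ^ i = ((ω⁻¹) ^ i) ^ j := by
      intro j _
      rw [inv_pow, inv_pow, inv_pow, ← pow_mul, ← pow_mul, mul_comm]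
    rw [Finset.sum_congr rfl h2]
    split_ifs with h
    · subst h
      rw [pow_zero]
      simp only [one_pow, Finset.sum_const, Finset.card_range, nsmul_eq_mul, mul_one, pow_zero]
    · have h3 : (ω⁻¹) ^ i ≠ 1 := hω.inv.pow_ne_one_of_pos_of_lt h hi
      have h4 : ((ω⁻¹) ^ i) ^ p = 1 := by
        rw [← pow_mul, mul_comm, pow_mul, inv_pow ω p, hω.pow_eq_one, inv_one, one_pow]
      have h5 : ∑ j ∈ Finset.range p, ((ω⁻¹) ^ i) ^ j = 0 := by
        have h6 := mul_geom_sum ((ω⁻¹) ^ i) p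
        rw [h4, sub_self] at h6
        exact (mul_eq_zero.1 h6).resolve_left (sub_ne_zero.2 h3)
      rw [h5, zero_smul]
  rw [Finset.sum_congr rfl h1, Finset.sum_ite_eq' (Finset.range p) 0, if_pos (Finset.mem_range.2 h0), smul_smul,
    inv_mul_cancel₀ hp, one_smul]

/-- An eigenvector with eigenvalue different from a given one. -/
theorem exists_eig {p : ℕ} (hp : (p : K) ≠ 0) {ω : K} (hω : IsPrimitiveRoot ω p) (hp1 : 1 < p) {A : Matrix ι ι K}
    (hA : A ^ p = 1) {a : K} (hns : A ≠ a • 1) : ∃ b : K, b ≠ a ∧ b ^ p = 1 ∧ Pj p b A ≠ 0 := by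
  by_contra hcon
  push Not at hcon
  apply hns
  have h0 : p ≠ 0 := by omega
  have hωp : ∀ j : ℕ, (ω ^ j) ^ p = 1 := by
    intro j
    rw [← pow_mul, mul_comm, pow_mul, hω.pow_eq_one, one_pow]
  have h1 : ∀ j ∈ Finset.range p, A * Pj p (ω ^ j) A = a • Pj p (ω ^ j) A := by
    intro j _
    by_cases h : ω ^ j = a
    · rw [mul_Pj h0 (hωp j) hA, h]
    · rw [hcon _ h (hωp j), mul_zero, smul_zero]
  have h2 := sum_Pj hp hω hp1 A
  calc A = A * ∑ j ∈ Finset.range p, Pj p (ω ^ j) A := by rw [h2, mul_one]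
    _ = a • ∑ j ∈ Finset.range p, Pj p (ω ^ j) A := by
      rw [Finset.mul_sum, Finset.smul_sum]
      exact Finset.sum_congr rfl h1
    _ = a • 1 := by rw [h2]

section Fin

variable [Fintype K] {q : ℕ}

theorem st_pow (hK : Fintype.card K = q ^ 2) (A : Matrix ι ι K) (i : ℕ) : st q (A ^ i) = st q A ^ i := by
  induction i with
  | zero => rw [pow_zero, pow_zero, st_one hK]
  | succ i ih => rw [pow_succ, st_mul hK, ih, pow_succ']

theorem dot_eq (v w : ι → K) (M : Matrix ι ι K) : v ⬝ᵥ (M *ᵥ w) = (v ᵥ* M) ⬝ᵥ w := Matrix.dotProduct_mulVec v M w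

/-- rows -/
theorem du_eig (hK : Fintype.card K = q ^ 2) {A : Matrix ι ι K} (hA : st q A * A = 1) {x : ι → K} {c d : K}
    (hc : c ^ q * d = 1) (hx : A *ᵥ x = c • x) : du q x ᵥ* A = d • du q x := by
  have hc' : d ^ q * c = 1 := by
    have h1 := congrArg (fun x => x ^ q) hc
    simp only [mul_pow, pow_pow_q hK, one_pow] at h1
    rw [mul_comm]; exact h1
  have h1 : st q A *ᵥ x = d ^ q • x := by
    have h2 : st q A *ᵥ (A *ᵥ x) = x := by rw [Matrix.mulVec_mulVec, hA, Matrix.one_mulVec]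
    rw [hx, Matrix.mulVec_smul] at h2
    have h3 : d ^ q • (c • (st q A *ᵥ x)) = d ^ q • x := by rw [h2]
    rw [smul_smul, hc', one_smul] at h3
    exact h3
  have h4 := congrArg (du q) h1
  rw [du_mulVec hK, st_st hK, du_smul, pow_pow_q hK] at h4
  exact h4

theorem orth (hK : Fintype.card K = q ^ 2) {A : Matrix ι ι K} (hA : st q A * A = 1) {x y : ι → K} {c d e : K}
    (hc : c ^ q * d = 1) (hx : A *ᵥ x = c • x) (hy : A *ᵥ y = e • y) (hde : d ≠ e) : du q x ⬝ᵥ y = 0 := by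
  have h1 := du_eig hK hA hc hx
  have h2 : du q x ⬝ᵥ (A *ᵥ y) = e * (du q x ⬝ᵥ y) := by
    rw [hy, dotProduct_smul, smul_eq_mul]
  rw [dot_eq, h1, smul_dotProduct, smul_eq_mul] at h2
  have h3 : (d - e) * (du q x ⬝ᵥ y) = 0 := by linear_combination h2
  exact (mul_eq_zero.1 h3).resolve_left (sub_ne_zero.2 hde)

/-- A nonzero hermitian matrix takes a nonzero value. -/
theorem exists_aniso (hK : Fintype.card K = q ^ 2) {P : Matrix ι ι K} (hP0 : P ≠ 0) :
    ∃ x : ι → K, du q x ⬝ᵥ (P *ᵥ x) ≠ 0 := by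
  by_contra hcon
  push Not at hcon
  apply hP0
  have h1 : ∀ x y : ι → K, du q x ⬝ᵥ (P *ᵥ y) + du q y ⬝ᵥ (P *ᵥ x) = 0 := by
    intro x y
    have h2 := hcon (x + y)
    rw [Matrix.mulVec_add, du_add hK, add_dotProduct, dotProduct_add, dotProduct_add, hcon x, hcon y] at h2
    linear_combination h2
  obtain ⟨c, hc⟩ := exists_pow_ne hK
  have h3 : ∀ x y : ι → K, du q x ⬝ᵥ (P *ᵥ y) = 0 := by
    intro x y
    have h4 := h1 (c • x) y
    rw [du_smul, Matrix.mulVec_smul, smul_dotProduct, dotProduct_smul, smul_eq_mul, smul_eq_mul] at h4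
    have h5 : (c ^ q - c) * (du q x ⬝ᵥ (P *ᵥ y)) = 0 := by linear_combination h4 - c * h1 x y
    exact (mul_eq_zero.1 h5).resolve_left (sub_ne_zero.2 hc)
  ext i j
  have h6 := h3 (Pi.single i 1) (Pi.single j 1)
  have hq := ClassicalGeometry.GUBasic.two_le hK
  have h7 : du q (Pi.single i 1 : ι → K) = Pi.single i 1 := by
    funext t
    by_cases h : t = i
    · subst h
      simp [du]
    · simp [du, h, zero_pow (show q ≠ 0 by omega)]
  rw [h7, Matrix.mulVec_single_one, single_one_dotProduct] at h6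
  exact h6

/-- The case `p ∣ q + 1`. -/
theorem concl_two (hK : Fintype.card K = q ^ 2) {p : ℕ} (hpp : p.Prime) (hodd : Odd p) (hp : (p : K) ≠ 0)
    (hpq : p ∣ q + 1) {A : Matrix ι ι K} (hA : st q A * A = 1) (hAp : A ^ p = 1) (hns : ∀ c : K, A ≠ c • 1) :
    Concl q A := by
  have hq := ClassicalGeometry.GUBasic.two_le hK
  obtain ⟨ω, hω⟩ := exists_omega (K := K) hpp (by
    rw [hK]
    have : q ^ 2 - 1 = (q + 1) * (q - 1) := by
      have := Nat.sq_sub_sq q 1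
      simpa using this
    rw [this]
    exact Dvd.dvd.mul_right hpq _)
  obtain ⟨a, -, ha, hPa⟩ := exists_eig hp hω hpp.one_lt hAp (hns 0)
  obtain ⟨b, hba, hb, hPb⟩ := exists_eig hp hω hpp.one_lt hAp (hns a)
  have hnorm : ∀ c : K, c ^ p = 1 → c ^ (q + 1) = 1 := by
    intro c hc
    obtain ⟨k, hk⟩ := hpq
    rw [hk, pow_mul, hc, one_pow]
  have hne : ∀ c : K, c ^ p = 1 → c ≠ 0 := by
    rintro c hc rfl
    rw [zero_pow hpp.ne_zero] at hc
    exact zero_ne_one hc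
  have key : ∀ c : K, c ^ p = 1 → Pj p c A ≠ 0 → ∃ v : ι → K, A *ᵥ v = c • v ∧ du q v ⬝ᵥ v = 1 := by
    intro c hc hP
    obtain ⟨x, hx⟩ := exists_aniso hK hP
    have hAP := mul_Pj hpp.ne_zero hc hAp
    set v₀ := Pj p c A *ᵥ x with hv₀
    have h1 : A *ᵥ v₀ = c • v₀ := by rw [hv₀, Matrix.mulVec_mulVec, hAP, Matrix.smul_mulVec]
    have hcq : c ^ q * c = 1 := by rw [← pow_succ]; exact hnorm c hc
    have h2 : du q v₀ ᵥ* Pj p c A = du q v₀ :=
      vecMul_Pj hp (hne c hc) (du_eig hK hA hcq h1)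
    have h3 : du q v₀ ⬝ᵥ v₀ ≠ 0 := by
      intro h
      apply hx
      rw [← du_dot hK] at h ⊢
      have h4 : du q v₀ ⬝ᵥ v₀ = du q v₀ ⬝ᵥ x := by
        conv_lhs => rw [hv₀]
        rw [dot_eq, ← hv₀, h2]
      rw [h4] at h
      rw [h]
    have h5 : (du q v₀ ⬝ᵥ v₀)⁻¹ ^ q = (du q v₀ ⬝ᵥ v₀)⁻¹ := by rw [inv_pow, du_dot hK]
    obtain ⟨l, hl⟩ := exists_norm hK (inv_ne_zero h3) h5
    refine ⟨l • v₀, ?_, ?_⟩
    · rw [Matrix.mulVec_smul, h1, smul_comm]
    · rw [du_smul, smul_dotProduct, dotProduct_smul, smul_smul, hl, smul_eq_mul, inv_mul_cancel₀ h3]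
  obtain ⟨v, hv1, hv2⟩ := key a ha hPa
  obtain ⟨w, hw1, hw2⟩ := key b hb hPb
  have hqa : a ^ q * a = 1 := by rw [← pow_succ]; exact hnorm a ha
  exact swap_orth hK hodd hA hv2 (orth hK hA hqa hv1 hw1 hba.symm) hw2 hba.symm ha hb (hnorm a ha) (hnorm b hb) hv1 hw1

/-- The case `p ∣ q - 1`. -/
theorem concl_hyp (hK : Fintype.card K = q ^ 2) {p : ℕ} (hpp : p.Prime) (hodd : Odd p) (hp : (p : K) ≠ 0)
    (hpq : p ∣ q - 1) {A : Matrix ι ι K} (hA : st q A * A = 1) (hAp : A ^ p = 1) (hns : ∀ c : K, A ≠ c • 1) :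
    Concl q A := by
  have hq := ClassicalGeometry.GUBasic.two_le hK
  obtain ⟨ω, hω⟩ := exists_omega (K := K) hpp (by
    rw [hK]
    have : q ^ 2 - 1 = (q + 1) * (q - 1) := by
      have := Nat.sq_sub_sq q 1
      simpa using this
    rw [this]
    exact Dvd.dvd.mul_left hpq _)
  obtain ⟨a, ha1, ha, hPa⟩ := exists_eig hp hω hpp.one_lt hAp (hns 1)
  have hne : ∀ c : K, c ^ p = 1 → c ≠ 0 := by
    rintro c hc rfl
    rw [zero_pow hpp.ne_zero] at hc
    exact zero_ne_one hc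
  have ha0 := hne a ha
  have hfix : ∀ c : K, c ^ p = 1 → c ^ q = c := by
    intro c hc
    obtain ⟨k, hk⟩ := hpq
    have : q = p * k + 1 := by omega
    rw [this, pow_succ, pow_mul, hc, one_pow, one_mul]
  have hai : (a⁻¹) ^ p = 1 := by rw [inv_pow, ha, inv_one]
  have hab : a ≠ a⁻¹ := by
    intro h
    apply ha1
    have h2 : a ^ 2 = 1 := by
      rw [pow_two]
      nth_rewrite 2 [h]
      exact mul_inv_cancel₀ ha0
    obtain ⟨j, hj⟩ := hodd
    rw [hj, pow_succ, pow_mul, h2, one_pow, one_mul] at ha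
    exact ha
  -- an eigenvector for `a`
  obtain ⟨x, hx⟩ : ∃ x : ι → K, Pj p a A *ᵥ x ≠ 0 := by
    by_contra hcon
    push Not at hcon
    apply hPa
    ext i j
    have := congrFun (hcon (Pi.single j 1)) i
    rw [Matrix.mulVec_single_one] at this
    exact this
  set v := Pj p a A *ᵥ x with hv
  have hv1 : A *ᵥ v = a • v := by rw [hv, Matrix.mulVec_mulVec, mul_Pj hpp.ne_zero ha hAp, Matrix.smul_mulVec]
  have e1 : a ^ q * a⁻¹ = 1 := by rw [hfix a ha, mul_inv_cancel₀ ha0]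
  have e2 : (a⁻¹) ^ q * a = 1 := by rw [hfix _ hai, inv_mul_cancel₀ ha0]
  have hdv : du q v ᵥ* A = a⁻¹ • du q v := du_eig hK hA e1 hv1
  have hdv2 : du q v ᵥ* Pj p a⁻¹ A = du q v := vecMul_Pj hp (inv_ne_zero ha0) hdv
  obtain ⟨i, hi⟩ : ∃ i, v i ≠ 0 := by
    by_contra hcon
    push Not at hcon
    exact hx (funext hcon)
  set w : ι → K := Pj p a⁻¹ A *ᵥ ((v i ^ q)⁻¹ • Pi.single i 1) with hw
  have hw1 : A *ᵥ w = a⁻¹ • w := by rw [hw, Matrix.mulVec_mulVec, mul_Pj hpp.ne_zero hai hAp, Matrix.smul_mulVec]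
  have hvw : du q v ⬝ᵥ w = 1 := by
    rw [hw, dot_eq, hdv2, dotProduct_smul, dotProduct_single_one, smul_eq_mul]
    exact inv_mul_cancel₀ (pow_ne_zero _ hi)
  have hm1 : (-1 : K) ^ (q + 1) = 1 := by
    obtain ⟨σ, hσ⟩ := ClassicalGeometry.GUBasic.exists_powHom hK
    rw [pow_succ, ← hσ, map_neg, map_one]
    ring
  obtain ⟨l, hl0, hl⟩ := exists_h90 hK hm1
  have hl' : l ^ q = -l := by linear_combination hl
  exact swap_hyp hK hodd hA (orth hK hA e1 hv1 hv1 hab.symm) hvw (orth hK hA e2 hw1 hw1 hab) hab ha hai e1 hv1 hw1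
    hl0 hl'

end Fin

end Cfsg.Agent.H127.ZPsu
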